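import Cfsg.Agent.Lib.LocalEven.TwoFactor.Gen

/-!
Generated conjugations when `C_S(O₂(G)) ≤ O₂(G)`.
-/

set_option autoImplicit false
set_option linter.style.haveILetI false
set_option linter.unusedSectionVars false

namespace CfsgLib.LocalEven.TwoFactor

open Subgroup CfsgLib.Solvable
open scoped commutatorElement

universe u

variable {G : Type u} [Group G] [Finite G]

/-- A 2-group normalised modulo a normal subgroup of odd order. -/
theorem exists_lift_normalizer {O T : Subgroup G} [O.Normal] (hO : (Nat.card O).Coprime 2) (hT : IsPGroup 2 T)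
    {l : G} (h : ∀ t ∈ T, l * t * l⁻¹ ∈ O ⊔ T) : ∃ o ∈ O, o * l ∈ normalizer (T : Set G) := by
  haveI : Fact (Nat.Prime 2) := ⟨Nat.prime_two⟩
  have hTX : SylowIn.IsSylowIn 2 T (O ⊔ T) := by
    refine ⟨le_sup_right, hT, fun V hV hV2 hTV => le_antisymm ?_ hTV⟩
    intro v hv
    have hv' := hV hv
    rw [← SetLike.mem_coe, normal_mul] at hv'
    obtain ⟨o, ho, t, ht, rfl⟩ := hv'
    have : o ∈ V ⊓ O := mem_inf.2 ⟨by simpa using mul_mem hv (inv_mem (hTV ht)), ho⟩
    rw [coprime_of_two hV2 hO, mem_bot] at this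
    subst this
    simpa using ht
  obtain ⟨k, hk, hkT⟩ := CfsgLib.Fsys.sylow_conjugate_into hTX
    (show Cj T l ≤ O ⊔ T from cj_le_iff.2 h) (hT.map _)
  rw [← SetLike.mem_coe, sup_comm, mul_normal] at hk
  obtain ⟨t, ht, o, ho, rfl⟩ := hk
  refine ⟨o, ho, mem_normalizer_of_maps fun x hx => ?_⟩
  have h1 : t * o * (l * x * l⁻¹) * (t * o)⁻¹ ∈ T := hkT (mem_cj (g := t * o) (mem_cj (g := l) hx))
  rw [show o * l * x * (o * l)⁻¹ = t⁻¹ * (t * o * (l * x * l⁻¹) * (t * o)⁻¹) * t by group]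
  exact mul_mem (mul_mem (inv_mem ht) h1) ht

/-- `C(Q)` when its Sylow 2-subgroup is central. -/
theorem centralizer_le_core_sup (S : Sylow 2 G)
    (hB : (S : Subgroup G) ⊓ centralizer (Cfsg.pCore 2 G : Set G) ≤ Cfsg.pCore 2 G) :
    centralizer (Cfsg.pCore 2 G : Set G) ≤ Cfsg.pPrimeCore 2 G ⊔ Cfsg.pCore 2 G := by
  haveI : Fact (Nat.Prime 2) := ⟨Nat.prime_two⟩
  haveI : (centralizer (Cfsg.pCore 2 G : Set G)).Normal := Subgroup.normal_centralizer
  set C := centralizer (Cfsg.pCore 2 G : Set G) with hC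
  have hP : SylowIn.IsSylowIn 2 ((S : Subgroup G) ⊓ C) C :=
    CfsgLib.Fsys.isSylowIn_inf (isSylowIn_top S) le_top (by rw [normalizer_eq_top])
  set P := hP.toSylow
  have hPc : ∀ p ∈ (P : Subgroup C), ∀ x : C, p * x = x * p := fun p hp x =>
    Subtype.ext (mem_centralizer_iff.1 x.2 p (hB hp))
  have hle : normalizer ((P : Subgroup C) : Set C) ≤ centralizer ((P : Subgroup C) : Set C) := fun x _ =>
    mem_centralizer_iff.2 fun p hp => hPc p hp x
  set K := (MonoidHom.transferSylow P hle).ker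
  have hodd : ∀ k ∈ K, Odd (orderOf k) := fun k hk => by
    refine Nat.not_even_iff_odd.1 fun he => MonoidHom.not_dvd_card_ker_transferSylow P hle ?_
    exact (even_iff_two_dvd.1 he).trans (Subgroup.orderOf_dvd_natCard _ hk)
  have hsup : K ⊔ (P : Subgroup C) = ⊤ := (MonoidHom.ker_transferSylow_isComplement' P hle).sup_eq_top
  haveI : (K.map C.subtype).Normal := ⟨by
    rintro _ ⟨k, hk, rfl⟩ g
    refine ⟨⟨g * k * g⁻¹, (inferInstance : C.Normal).conj_mem k k.2 g⟩, ?_, rfl⟩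
    refine mem_of_odd P.2 hsup ?_
    rw [← Subgroup.orderOf_coe]
    show Odd (orderOf (MulAut.conj g (k : G)))
    rw [MulEquiv.orderOf_eq, Subgroup.orderOf_coe]
    exact hodd k hk⟩
  have hKO : K.map C.subtype ≤ Cfsg.pPrimeCore 2 G := Cores.le_pPrimeCore (by
    rw [Subgroup.card_map_of_injective C.subtype_injective]
    exact (Nat.prime_two.coprime_iff_not_dvd.2 (MonoidHom.not_dvd_card_ker_transferSylow P hle)).symm)
  intro x hx
  have hx' : (⟨x, hx⟩ : C) ∈ ((K ⊔ (P : Subgroup C) : Subgroup C) : Set C) := by rw [hsup]; trivial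
  rw [normal_mul] at hx'
  obtain ⟨k, hk, p, hp, e⟩ := hx'
  rw [show x = (k : G) * p from (congrArg Subtype.val e).symm]
  exact mul_mem (mem_sup_left (hKO ⟨k, hk, rfl⟩)) (mem_sup_right (hB hp))

/-- The constrained case. -/
theorem gen_constrained (hfree : ¬ Cfsg.Involves (Equiv.Perm (Fin 4)) G) (hs : HSec G) (S : Sylow 2 G)
    (hB : (S : Subgroup G) ⊓ centralizer (Cfsg.pCore 2 G : Set G) ≤ Cfsg.pCore 2 G) :
    GenAll (S : Subgroup G) := by
  haveI : Fact (Nat.Prime 2) := ⟨Nat.prime_two⟩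
  set O := Cfsg.pPrimeCore 2 G
  set Q := Cfsg.pCore 2 G
  have hO : (Nat.card O).Coprime 2 := Cores.coprime_card_pPrimeCore 2
  set q := QuotientGroup.mk' O
  have hqs : Function.Surjective q := QuotientGroup.mk'_surjective O
  have hqO : ∀ x, q x = 1 ↔ x ∈ O := fun x => QuotientGroup.eq_one_iff x
  have hQC : centralizer (Cfsg.pCore 2 (G ⧸ O) : Set (G ⧸ O)) ≤ Cfsg.pCore 2 (G ⧸ O) := by
    haveI : (Q.map q).Normal := Normal.map inferInstance q hqs
    have hQq : Q.map q ≤ Cfsg.pCore 2 (G ⧸ O) := Cores.le_pCore ((Cores.isPGroup_pCore 2).map q)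
    refine (centralizer_le (by exact_mod_cast hQq)).trans ?_
    intro y hy
    obtain ⟨x, rfl⟩ := hqs y
    have hx : x ∈ centralizer (Q : Set G) := mem_centralizer_iff.2 fun z hz => by
      have h1 : x * z * x⁻¹ * z⁻¹ ∈ Q ⊓ O := by
        refine mem_inf.2 ⟨mul_mem ((inferInstance : Q.Normal).conj_mem z hz x) (inv_mem hz), ?_⟩
        rw [← hqO, map_mul, map_mul, map_mul, map_inv, map_inv,
          ← mem_centralizer_iff.1 hy (q z) ⟨z, hz, rfl⟩, mul_inv_cancel_right, mul_inv_cancel]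
      rw [coprime_of_two (Cores.isPGroup_pCore 2) hO, mem_bot] at h1
      exact (mul_inv_eq_iff_eq_mul.1 (mul_inv_eq_one.1 h1)).symm
    have := centralizer_le_core_sup S hB hx
    rw [← SetLike.mem_coe, normal_mul] at this
    obtain ⟨o, ho, z, hz, rfl⟩ := this
    refine hQq ⟨z, hz, ?_⟩
    rw [map_mul, (hqO o).2 ho, one_mul]
  have hG : Good (G ⧸ O) := ⟨fun hi => hfree (CfsgLib.Fsys.involves_of_surjective hqs hi), hs.kg q hqs hQC⟩
  set f := q.comp (S : Subgroup G).subtype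
  have hf : Function.Injective f := fun a b hab => by
    have h1 : (a : G) * (b : G)⁻¹ ∈ (S : Subgroup G) ⊓ O := mem_inf.2
      ⟨mul_mem a.2 (inv_mem b.2), (hqO _).1 (by rw [map_mul, map_inv]; exact mul_inv_eq_one.2 hab)⟩
    rw [coprime_of_two S.2 hO, mem_bot] at h1
    exact Subtype.ext (mul_inv_eq_one.1 h1)
  set B := BHat (S : Subgroup G) with hBdef
  set J := JE (S : Subgroup G) with hJdef
  have hS' : ((S.mapSurjective hqs : Sylow 2 (G ⧸ O)) : Subgroup (G ⧸ O)) = (⊤ : Subgroup (S : Subgroup G)).map f := by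
    rw [Sylow.coe_mapSurjective, ← MonoidHom.range_eq_map, MonoidHom.range_comp, range_subtype]
  have htop : (⊤ : Subgroup (S : Subgroup G)).map (S : Subgroup G).subtype = (S : Subgroup G) := by
    rw [← MonoidHom.range_eq_map, range_subtype]
  have hqB : BHat ((S.mapSurjective hqs : Sylow 2 (G ⧸ O)) : Subgroup (G ⧸ O)) = B.map q := by
    rw [hS', bhat_map hf, ← map_map, ← bhat_map (S : Subgroup G).subtype_injective, htop]
  have hqJ : JE ((S.mapSurjective hqs : Sylow 2 (G ⧸ O)) : Subgroup (G ⧸ O)) = J.map q := by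
    rw [hS', je_map hf, ← map_map, ← je_map (S : Subgroup G).subtype_injective, htop]
  have hBS : B ≤ (S : Subgroup G) := (bhat_le _).trans (jhat_le _)
  have hJS : J ≤ (S : Subgroup G) := je_le _
  have hSB : (S : Subgroup G) ≤ normalizer (B : Set G) := le_normalizer.trans (le_normalizer_bhat _)
  have hSCB : (S : Subgroup G) ≤ normalizer (centralizer (B : Set G) : Set G) := fun s hs =>
    mem_normalizer_iff.2 fun x => by
      have key : ∀ (s x : G), s ∈ normalizer (B : Set G) → x ∈ centralizer (B : Set G) →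
          s * x * s⁻¹ ∈ centralizer (B : Set G) := fun s x hs hx => mem_centralizer_iff.2 fun b hb => by
        have h1 := mem_centralizer_iff.1 hx (s⁻¹ * b * s) ((mem_normalizer_iff''.1 hs b).1 hb)
        calc b * (s * x * s⁻¹) = s * (s⁻¹ * b * s * x) * s⁻¹ := by group
          _ = s * (x * (s⁻¹ * b * s)) * s⁻¹ := by rw [h1]
          _ = _ := by group
      exact ⟨key s x (hSB hs), fun h => by simpa [mul_assoc] using key s⁻¹ _ (inv_mem (hSB hs)) h⟩
  intro U g hU hm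
  obtain ⟨cb, hcb, nb, hnb, hg⟩ := bhat_factor _ rfl hG hQC (S.mapSurjective hqs) (q g)
  rw [hqB] at hcb
  rw [hqJ] at hnb
  have hlift : ∀ (T : Subgroup G), T ≤ (S : Subgroup G) → ∀ y ∈ normalizer (T.map q : Set (G ⧸ O)),
      ∃ x ∈ normalizer (T : Set G), q x = y := by
    intro T hT y hy
    obtain ⟨l, rfl⟩ := hqs y
    obtain ⟨o, ho, hol⟩ := exists_lift_normalizer (l := l) hO (S.2.to_le hT) fun t ht => by
      obtain ⟨t', ht', e⟩ := (mem_normalizer_iff.1 hy (q t)).1 ⟨t, ht, rfl⟩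
      have h1 : l * t * l⁻¹ * t'⁻¹ ∈ O :=
        (hqO _).1 (by rw [map_mul, map_mul, map_mul, map_inv, map_inv, e, mul_inv_cancel])
      rw [← inv_mul_cancel_right (l * t * l⁻¹) t']
      exact mul_mem (mem_sup_left h1) (mem_sup_right ht')
    exact ⟨o * l, hol, by rw [map_mul, (hqO o).2 ho, one_mul]⟩
  obtain ⟨n, hn, rfl⟩ := hlift J hJS nb hnb
  obtain ⟨c, hc, rfl⟩ := hlift B hBS cb (centralizer_le_normalizer _ hcb)
  have hcC : c ∈ centralizer (B : Set G) := mem_centralizer_iff.2 fun b hb => by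
    have h1 : c * b * c⁻¹ * b⁻¹ ∈ (S : Subgroup G) ⊓ O := by
      refine mem_inf.2 ⟨mul_mem (hBS ((mem_normalizer_iff.1 hc b).1 hb)) (inv_mem (hBS hb)), ?_⟩
      rw [← hqO, map_mul, map_mul, map_mul, map_inv, map_inv,
        ← mem_centralizer_iff.1 hcb (q b) ⟨b, hb, rfl⟩, mul_inv_cancel_right, mul_inv_cancel]
    rw [coprime_of_two S.2 hO, mem_bot] at h1
    exact (mul_inv_eq_iff_eq_mul.1 (mul_inv_eq_one.1 h1)).symm
  set o := g * (c * n)⁻¹ with hodef
  have ho : o ∈ O := (hqO o).1 (by rw [map_mul, map_inv, map_mul, hg, mul_inv_cancel])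
  have hg' : g = o * c * n := by rw [hodef]; group
  have hSK : (S : Subgroup G) ≤ normalizer ((O ⊔ centralizer (B : Set G) : Subgroup G) : Set G) := by
    intro s hs
    have h1 : s ∈ normalizer (O : Set G) := by rw [normalizer_eq_top]; trivial
    refine Subgroup.mem_normalizer_iff_map_conj_eq.2 ?_
    show (O ⊔ centralizer (B : Set G)).map (MulAut.conj s).toMonoidHom = _
    rw [Subgroup.map_sup, show O.map (MulAut.conj s).toMonoidHom = O from cj_eq_of_mem h1,
      show (centralizer (B : Set G)).map (MulAut.conj s).toMonoidHom = _ from cj_eq_of_mem (hSCB hs)]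
  obtain ⟨k1, hk1, n1, hn1, e1, hm1⟩ := split S hSK (le_normalizer.trans (normalizer_le_je _))
    (mul_mem (mem_sup_left ho) (mem_sup_right hcC)) hn hU (hg' ▸ hm)
  have G1 : Gen (S : Subgroup G) U n1 := .base U n1 hU hm1 (Or.inr hn1)
  have hmk : Maps (S : Subgroup G) (Cj U n1) k1 := by
    rintro _ ⟨u, hu, rfl⟩
    show k1 * (n1 * u * n1⁻¹) * k1⁻¹ ∈ (S : Subgroup G)
    rw [show k1 * (n1 * u * n1⁻¹) * k1⁻¹ = k1 * n1 * u * (k1 * n1)⁻¹ by group, ← e1, ← hg']
    exact hm u hu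
  rw [← SetLike.mem_coe, normal_mul] at hk1
  obtain ⟨o1, ho1, c1, hc1, rfl⟩ := hk1
  obtain ⟨k2, hk2, n2, hn2, e2, hm2⟩ := split S (K := O) (N := centralizer (B : Set G) ⊔ (S : Subgroup G))
    (by rw [normalizer_eq_top]; exact le_top) le_sup_right ho1 (mem_sup_left hc1) G1.cj_le hmk
  rw [← SetLike.mem_coe, coe_mul_of_right_le_normalizer_left _ _ hSCB] at hn2
  obtain ⟨c2, hc2, s, hs', rfl⟩ := hn2
  have hmaps : Maps (S : Subgroup G) (Cj U n1) s := fun x hx =>
    mul_mem (mul_mem hs' (G1.cj_le hx)) (inv_mem hs')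
  have G2 : Gen (S : Subgroup G) (Cj U n1) s :=
    .base _ s G1.cj_le hmaps (Or.inr (normalizer_le_je _ (le_normalizer hs')))
  have G3 : Gen (S : Subgroup G) (Cj (Cj U n1) s) c2 := .base _ c2 G2.cj_le (by
    rintro _ ⟨x, hx, rfl⟩
    show c2 * (s * x * s⁻¹) * c2⁻¹ ∈ (S : Subgroup G)
    rw [show c2 * (s * x * s⁻¹) * c2⁻¹ = c2 * s * x * (c2 * s)⁻¹ by group]
    exact hm2 x hx) (Or.inl hc2)
  have G4 : Gen (S : Subgroup G) (Cj U n1) (c2 * s) := G2.trans G3 le_rfl
  have htriv : ∀ x ∈ Cj U n1, c2 * s * x * (c2 * s)⁻¹ = o1 * c1 * x * (o1 * c1)⁻¹ := by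
    intro x hx
    set y := c2 * s * x * (c2 * s)⁻¹ with hy
    have hy' : o1 * c1 * x * (o1 * c1)⁻¹ = k2 * y * k2⁻¹ := by rw [e2, hy]; group
    have h1 : k2 * y * k2⁻¹ * y⁻¹ ∈ (S : Subgroup G) ⊓ O := by
      refine mem_inf.2 ⟨mul_mem (hy' ▸ hmk x hx) (inv_mem (hm2 x hx)), ?_⟩
      rw [show k2 * y * k2⁻¹ * y⁻¹ = k2 * (y * k2⁻¹ * y⁻¹) by group]
      exact mul_mem hk2 ((inferInstance : O.Normal).conj_mem _ (inv_mem hk2) y)
    rw [coprime_of_two S.2 hO, mem_bot, mul_inv_eq_one] at h1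
    rw [hy', h1]
  have := G1.trans (Gen.congr _ _ _ htriv G4) le_rfl
  rwa [← e1, ← hg'] at this

end CfsgLib.LocalEven.TwoFactor
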