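import Cfsg.Prelude.Def_Local
import Cfsg.Prelude.Def_LocalEven
import Cfsg.Agent.Lib.KnownB.SuzukiSubgroupsTransfer
import Cfsg.Agent.Lib.KnownB.SuzukiAut
import Cfsg.Agent.Lib.Classical.Dickson.MinimalSimple
import Cfsg.Agent.Lib.Classical.Dickson.PSL
import Cfsg.Agent.Lib.FusionSystem.SectionFree
import Cfsg.Agent.Lib.FusionSystem.LocalModels
import Cfsg.Agent.Lib.Char.FewSylow.Cubed
import Cfsg.Agent.S0307
import Cfsg.Agent.S2759
import Cfsg.Agent.S0251
import Cfsg.Agent.Lib.PGroup.SzSolubilizerMain

/-!
The hypothesis "`S₄`-free with known nonabelian simple sections" and its inheritance; the composition factors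
determine the simple sections.
-/

set_option autoImplicit false
set_option linter.style.haveILetI false

namespace CfsgLib.LocalEven.TwoFactor

open Subgroup

universe u v

/-- Every nonabelian simple section is a Suzuki group or a `PSL₂(3^odd)`. -/
abbrev KG (G : Type u) [Group G] : Prop :=
  Cfsg.IsKGroupWith (fun X => Cfsg.IsSuzukiOrPSL2OddPowerThree X) G

/-- Composition factors are Suzuki groups or `PSL₂(3^odd)`. -/
abbrev CG (G : Type u) [Group G] : Prop :=
  Cfsg.IsCompositionKGroupWith (fun X => Cfsg.IsSuzukiOrPSL2OddPowerThree X) G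

theorem known_congr {X : Type u} {Y : Type v} [Group X] [Group Y] (e : X ≃* Y)
    (h : Cfsg.IsSuzukiOrPSL2OddPowerThree X) : Cfsg.IsSuzukiOrPSL2OddPowerThree Y := by
  rcases h with ⟨F, i1, i2, m, hm, hF, ⟨f⟩⟩ | ⟨F, i1, i2, n, hF, ⟨f⟩⟩
  · exact Or.inl ⟨F, i1, i2, m, hm, hF, ⟨e.symm.trans f⟩⟩
  · exact Or.inr ⟨F, i1, i2, n, hF, ⟨e.symm.trans f⟩⟩

theorem KG.comp {G : Type u} [Group G] (h : KG G) : CG G := fun H _ N _ hs hn => h H N hs hn

/-- A surjection from a subgroup onto a nonabelian simple group. -/
theorem KG.of_section {G : Type u} [Group G] (h : KG G) {X : Type v} [Group X] [IsSimpleGroup X]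
    (hn : ¬ IsMulCommutative X) {H : Subgroup G} (f : H →* X) (hf : Function.Surjective f) :
    Cfsg.IsSuzukiOrPSL2OddPowerThree X := by
  set e := QuotientGroup.quotientKerEquivOfSurjective f hf
  refine known_congr e (h H f.ker ?_ ?_)
  · exact e.isSimpleGroup
  · intro hc
    exact hn ⟨⟨fun a b => e.symm.injective (by rw [map_mul, map_mul]; exact hc.is_comm.comm _ _)⟩⟩

theorem KG.subgroup {G : Type u} [Group G] (h : KG G) (K : Subgroup G) : KG K := by
  intro H N _ hs hn
  haveI := hs
  exact h.of_section hn
    ((QuotientGroup.mk' N).comp (H.equivMapOfInjective K.subtype K.subtype_injective).symm.toMonoidHom)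
    ((QuotientGroup.mk'_surjective N).comp (MulEquiv.surjective _))

theorem KG.of_surjective {G : Type u} {L : Type v} [Group G] [Group L] (h : KG G) (f : G →* L)
    (hf : Function.Surjective f) : KG L := by
  intro H N _ hs hn
  haveI := hs
  exact h.of_section hn ((QuotientGroup.mk' N).comp (f.subgroupComap H))
    ((QuotientGroup.mk'_surjective N).comp (f.subgroupComap_surjective_of_surjective H hf))

theorem KG.of_injective {G : Type u} {L : Type v} [Group G] [Group L] (h : KG G) (f : L →* G)
    (hf : Function.Injective f) : KG L :=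
  (h.subgroup f.range).of_surjective (MonoidHom.ofInjective hf).symm.toMonoidHom (MulEquiv.surjective _)

/-- Extensions. -/
theorem KG.extension {G : Type u} {L : Type v} [Group G] [Group L] (f : G →* L) (h1 : KG f.ker) (h2 : KG L) :
    KG G := by
  intro H N _ hs hn
  haveI := hs
  set U := (f.ker).subgroupOf H
  haveI : U.Normal := inferInstance
  rcases (inferInstance : (U.map (QuotientGroup.mk' N)).Normal) |> fun h =>
      (Subgroup.Normal.map inferInstance (QuotientGroup.mk' N) (QuotientGroup.mk'_surjective N) :
        (U.map (QuotientGroup.mk' N)).Normal).eq_bot_or_eq_top with hb | ht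
  · rw [Subgroup.map_eq_bot_iff, QuotientGroup.ker_mk'] at hb
    let g : H →* L := f.comp H.subtype
    have hker : g.ker ≤ N := fun x hx => hb hx
    let q : g.range →* H ⧸ N :=
      (QuotientGroup.map g.ker N (MonoidHom.id H) hker).comp (QuotientGroup.quotientKerEquivRange g).symm.toMonoidHom
    refine h2.of_section hn q fun y => ?_
    obtain ⟨x, rfl⟩ := QuotientGroup.mk'_surjective N y
    exact ⟨QuotientGroup.quotientKerEquivRange g (QuotientGroup.mk x), by simp [q]; rfl⟩
  · let H' : Subgroup f.ker := H.subgroupOf f.ker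
    let q : H' →* H ⧸ N := (QuotientGroup.mk' N).comp
      { toFun := fun x => ⟨((x : f.ker) : G), x.2⟩
        map_one' := rfl
        map_mul' := fun _ _ => rfl }
    refine h1.of_section hn q fun y => ?_
    obtain ⟨x, hx, rfl⟩ := (ht ▸ mem_top y : y ∈ U.map (QuotientGroup.mk' N))
    exact ⟨⟨⟨(x : G), hx⟩, x.2⟩, rfl⟩

theorem KG.of_solvable {G : Type u} [Group G] (h : Group.IsSolvable G) : KG G := by
  intro H N _ hs hn
  haveI := h
  haveI : Group.IsSolvable (H ⧸ N) :=
    solvable_of_surjective (QuotientGroup.mk'_surjective N)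
  exact absurd ⟨⟨IsSimpleGroup.comm_iff_isSolvable.2 inferInstance⟩⟩ hn

/-- A group with a cyclic self-centralised normal subgroup is soluble. -/
theorem solvable_of_cyclic {G : Type u} [Group G] {U M : Subgroup G} [IsCyclic U]
    (hM : M ≤ normalizer (U : Set G)) (hC : centralizer (U : Set G) ≤ U) : Group.IsSolvable M := by
  let f : M →* MulAut U := (normalizerMonoidHom U).comp (inclusion hM)
  let e := IsCyclic.mulAutMulEquiv U
  haveI : Group.IsSolvable (MulAut U) := by
    apply Group.isSolvable_of_comm
    intro a b
    exact e.injective (by rw [map_mul, map_mul, mul_comm])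
  haveI : Group.IsSolvable (U.subgroupOf M) := by
    apply Group.isSolvable_of_comm
    rintro ⟨⟨a, _⟩, ha⟩ ⟨⟨b, _⟩, hb⟩
    exact Subtype.ext (Subtype.ext (congrArg Subtype.val
      ((IsCyclic.isMulCommutative : IsMulCommutative U).is_comm.comm ⟨a, ha⟩ ⟨b, hb⟩) :))
  refine solvable_of_ker_le_range (U.subgroupOf M).subtype f fun x hx => ?_
  rw [range_subtype]
  refine mem_subgroupOf.2 (hC (mem_centralizer_iff.2 fun u hu => ?_))
  have h1 := congrArg Subtype.val (DFunLike.congr_fun hx ⟨u, hu⟩)
  change (x : G) * u * (x : G)⁻¹ = u at h1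
  calc u * (x : G) = ((x : G) * u * (x : G)⁻¹) * x := by rw [h1]
    _ = _ := by group

theorem solvable_equiv {G : Type u} {L : Type v} [Group G] [Group L] (e : G ≃* L) (h : Group.IsSolvable L) :
    Group.IsSolvable G := by
  haveI := h
  exact solvable_of_solvable_injective (f := e.toMonoidHom) e.injective

/-- A subgroup of a soluble subgroup. -/
theorem solvable_le {G : Type u} [Group G] {H K : Subgroup G} (hle : H ≤ K) (h : Group.IsSolvable K) :
    Group.IsSolvable H := by
  haveI := h
  exact solvable_of_solvable_injective (Subgroup.inclusion_injective hle)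

/-- A simple group with all proper subgroups in the class. -/
theorem KG.of_simple {G : Type u} [Group G] [IsSimpleGroup G] (hK : Cfsg.IsSuzukiOrPSL2OddPowerThree G)
    (h : ∀ H : Subgroup G, H ≠ ⊤ → KG H) : KG G := by
  intro H N _ hs hn
  by_cases hH : H = ⊤
  · subst hH
    rcases (Subgroup.Normal.map (inferInstance : N.Normal) (topEquiv (G := G)).toMonoidHom
      (MulEquiv.surjective _)).eq_bot_or_eq_top with hb | ht
    · rw [Subgroup.map_eq_bot_iff_of_injective _ (MulEquiv.injective _)] at hb
      subst hb
      exact known_congr ((topEquiv (G := G)).symm.trans QuotientGroup.quotientBot.symm) hK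
    · exfalso
      have e : N = ⊤ := Subgroup.map_injective (MulEquiv.injective (topEquiv (G := G)))
        (ht.trans (Subgroup.map_top_of_surjective _ (MulEquiv.surjective _)).symm)
      subst e
      haveI : Subsingleton ((⊤ : Subgroup G) ⧸ (⊤ : Subgroup (⊤ : Subgroup G))) :=
        QuotientGroup.subsingleton_quotient_top
      exact hn ⟨⟨fun a b => Subsingleton.elim _ _⟩⟩
  · haveI := hs
    haveI := h H hH
    exact (h H hH).of_section hn ((QuotientGroup.mk' N).comp (topEquiv (G := H)).toMonoidHom)
      ((QuotientGroup.mk'_surjective N).comp (MulEquiv.surjective _))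

section PSL

open Matrix OnePoint MulAction CfsgLib.Classical.Dickson
open scoped MatrixGroups

theorem psl_solvable_three (K : Type u) [Field K] [Fintype K] (h : Fintype.card K = 3) :
    Group.IsSolvable (ProjectiveSpecialLinearGroup (Fin 2) K) :=
  (Cfsg.Agent.S0251.result (F := K) h).elim fun e => solvable_equiv e solvable_alt_four

theorem psl_kg : ∀ (q : ℕ) (F : Type) [Field F] [Fintype F] (n : ℕ), Fintype.card F = q →
    q = 3 ^ (2 * n + 1) → KG (ProjectiveSpecialLinearGroup (Fin 2) F) := by
  intro q
  induction q using Nat.strong_induction_on with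
  | _ q IH =>
    intro F _ _ n hF hq
    classical
    by_cases h3 : q = 3
    · exact KG.of_solvable (psl_solvable_three F (hF.trans h3))
    have hn : 1 ≤ n := by
      by_contra hn
      obtain rfl : n = 0 := by omega
      exact h3 (hq.trans (by norm_num))
    have h27 : 27 ≤ Fintype.card F := by
      rw [hF, hq]
      exact le_trans (by norm_num) (Nat.pow_le_pow_right (show 0 < 3 by norm_num) (show 3 ≤ 2 * n + 1 by omega))
    haveI := CfsgLib.Classical.psl_fin_isSimpleGroup (F := F) (le_refl 2) (fun _ => by omega)
    haveI hp : Fact (Nat.Prime 3) := ⟨Nat.prime_three⟩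
    haveI : CharP F 3 := charP_of_card_eq_prime_pow (hF.trans hq)
    refine KG.of_simple (Or.inr ⟨F, inferInstance, inferInstance, n, hF.trans hq, ⟨MulEquiv.refl _⟩⟩)
      fun H hH => ?_
    have e := inPGLEquiv H
    have hsol : Group.IsSolvable (inPGL H) → KG H := fun h => KG.of_solvable (solvable_equiv e h)
    have sub : ∀ A : Subfield F, A ≠ ⊤ → KG (ProjectiveSpecialLinearGroup (Fin 2) A) := by
      intro A hA
      haveI := Fintype.ofFinite A
      obtain ⟨d, hd⟩ : ∃ d, Fintype.card F = Nat.card A ^ d :=
        ⟨Module.finrank A F, by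
          rw [← Nat.card_eq_fintype_card]; exact Module.natCard_eq_pow_finrank⟩
      obtain ⟨s, -, hs⟩ := (Nat.dvd_prime_pow Nat.prime_three).1
        (show Nat.card A ∣ 3 ^ (2 * n + 1) by
          rw [← hq, ← hF, hd]
          refine dvd_pow_self _ fun h0 => ?_
          rw [h0, pow_zero] at hd
          omega)
      rw [hs, ← pow_mul, hF, hq] at hd
      have hd' : 2 * n + 1 = s * d := Nat.pow_right_injective (by norm_num) hd
      obtain ⟨k, hk⟩ : Odd s := (Nat.odd_mul.1 (hd' ▸ odd_two_mul_add_one n)).1
      have hlt : Fintype.card A < q := by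
        rw [← hF]
        refine Fintype.card_lt_of_injective_not_surjective _ Subtype.val_injective fun hsur => hA ?_
        exact eq_top_iff.2 fun x _ => by obtain ⟨y, rfl⟩ := hsur x; exact y.2
      exact IH _ hlt A k rfl (by rw [← Nat.card_eq_fintype_card, hs, hk])
    cases kind 3 (inPGL H) with
    | fixed x h =>
      exact hsol (solvable_le (fun g hg => h g hg) (solvable_stabilizer 3 x))
    | cyclic c hc _ =>
      refine hsol ?_
      rw [hc]
      haveI : IsCyclic (zpowers c) := isCyclic_iff_exists_zpowers_eq_top.2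
        ⟨⟨c, mem_zpowers c⟩, by
          rw [eq_top_iff]
          rintro ⟨y, hy⟩ -
          obtain ⟨i, rfl⟩ := mem_zpowers_iff.1 hy
          exact ⟨i, rfl⟩⟩
      exact Group.isSolvable_of_comm fun a b => (IsCyclic.isMulCommutative : IsMulCommutative (zpowers c)).is_comm.comm a b
    | dihedral c _ _ _ hG => exact hsol (hG.elim fun f => solvable_equiv f (solvable_dihedral _))
    | a4 h => exact hsol (h.elim fun f => solvable_equiv f solvable_alt_four)
    | s4 h => exact hsol (h.elim fun f => solvable_equiv f solvable_perm_four)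
    | a5 h =>
      exfalso
      obtain ⟨f⟩ := h
      have h60 : Nat.card (alternatingGroup (Fin 5)) = 60 := by
        rw [nat_card_alternatingGroup, Nat.card_fin]; rfl
      have h5 : 5 ∣ Nat.card (ProjectiveSpecialLinearGroup (Fin 2) F) := by
        refine Dvd.dvd.trans ?_ (Subgroup.card_subgroup_dvd_card H)
        rw [Nat.card_congr (e.trans f).toEquiv, h60]
        norm_num
      have h5' : 5 ∣ Fintype.card F * ((Fintype.card F - 1) * (Fintype.card F + 1)) := by
        rw [← CfsgLib.Classical.card_sl2']
        exact h5.trans (Subgroup.card_quotient_dvd_card (Subgroup.center SL(2, F)))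
      rw [hF, hq, pow_succ, pow_mul] at h5'
      have h9 : (3 : ℕ) ^ 2 = 9 := rfl
      rw [h9] at h5'
      obtain ⟨r, hr⟩ : ∃ r, 9 ^ n * 3 = r ∧ (r % 5 = 3 ∨ r % 5 = 2) := ⟨_, rfl, by
        rw [Nat.mul_mod, Nat.pow_mod]
        rcases Nat.even_or_odd n with ⟨j, rfl⟩ | ⟨j, rfl⟩
        · rw [← two_mul, pow_mul]; norm_num [Nat.pow_mod]
        · rw [pow_succ, pow_mul]; norm_num [Nat.mul_mod, Nat.pow_mod]⟩
      rw [hr.1] at h5'
      have h5p : Nat.Prime 5 := by norm_num
      rcases h5p.dvd_mul.1 h5' with h | h
      · omega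
      · rcases h5p.dvd_mul.1 h with h | h <;> omega
    | pgl A g hG =>
      have hA : A ≠ ⊤ := by
        rintro rfl
        have hle : inPGL H ≤ sln F := (Subgroup.map_le_range _ H).trans_eq range_toPGL'
        obtain ⟨χ, hχs, hχk⟩ := Cfsg.Agent.S0307.result (F := F) rfl 2 (by norm_num)
        have htop : inPGL H = ⊤ := by
          have hr : (ProjGenLinGroup.map (n := Fin 2) (⊤ : Subfield F).subtype).range = ⊤ := by
            refine eq_top_iff.2 fun x _ =>
              ⟨ProjGenLinGroup.map (n := Fin 2) (Subfield.topEquiv (K := F)).symm.toRingHom x, ?_⟩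
            induction x using ProjGenLinGroup.induction_on with | mk y => ?_
            rw [ProjGenLinGroup.map_mk, ProjGenLinGroup.map_mk]
            apply congrArg
            apply Units.ext
            ext i j
            rfl
          exact Subgroup.map_injective (MulAut.conj g).injective
            ((hG.trans hr).trans (Subgroup.map_top_of_surjective _ (MulAut.conj g).surjective).symm)
        have : (ProjectiveSpecialLinearGroup.toPGL (n := Fin 2) (R := F)).range = ⊤ :=
          eq_top_iff.2 (htop ▸ Subgroup.map_le_range _ H)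
        rw [← hχk, MonoidHom.ker_eq_top_iff] at this
        subst this
        obtain ⟨y, hy⟩ := hχs (Multiplicative.ofAdd 1)
        rw [MonoidHom.one_apply, eq_comm, ofAdd_eq_one] at hy
        have h2 : Nat.gcd 2 (Fintype.card F - 1) = 1 :=
          Nat.dvd_one.1 ((ZMod.natCast_eq_zero_iff 1 _).1 (by rw [Nat.cast_one]; exact hy))
        have : Fintype.card F % 2 = 1 := by rw [hF, hq, Nat.pow_mod]; norm_num
        obtain ⟨k, hk⟩ : 2 ∣ Fintype.card F - 1 := ⟨(Fintype.card F - 1) / 2, by omega⟩
        rw [hk, Nat.gcd_mul_right_right] at h2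
        omega
      haveI := Fintype.ofFinite A
      obtain ⟨χ, -, hχk⟩ := Cfsg.Agent.S0307.result (F := A) rfl 2 (by norm_num)
      have hker : KG χ.ker := by
        rw [hχk]
        exact (sub A hA).of_surjective (MonoidHom.rangeRestrict _) (MonoidHom.rangeRestrict_surjective _)
      have hA' : KG (ProjGenLinGroup (Fin 2) A) :=
        KG.extension χ hker (KG.of_solvable (Group.isSolvable_of_comm mul_comm))
      exact (hA'.of_surjective (MonoidHom.rangeRestrict _) (MonoidHom.rangeRestrict_surjective _)).of_injective
        (((e.trans (conjEquiv g (inPGL H))).trans (MulEquiv.subgroupCongr hG)).toMonoidHom)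
        (MulEquiv.injective _)
    | psl A hA g hG =>
      by_cases hA' : A = ⊤
      · exfalso
        subst hA'
        refine hH (Subgroup.map_injective ProjectiveSpecialLinearGroup.toPGL_injective ?_)
        have hle : inPGL H ≤ (ProjectiveSpecialLinearGroup.toPGL (n := Fin 2) (R := F)).range :=
          Subgroup.map_le_range _ H
        rw [← MonoidHom.range_eq_map]
        refine Subgroup.eq_of_le_of_card_ge hle ?_
        obtain ⟨f⟩ := psl_congr (Subfield.topEquiv (K := F))
        have h1 : Nat.card (ProjectiveSpecialLinearGroup (Fin 2) F) = Nat.card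
            ((ProjGenLinGroup.map (n := Fin 2) (⊤ : Subfield F).subtype).comp
              (SpecialLinearGroup.toPGL (n := Fin 2) (R := (⊤ : Subfield F)))).range := by
          rw [MonoidHom.range_comp, Subgroup.card_map_of_injective (map_injective_subfield _),
            Nat.card_congr f.toEquiv]
        rw [← hG, Subgroup.card_map_of_injective (MulAut.conj g).injective] at h1
        rw [← Nat.card_congr (MonoidHom.ofInjective ProjectiveSpecialLinearGroup.toPGL_injective).toEquiv]
        exact h1.le
      · obtain ⟨f⟩ := psl_congr (RingEquiv.refl A)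
        have hA2 : KG (SpecialLinearGroup.toPGL (n := Fin 2) (R := A)).range :=
          (sub A hA').of_injective f.toMonoidHom f.injective
        have hA3 := hA2.of_surjective
          (MonoidHom.subgroupMap (ProjGenLinGroup.map (n := Fin 2) A.subtype) _)
          (MonoidHom.subgroupMap_surjective _ _)
        rw [← MonoidHom.range_comp] at hA3
        exact hA3.of_injective
          (((e.trans (conjEquiv g (inPGL H))).trans (MulEquiv.subgroupCongr hG)).toMonoidHom)
          (MulEquiv.injective _)

end PSL

section Suzuki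

open Cfsg.Lie CfsgLib.KnownB.SzElem CfsgLib.KnownB.Suzuki CfsgLib.KnownB.TICount

theorem sz_kg : ∀ (q : ℕ) (F : Type) [Field F] [Fintype F] (m : ℕ), 1 ≤ m → Fintype.card F = q →
    q = 2 ^ (2 * m + 1) → KG (Cfsg.Lie.Sz F (2 ^ (m + 1))) := by
  intro q
  induction q using Nat.strong_induction_on with
  | _ q IH =>
    intro F _ _ m hm hF hq
    classical
    have hF' := hF.trans hq
    have hp : Params F (2 ^ (m + 1)) := params_of_card hm hF'
    have hu : ∃ u : Fˣ, u ≠ 1 := Fintype.exists_ne_of_one_lt_card (by
      rw [Fintype.card_units]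
      have := hp.eight
      omega) 1
    haveI := CfsgLib.KnownB.Suzuki.isSimpleGroup hp.twist hu
    refine KG.of_simple (Or.inl ⟨F, inferInstance, inferInstance, m, hm, hF', ⟨MulEquiv.refl _⟩⟩)
      fun H hH => ?_
    rcases subgroup_shape hp H with ⟨g, hg⟩ | ⟨x, hx1, hx2, hx3⟩ | ⟨K, hK8, g, hg⟩
    · refine KG.of_solvable (solvable_equiv (H.equivMapOfInjective (MulAut.conj g).toMonoidHom (MulAut.conj g).injective) ?_)
      exact solvable_le hg (CfsgLib.PGroup.SzSol.borel_isSolvable hp.twist)
    · obtain ⟨hc, -, -⟩ := ((szPartition hp).cases x hx1).resolve_left hx2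
      refine KG.of_solvable (solvable_of_cyclic hx3 fun y hy => ?_)
      exact mem_centralizer_singleton_iff.2
        (mem_centralizer_iff.1 hy x (mem_centralizer_singleton_iff.2 rfl)).symm
    · haveI := Fintype.ofFinite K
      obtain ⟨k, hk, hdvd⟩ := subfield_odd_power hF' K
      rw [Nat.card_eq_fintype_card] at hk hK8
      have hk1 : 1 ≤ k := by
        by_contra h0
        obtain rfl : k = 0 := by omega
        omega
      have e : H ≃* Cfsg.Lie.Sz K (2 ^ (k + 1)) :=
        ((H.equivMapOfInjective (MulAut.conj g).toMonoidHom (MulAut.conj g).injective).trans (MulEquiv.subgroupCongr hg)).trans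
          ((MonoidHom.ofInjective (subHom_injective K.subtype hp.twist)).symm.trans
            (MulEquiv.subgroupCongr (Sz_eq_of_pow (twist_comap K.subtype hp.twist) (twist_of_card hk)
              (pow_twist_eq hk hdvd))))
      by_cases hlt : Fintype.card K < q
      · exact (IH _ hlt K k hk1 rfl hk).of_injective e.toMonoidHom e.injective
      · exfalso
        refine hH (Subgroup.eq_top_of_card_eq H ?_)
        have hle := Fintype.card_le_of_injective _ (Subtype.val_injective (p := fun x : F => x ∈ K))
        have heq : Fintype.card K = Fintype.card F := by omega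
        have hKtop : Function.Bijective (fun y : K => (y : F)) :=
          (Fintype.bijective_iff_injective_and_card _).2 ⟨Subtype.val_injective, heq⟩
        have h1 : Nat.card H = Nat.card (subHom K.subtype hp.twist).range := by
          rw [← hg]
          exact (Subgroup.card_map_of_injective (MulAut.conj g).injective).symm
        rw [h1, card_subHom_range, heq, card_Sz hp.twist]
        ring

end Suzuki

theorem known_kg {X : Type u} [Group X] (h : Cfsg.IsSuzukiOrPSL2OddPowerThree X) : KG X := by
  rcases h with ⟨F, i1, i2, m, hm, hF, ⟨f⟩⟩ | ⟨F, i1, i2, n, hF, ⟨f⟩⟩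
  · exact (sz_kg _ F m hm rfl hF).of_injective f.toMonoidHom f.injective
  · exact (psl_kg _ F n rfl hF).of_injective f.toMonoidHom f.injective

/-- The composition factors determine all simple sections. -/
theorem KG.of_comp : ∀ (n : ℕ) {G : Type u} [Group G] [Finite G], Nat.card G = n → CG G → KG G := by
  intro n
  induction n using Nat.strong_induction_on with
  | _ n IH =>
    intro G _ _ hn hG
    by_cases hc : ∀ a b : G, a * b = b * a
    · exact KG.of_solvable (Group.isSolvable_of_comm hc)
    haveI : Nontrivial G := by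
      by_contra hh
      rw [not_nontrivial_iff_subsingleton] at hh
      exact hc fun a b => Subsingleton.elim _ _
    by_cases hM : ∃ M : Subgroup G, M.Normal ∧ M ≠ ⊥ ∧ M ≠ ⊤
    · obtain ⟨M, hMn, hM1, hM2⟩ := hM
      refine KG.extension (QuotientGroup.mk' M) ?_ (IH _ ?_ rfl ?_)
      · rw [QuotientGroup.ker_mk']
        refine IH _ ?_ rfl fun H hH N _ hs hn' => ?_
        · rw [← hn]
          exact lt_of_le_of_ne (card_le_card_group M) fun e => hM2 (Subgroup.eq_top_of_card_eq M e)
        · let e := H.equivMapOfInjective M.subtype M.subtype_injective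
          haveI : (N.map e.toMonoidHom).Normal := Subgroup.Normal.map inferInstance _ e.surjective
          let q : H ⧸ N ≃* (H.map M.subtype : Subgroup G) ⧸ N.map e.toMonoidHom :=
            QuotientGroup.congr N _ e rfl
          exact known_congr q.symm (hG _ (hH.trans' hMn.isSubnormal) _ (q.symm.isSimpleGroup)
            fun h => hn' ⟨⟨fun a b => q.injective (by rw [map_mul, map_mul]; exact h.is_comm.comm _ _)⟩⟩)
      · rw [← hn, Subgroup.card_eq_card_quotient_mul_card_subgroup M]
        exact lt_mul_of_one_lt_right Nat.card_pos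
          (Finite.one_lt_card_iff_nontrivial.2 ((Subgroup.nontrivial_iff_ne_bot M).2 hM1))
      · intro H hH N _ hs hn'
        let f := (QuotientGroup.mk' M).subgroupComap H
        have hf : Function.Surjective f :=
          MonoidHom.subgroupComap_surjective_of_surjective _ H (QuotientGroup.mk'_surjective M)
        set g : H.comap (QuotientGroup.mk' M) →* H ⧸ N := (QuotientGroup.mk' N).comp f with hgdef
        let e := QuotientGroup.quotientKerEquivOfSurjective g ((QuotientGroup.mk'_surjective N).comp hf)
        exact known_congr e (hG _ (hH.comap _) _ e.isSimpleGroup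
          fun h => hn' ⟨⟨fun a b => e.symm.injective (by rw [map_mul, map_mul]; exact h.is_comm.comm _ _)⟩⟩)
    · push Not at hM
      haveI : IsSimpleGroup G := ⟨fun M hMn => by
        by_contra hh
        push Not at hh
        exact hh.2 (hM M hMn hh.1)⟩
      let e : (⊤ : Subgroup G) ⧸ (⊥ : Subgroup (⊤ : Subgroup G)) ≃* G :=
        QuotientGroup.quotientBot.trans topEquiv
      exact known_kg (known_congr e (hG ⊤ Subgroup.IsSubnormal.top ⊥ e.isSimpleGroup
        fun h => hc fun a b => e.symm.injective (by rw [map_mul, map_mul]; exact h.is_comm.comm _ _)))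

/-- `S₄`-free and with known nonabelian simple sections. -/
structure Good (G : Type u) [Group G] : Prop where
  free : ¬ Cfsg.Involves (Equiv.Perm (Fin 4)) G
  kg : KG G

theorem Good.of_surjective {G : Type u} {L : Type v} [Group G] [Group L] (h : Good G) (f : G →* L)
    (hf : Function.Surjective f) : Good L :=
  ⟨fun hi => h.free (CfsgLib.Fsys.involves_of_surjective hf hi), h.kg.of_surjective f hf⟩

theorem Good.subgroup {G : Type u} [Group G] (h : Good G) (K : Subgroup G) : Good K := by
  refine ⟨fun ⟨A, R, hn, ⟨f⟩⟩ => h.free ?_, h.kg.subgroup K⟩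
  let e := A.equivMapOfInjective K.subtype K.subtype_injective
  have hR : (R.map K.subtype).subgroupOf (A.map K.subtype) = (R.subgroupOf A).map e.toMonoidHom := by
    ext ⟨_, a, ha, rfl⟩
    constructor
    · rintro ⟨r, hr, hre⟩
      exact ⟨⟨a, ha⟩, K.subtype_injective hre ▸ hr, Subtype.ext rfl⟩
    · rintro ⟨⟨b, hb⟩, hbR, hbe⟩
      show K.subtype a ∈ R.map K.subtype
      have h1 := congrArg Subtype.val hbe
      exact ⟨b, hbR, h1⟩
  haveI : (R.map K.subtype).subgroupOf (A.map K.subtype) |>.Normal := hR ▸ Subgroup.Normal.map hn _ e.surjective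
  exact ⟨A.map K.subtype, R.map K.subtype, this, ⟨(QuotientGroup.congr _ _ e hR.symm).symm.trans f⟩⟩

theorem Good.quotient {G : Type u} [Group G] (h : Good G) (N : Subgroup G) [N.Normal] : Good (G ⧸ N) :=
  h.of_surjective (QuotientGroup.mk' N) (QuotientGroup.mk'_surjective N)

end CfsgLib.LocalEven.TwoFactor
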