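import Cfsg.Agent.Lib.LocalEven.TwoFactor.Triple
import Cfsg.Agent.Lib.Components.PComponents

/-!
The normal closure of `Ω₁(Z(S))` in `N(J(S))` lies in `Ω₁(Z(Ĵ(S)))` when the constrained sections are known.
-/

set_option autoImplicit false
set_option linter.style.haveILetI false
set_option linter.unusedSectionVars false

namespace CfsgLib.LocalEven.TwoFactor

open Subgroup CfsgLib.Solvable
open CfsgLib.Fusion (Thompson.isEA_map Thompson.isEA_le Thompson.isPGroup_isEA)
open scoped commutatorElement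

universe u

/-- Every constrained section is known. -/
def HSec (G : Type u) [Group G] : Prop :=
  ∀ (K : Subgroup G) (Y : Type u) [Group Y] [Finite Y] (f : K →* Y), Function.Surjective f →
    centralizer (Cfsg.pCore 2 Y : Set Y) ≤ Cfsg.pCore 2 Y → KG Y

theorem HSec.of_solvable {G : Type u} [Group G] (h : Group.IsSolvable G) : HSec G := fun K Y _ _ f hf _ => by
  haveI := h
  exact (KG.of_solvable (inferInstance : Group.IsSolvable K)).of_surjective f hf

theorem HSec.subgroup {G : Type u} [Group G] (h : HSec G) (H : Subgroup G) : HSec H := by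
  intro K Y _ _ f hf hc
  let e : K ≃* K.map H.subtype := K.equivMapOfInjective _ H.subtype_injective
  exact h (K.map H.subtype) Y (f.comp e.symm.toMonoidHom) (hf.comp e.symm.surjective) hc

theorem HSec.of_surjective {G L : Type u} [Group G] [Group L] (h : HSec G) (q : G →* L)
    (hq : Function.Surjective q) : HSec L := by
  intro K Y _ _ f hf hc
  exact h (K.comap q) Y (f.comp (q.subgroupComap K))
    (hf.comp (q.subgroupComap_surjective_of_surjective K hq)) hc

/-- The whole group, when it is constrained. -/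
theorem HSec.kg {G : Type u} [Group G] [Finite G] (h : HSec G) {Y : Type u} [Group Y] [Finite Y] (f : G →* Y)
    (hf : Function.Surjective f) (hc : centralizer (Cfsg.pCore 2 Y : Set Y) ≤ Cfsg.pCore 2 Y) : KG Y :=
  h ⊤ Y (f.comp (topEquiv (G := G)).toMonoidHom)
    (hf.comp (show Function.Surjective (topEquiv (G := G)).toMonoidHom from (topEquiv (G := G)).surjective)) hc

theorem free_subgroup {G : Type u} [Group G] (h : ¬ Cfsg.Involves (Equiv.Perm (Fin 4)) G) (H : Subgroup G) :
    ¬ Cfsg.Involves (Equiv.Perm (Fin 4)) H :=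
  fun hi => h (CfsgLib.Fsys.involves_of_injective H.subtype_injective hi)

variable {G : Type u} [Group G] [Finite G]

theorem coprime_of_two {A B : Subgroup G} (hA : IsPGroup 2 A) (hB : (Nat.card B).Coprime 2) : A ⊓ B = ⊥ := by
  haveI : Fact (Nat.Prime 2) := ⟨Nat.prime_two⟩
  obtain ⟨n, hn⟩ := IsPGroup.iff_card.1 hA
  refine Subgroup.inf_eq_bot_of_coprime ?_
  rw [hn]
  exact hB.symm.pow_left n

/-- The automiser of a normal elementary abelian 2-group is known if it has trivial 2-core. -/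
theorem kg_automizer (hs : HSec G) {A : Subgroup G} [A.Normal] (hA : Cfsg.IsElementaryAbelian 2 A) :
    KG (G ⧸ centralizer (A : Set G)) := by
  classical
  haveI : Fact (Nat.Prime 2) := ⟨Nat.prime_two⟩
  haveI := hA.1
  set C := centralizer (A : Set G) with hC
  haveI : C.Normal := Subgroup.normal_centralizer
  obtain ⟨N1, hN1, hmin⟩ := Set.exists_min_image {K : Subgroup G | K ⊔ C = ⊤}
    (fun K : Subgroup G => Nat.card K) (Set.toFinite _) ⟨⊤, top_sup_eq C⟩
  have hN1' : N1 ⊔ C = ⊤ := hN1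
  -- the intersection is nilpotent
  have hfr : C.subgroupOf N1 ≤ frattini N1 := by
    refine le_iInf₂ fun M hM => ?_
    by_contra hle
    have htop : M ⊔ C.subgroupOf N1 = ⊤ := hM.2 _ (lt_of_le_of_ne le_sup_left fun h => hle (h ▸ le_sup_right))
    have hsup : M.map N1.subtype ⊔ C = ⊤ := by
      rw [eq_top_iff, ← hN1']
      refine sup_le ?_ le_sup_right
      calc N1 = (M ⊔ C.subgroupOf N1).map N1.subtype := by rw [htop, ← MonoidHom.range_eq_map, range_subtype]
        _ ≤ _ := by
          rw [Subgroup.map_sup, subgroupOf_map_subtype]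
          exact sup_le_sup_left inf_le_left _
    have he : M.map N1.subtype = N1 :=
      Subgroup.eq_of_le_of_card_ge (Subgroup.map_subtype_le M) (hmin _ hsup)
    exact hM.1 (Subgroup.map_injective N1.subtype_injective
      (by rw [he, ← MonoidHom.range_eq_map, range_subtype]))
  haveI : Group.IsNilpotent (C.subgroupOf N1) := by
    haveI := frattini_nilpotent (G := N1)
    exact Group.nilpotent_of_mulEquiv (Subgroup.subgroupOfEquivOfLe hfr)
  set X := N1 ⊔ A
  have hAX : A ≤ X := le_sup_right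
  have hN1X : N1 ≤ X := le_sup_left
  set O := Cfsg.pPrimeCore 2 X
  have hAX2 : IsPGroup 2 (A.subgroupOf X) :=
    (Thompson.isPGroup_isEA hA).comap_of_injective _ X.subtype_injective
  have hOA : (A.subgroupOf X) ⊓ O = ⊥ := coprime_of_two hAX2 (Cores.coprime_card_pPrimeCore 2)
  have hcomm : ∀ x : X, ∀ a ∈ A.subgroupOf X, x * a * x⁻¹ * a⁻¹ ∈ A.subgroupOf X := fun x a ha =>
    mul_mem ((inferInstance : (A.subgroupOf X).Normal).conj_mem a ha x) (inv_mem ha)
  have hOC : ∀ x ∈ O, (x : G) ∈ C := fun x hx => mem_centralizer_iff.2 fun a ha => by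
    have h : x * ⟨a, hAX ha⟩ * x⁻¹ * (⟨a, hAX ha⟩ : X)⁻¹ = 1 := by
      rw [← mem_bot, ← hOA]
      refine mem_inf.2 ⟨hcomm x _ ha, ?_⟩
      rw [show ∀ y : X, x * y * x⁻¹ * y⁻¹ = x * (y * x⁻¹ * y⁻¹) from fun y => by group]
      exact mul_mem hx ((inferInstance : O.Normal).conj_mem _ (inv_mem hx) _)
    exact (mul_inv_eq_iff_eq_mul.1 (mul_inv_eq_one.1 (congrArg Subtype.val h))).symm
  set q := QuotientGroup.mk' O with hq
  set Y := X ⧸ O
  set Ab := (A.subgroupOf X).map q with hAb
  -- the centraliser of the image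
  let φ : ↥A × ↥(C.subgroupOf N1) →* Y := MonoidHom.noncommCoprod (q.comp (Subgroup.inclusion hAX))
    ((q.comp (Subgroup.inclusion hN1X)).comp (C.subgroupOf N1).subtype) fun a c => by
      refine Commute.map ?_ q
      exact Subtype.ext (mem_centralizer_iff.1 (mem_subgroupOf.1 c.2) a a.2)
  haveI : Group.IsNilpotent A := (Thompson.isPGroup_isEA hA).isNilpotent
  haveI hφ : Group.IsNilpotent φ.range :=
    Group.nilpotent_of_surjective φ.rangeRestrict φ.rangeRestrict_surjective
  have hCA : centralizer (Ab : Set Y) = φ.range := by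
    apply le_antisymm
    · intro y hy
      obtain ⟨x, rfl⟩ := QuotientGroup.mk'_surjective O y
      have hx' : (x : G) ∈ ((N1 ⊔ A : Subgroup G) : Set G) := x.2
      rw [mul_normal] at hx'
      obtain ⟨n, hn, a, ha, hna⟩ := hx'
      have hxC : (x : G) ∈ C := by
        refine mem_centralizer_iff.2 fun b hb => ?_
        have h1 : x * ⟨b, hAX hb⟩ * x⁻¹ * (⟨b, hAX hb⟩ : X)⁻¹ = 1 := by
          rw [← mem_bot, ← hOA]
          refine mem_inf.2 ⟨hcomm x _ hb, (QuotientGroup.eq_one_iff _).1 (show q _ = 1 from ?_)⟩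
          rw [map_mul, map_mul, map_mul, map_inv, map_inv,
            ← mem_centralizer_iff.1 hy (q ⟨b, hAX hb⟩) ⟨⟨b, hAX hb⟩, hb, rfl⟩, mul_inv_cancel_right,
            mul_inv_cancel]
        exact (mul_inv_eq_iff_eq_mul.1 (mul_inv_eq_one.1 (congrArg Subtype.val h1))).symm
      have hnC : n ∈ C := by
        have : n = (x : G) * a⁻¹ := eq_mul_inv_of_mul_eq hna
        rw [this]
        exact mul_mem hxC (inv_mem (mem_centralizer_iff.2 fun b hb => setLike_mul_comm hb ha))
      refine ⟨(⟨a, ha⟩, ⟨⟨n, hn⟩, hnC⟩), ?_⟩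
      show q (Subgroup.inclusion hAX ⟨a, ha⟩) * q (Subgroup.inclusion hN1X ⟨n, hn⟩) = q x
      rw [← map_mul]
      refine congrArg q (Subtype.ext ?_)
      rw [← hna]
      exact mem_centralizer_iff.1 hnC a ha
    · rintro _ ⟨⟨a, c⟩, rfl⟩
      refine mem_centralizer_iff.2 ?_
      rintro _ ⟨b, hb, rfl⟩
      show q b * (q (Subgroup.inclusion hAX a) * q (Subgroup.inclusion hN1X c)) =
        q (Subgroup.inclusion hAX a) * q (Subgroup.inclusion hN1X c) * q b
      rw [← map_mul, ← map_mul, ← map_mul]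
      refine congrArg q (Subtype.ext ?_)
      show (b : G) * ((a : G) * (c : N1)) = (a : G) * (c : N1) * (b : G)
      rw [← mul_assoc, setLike_mul_comm (mem_subgroupOf.1 hb) a.2, mul_assoc,
        mem_centralizer_iff.1 (mem_subgroupOf.1 c.2) b (mem_subgroupOf.1 hb), mul_assoc]
  haveI : Ab.Normal := Subgroup.Normal.map inferInstance q (QuotientGroup.mk'_surjective O)
  haveI : φ.range.Normal := hCA ▸ Subgroup.normal_centralizer
  have hYc : centralizer (Cfsg.pCore 2 Y : Set Y) ≤ Cfsg.pCore 2 Y := by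
    have hAb2 : Ab ≤ Cfsg.pCore 2 Y := Cores.le_pCore (hAX2.map q)
    refine (centralizer_le (by exact_mod_cast hAb2)).trans ?_
    rw [hCA, ← Cores.fittingSubgroup_eq_pCore 2
      (CfsgLib.Components.pPrimeCore_quotient_eq_bot (p := 2) (G := X))]
    exact Cores.le_fittingSubgroup hφ
  have hY : KG Y := (hs.subgroup X).kg q (QuotientGroup.mk'_surjective O) hYc
  refine hY.of_surjective (QuotientGroup.lift O ((QuotientGroup.mk' C).comp X.subtype) fun x hx =>
    (QuotientGroup.eq_one_iff _).2 (hOC x hx)) fun z => ?_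
  obtain ⟨g, rfl⟩ := QuotientGroup.mk'_surjective C z
  have hg : g ∈ ((N1 ⊔ C : Subgroup G) : Set G) := by rw [hN1']; trivial
  rw [mul_normal] at hg
  obtain ⟨n, hn, c, hc, rfl⟩ := hg
  refine ⟨q ⟨n, hN1X hn⟩, ?_⟩
  show QuotientGroup.mk' C n = QuotientGroup.mk' C (n * c)
  rw [map_mul, show QuotientGroup.mk' C c = 1 from (QuotientGroup.eq_one_iff c).2 hc, mul_one]

/-- A reduced normal elementary abelian group satisfies the E-property. -/
theorem eprop_reduced (hfree : ¬ Cfsg.Involves (Equiv.Perm (Fin 4)) G) {M : Subgroup G} [M.Normal]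
    (hk : KG (G ⧸ centralizer (M : Set G))) (hM : Cfsg.IsElementaryAbelian 2 M)
    (hO : Cfsg.pCore 2 (G ⧸ centralizer (M : Set G)) = ⊥) (P : Subgroup G) : EProp P M := by
  set C := centralizer (M : Set G)
  have hb : ∀ R : Subgroup G, Acts M R → Nat.card R ^ 2 * Nat.card ↥(M ⊓ centralizer (R : Set G)) ≤
      Nat.card M * Nat.card ↥(R ⊓ C) ^ 2 ∧ Nat.card R ^ 2 ≤ Nat.card ↥⁅M, R⁆ * Nat.card ↥(R ⊓ C) ^ 2 ∧
      Nat.card ↥(R ⊓ C) < Nat.card R := by
    intro R hA
    have he : Cfsg.IsElementaryAbelian 2 (R.map (CfsgLib.Fusion.FailureFactor.rho M)) := by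
      refine ⟨?_, ?_⟩
      · rw [← Subgroup.commutator_self_eq_bot_iff, ← map_commutator, Subgroup.map_eq_bot_iff,
          CfsgLib.Fusion.FailureFactor.ker_rho]
        exact hA.1
      · rintro _ ⟨r, hr, rfl⟩
        rw [← map_pow]
        exact (CfsgLib.Fusion.FailureFactor.rho_eq_one M).2 (hA.2.1 r hr)
    obtain ⟨h1, h2⟩ := bound_reduced' hfree hk hM hO he
    exact ⟨h1, h2, lt_of_le_of_ne (Subgroup.card_le_of_le inf_le_left) fun h =>
      hA.2.2 (inf_eq_left.1 (Subgroup.eq_of_le_of_card_ge inf_le_left h.ge))⟩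
  refine ⟨fun R _ hA => ?_, fun R _ hA => ?_⟩
  · obtain ⟨h1, -, h3⟩ := hb R hA
    set r := Nat.card R
    set c := Nat.card ↥(M ⊓ centralizer (R : Set G))
    set m := Nat.card M
    set r0 := Nat.card ↥(R ⊓ C)
    refine Nat.lt_of_mul_lt_mul_right (a := r) ?_
    calc r ^ 3 * c ^ 2 * r = (r ^ 2 * c) ^ 2 := by ring
      _ ≤ (m * r0 ^ 2) ^ 2 := Nat.pow_le_pow_left h1 2
      _ = (m ^ 2 * r0 ^ 3) * r0 := by ring
      _ < _ := Nat.mul_lt_mul_of_pos_left h3 (Nat.mul_pos (pow_pos Nat.card_pos 2) (pow_pos Nat.card_pos 3))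
  · obtain ⟨-, h2, h3⟩ := hb R hA
    set r := Nat.card R
    set k := Nat.card ↥⁅M, R⁆
    set r0 := Nat.card ↥(R ⊓ C)
    refine Nat.lt_of_mul_lt_mul_right (a := r) ?_
    calc r * r = r ^ 2 := (pow_two r).symm
      _ ≤ k * r0 ^ 2 := h2
      _ = (k * r0) * r0 := by ring
      _ < _ := Nat.mul_lt_mul_of_pos_left h3 (Nat.mul_pos Nat.card_pos Nat.card_pos)

/-- `Ω₁(Z(S))`. -/
def OmegaZ (S : Subgroup G) : Subgroup G := Cfsg.omegaOne 2 (S ⊓ centralizer (S : Set G))

/-- The normal closure of `Ω₁(Z(S))` in `N(J(S))`. -/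
def ZClosure (S : Subgroup G) : Subgroup G :=
  closure {x | ∃ n ∈ normalizer (JE S : Set G), ∃ z ∈ OmegaZ S, x = n * z * n⁻¹}

theorem omegaZ_le (S : Subgroup G) : OmegaZ S ≤ S :=
  (closure_le _).2 fun _ hx => hx.1.1

theorem omegaZ_le_centralizer (S : Subgroup G) : OmegaZ S ≤ centralizer (S : Set G) :=
  (closure_le _).2 fun _ hx => hx.1.2

theorem omegaZ_elementary (S : Subgroup G) : Cfsg.IsElementaryAbelian 2 (OmegaZ S) := by
  have hc : IsMulCommutative (OmegaZ S) := by
    rw [← Subgroup.commutator_self_eq_bot_iff, Subgroup.commutator_eq_bot_iff_le_centralizer]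
    exact (omegaZ_le_centralizer S).trans (centralizer_le (by exact_mod_cast omegaZ_le S))
  refine ⟨hc, ?_⟩
  haveI := hc
  let K : Subgroup G :=
    { carrier := {y | y ∈ OmegaZ S ∧ y ^ 2 = 1}
      one_mem' := ⟨one_mem _, one_pow 2⟩
      mul_mem' := fun {a b} ha hb => ⟨mul_mem ha.1 hb.1, by
        rw [(show Commute a b from setLike_mul_comm ha.1 hb.1).mul_pow, ha.2, hb.2, one_mul]⟩
      inv_mem' := fun {a} ha => ⟨inv_mem ha.1, by rw [inv_pow, ha.2, inv_one]⟩ }
  exact fun x hx => (((closure_le K).2 fun y hy => ⟨subset_closure hy, hy.2⟩) hx).2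

/-- A conjugate of a largest elementary abelian subgroup. -/
theorem maxEA_conj {S E : Subgroup G} (hE : MaxEA S E) {n : G} (hn : n ∈ normalizer (JE S : Set G)) :
    MaxEA S (E.map (MulAut.conj n).toMonoidHom) := by
  refine ⟨?_, Thompson.isEA_map _ hE.2.1, fun B h1 h2 => ?_⟩
  · refine ((map_mono (le_sSup hE : E ≤ JE S)).trans (le_of_eq ?_)).trans (je_le S)
    exact Subgroup.mem_normalizer_iff_map_conj_eq.1 hn
  · rw [Subgroup.card_map_of_injective (MulAut.conj n).injective]
    exact hE.2.2 B h1 h2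

theorem zclosure_le_maxEA {S E : Subgroup G} (hE : MaxEA S E) : ZClosure S ≤ E := by
  refine (closure_le _).2 ?_
  rintro _ ⟨n, hn, z, hz, rfl⟩
  have hE' := maxEA_conj hE (inv_mem hn)
  set E' := E.map (MulAut.conj n⁻¹).toMonoidHom
  have h : OmegaZ S ≤ E' := by
    have he : E' = E' ⊔ OmegaZ S := by
      refine Subgroup.eq_of_le_of_card_ge le_sup_left (hE'.2.2 _ (sup_le hE'.1 (omegaZ_le S)) ?_)
      exact elementary_sup hE'.2.1 (omegaZ_elementary S)
        (le_centralizer_iff.1 ((omegaZ_le_centralizer S).trans (centralizer_le (by exact_mod_cast hE'.1))))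
    rw [he]; exact le_sup_right
  obtain ⟨e, he, hez⟩ := h hz
  have he' : n⁻¹ * e * n = z := by simpa using hez
  rw [← he']
  simpa [mul_assoc] using he

theorem zclosure_le_je (S : Subgroup G) : ZClosure S ≤ JE S := by
  obtain ⟨E, hE⟩ := exists_maxEA S
  exact (zclosure_le_maxEA hE).trans (le_sSup hE)

theorem zclosure_le (S : Subgroup G) : ZClosure S ≤ S := (zclosure_le_je S).trans (je_le S)

theorem zclosure_elementary (S : Subgroup G) : Cfsg.IsElementaryAbelian 2 (ZClosure S) := by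
  obtain ⟨E, hE⟩ := exists_maxEA S
  exact Thompson.isEA_le hE.2.1 (zclosure_le_maxEA hE)

theorem omegaZ_le_zclosure (S : Subgroup G) : OmegaZ S ≤ ZClosure S := fun z hz =>
  subset_closure ⟨1, one_mem _, z, hz, by group⟩

theorem normalizer_je_le_zclosure (S : Subgroup G) :
    normalizer (JE S : Set G) ≤ normalizer (ZClosure S : Set G) := by
  refine le_normalizer_iff.2 fun n hn x hx => ?_
  have hle : ZClosure S ≤ (ZClosure S).comap (MulAut.conj n).toMonoidHom := (closure_le _).2 (by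
    rintro _ ⟨m, hm, z, hz, rfl⟩
    exact subset_closure ⟨n * m, mul_mem hn hm, z, hz, by simp [mul_assoc]⟩)
  exact hle hx

theorem le_normalizer_zclosure (S : Subgroup G) : S ≤ normalizer (ZClosure S : Set G) :=
  (le_normalizer.trans (normalizer_le_je S)).trans (normalizer_je_le_zclosure S)

/-- The closure lies in `Ω₁(Z(Ĵ(S)))`. -/
theorem zclosure_le_bhat (S : Sylow 2 G)
    (hfree : ¬ Cfsg.Involves (Equiv.Perm (Fin 4)) ↥(normalizer (JE (S : Subgroup G) : Set G)))
    (hs : HSec ↥(normalizer (JE (S : Subgroup G) : Set G))) :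
    ZClosure (S : Subgroup G) ≤ BHat (S : Subgroup G) := by
  haveI : Fact (Nat.Prime 2) := ⟨Nat.prime_two⟩
  set N := normalizer (JE (S : Subgroup G) : Set G) with hN
  set A := ZClosure (S : Subgroup G) with hA
  have hSN : (S : Subgroup G) ≤ N := le_normalizer.trans (normalizer_le_je _)
  have hAN : A ≤ N := (zclosure_le _).trans hSN
  have hNA : N ≤ normalizer (A : Set G) := normalizer_je_le_zclosure _
  set A' := A.subgroupOf N
  haveI : A'.Normal := ⟨fun a ha n => (mem_normalizer_iff.1 (hNA n.2) a).1 ha⟩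
  have hA' : Cfsg.IsElementaryAbelian 2 A' := isEA_subgroupOf' (zclosure_elementary _) N
  set C := centralizer (A' : Set N) with hC
  haveI : C.Normal := Subgroup.normal_centralizer
  have hO : Cfsg.pCore 2 (N ⧸ C) = ⊥ := by
    set q := QuotientGroup.mk' C
    rw [eq_bot_iff]
    intro y hy
    obtain ⟨x, rfl⟩ := QuotientGroup.mk'_surjective C y
    refine (QuotientGroup.eq_one_iff x).2 ?_
    set R := (Cfsg.pCore 2 (N ⧸ C)).comap q
    haveI : R.Normal := Normal.comap inferInstance _
    have hRS : ∀ r ∈ R, (r : G) ∈ centralizer (OmegaZ (S : Subgroup G) : Set G) := by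
      intro r hr
      obtain ⟨s, hs', hsr⟩ := Cores.pCore_le_sylow ((S.subtype hSN).mapSurjective
        (QuotientGroup.mk'_surjective C)) (show q r ∈ _ from hr)
      have h1 : r * s⁻¹ ∈ C := (QuotientGroup.eq_one_iff _).1 (show q (r * s⁻¹) = 1 by
        rw [map_mul, map_inv, hsr, mul_inv_cancel])
      refine mem_centralizer_iff.2 fun z hz => ?_
      have hzA : z ∈ A := omegaZ_le_zclosure _ hz
      have e1 := congrArg Subtype.val (mem_centralizer_iff.1 h1 ⟨z, hAN hzA⟩ hzA)
      have e2 := mem_centralizer_iff.1 (omegaZ_le_centralizer _ hz) s hs'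
      change z * ((r : G) * (s : G)⁻¹) = (r : G) * (s : G)⁻¹ * z at e1
      calc z * (r : G) = (z * ((r : G) * (s : G)⁻¹)) * s := by group
        _ = (r : G) * (s : G)⁻¹ * (z * s) := by rw [e1]; group
        _ = (r : G) * (s : G)⁻¹ * ((s : G) * z) := by rw [e2]
        _ = _ := by group
    have hle : A ≤ centralizer (R.map N.subtype : Set G) := by
      refine (closure_le _).2 ?_
      rintro _ ⟨n, hn, z, hz, rfl⟩
      refine mem_centralizer_iff.2 ?_
      rintro _ ⟨r, hr, rfl⟩
      have h := mem_centralizer_iff.1 (hRS _ ((inferInstance : R.Normal).conj_mem r hr (⟨n, hn⟩⁻¹))) z hz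
      change z * (n⁻¹ * (r : G) * n⁻¹⁻¹) = n⁻¹ * (r : G) * n⁻¹⁻¹ * z at h
      show (r : G) * (n * z * n⁻¹) = n * z * n⁻¹ * r
      calc (r : G) * (n * z * n⁻¹) = n * (n⁻¹ * (r : G) * n⁻¹⁻¹ * z) * n⁻¹ := by group
        _ = n * (z * (n⁻¹ * (r : G) * n⁻¹⁻¹)) * n⁻¹ := by rw [h]
        _ = _ := by group
    exact mem_centralizer_iff.2 fun a ha =>
      Subtype.ext (mem_centralizer_iff.1 (hle ha) x ⟨x, hy, rfl⟩).symm
  have hk : KG (N ⧸ C) := kg_automizer hs hA'
  have hEP : ∀ U ≤ N, EProp U A := fun U hU => by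
    have h := (eprop_map_iff (f := N.subtype) N.subtype_injective (U.subgroupOf N) A').2
      (eprop_reduced hfree hk hA' hO _)
    rwa [map_subgroupOf_eq_of_le hU, map_subgroupOf_eq_of_le hAN] at h
  refine le_bhat (zclosure_elementary _) ((zclosure_le_je _).trans (je_le_jhat _)) (sSup_le ?_)
  rintro U ⟨hUS, hUe, hUJ⟩
  exact hUe A ((zclosure_le_je _).trans hUJ) (hUS.trans (le_normalizer_zclosure _))
    (zclosure_elementary _) (hEP U (hUS.trans hSN))

theorem centralizer_bhat_le (S : Subgroup G) (h : ZClosure S ≤ BHat S) :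
    centralizer (BHat S : Set G) ≤ normalizer (ZClosure S : Set G) :=
  (centralizer_le (by exact_mod_cast h)).trans (centralizer_le_normalizer _)

end CfsgLib.LocalEven.TwoFactor
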