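import Cfsg.Agent.Lib.LocalEven.TwoFactor.TwoConj
import Cfsg.Agent.Lib.Fusion.FailureFactor
import Cfsg.Agent.Lib.LocalEven.Large

/-!
An elementary abelian 2-subgroup `A` of a `S₄`-free group with known sections acting on a normal elementary abelian
2-subgroup `N`: `|A : A ∩ M|² |C_N(A)| ≤ |N|` for some normal `M` inducing a 2-group on `N`.
-/

set_option autoImplicit false
set_option linter.style.haveILetI false
set_option linter.unusedSectionVars false

namespace CfsgLib.LocalEven.TwoFactor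

open Subgroup CfsgLib.Solvable
open scoped commutatorElement

universe u

/-- `M` induces a 2-group on `N`. -/
def TwoOn {G : Type u} [Group G] (N M : Subgroup G) : Prop :=
  ∀ x ∈ M, ∃ k : ℕ, x ^ 2 ^ k ∈ centralizer (N : Set G)

variable {G : Type u} [Group G] [Finite G]

/-- The automiser of a normal 2-subgroup is `S₃`-free. -/
theorem automizer_free' (h : ¬ Cfsg.Involves (Equiv.Perm (Fin 4)) G) {N : Subgroup G} [N.Normal]
    (hN : IsPGroup 2 N) : ¬ Cfsg.Involves (Equiv.Perm (Fin 3)) (G ⧸ centralizer (N : Set G)) := by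
  intro hi
  refine h (Cfsg.Agent.S2759.result.2 ⟨N, hN, ?_⟩)
  let f : ↥(normalizer (N : Set G)) ⧸ (centralizer (N : Set G)).subgroupOf (normalizer (N : Set G)) →*
      G ⧸ centralizer (N : Set G) :=
    QuotientGroup.map _ _ (normalizer (N : Set G)).subtype fun x hx => hx
  refine CfsgLib.Fsys.involves_of_surjective (e := f) (fun y => ?_) hi
  induction y using QuotientGroup.induction_on with
  | H g => exact ⟨QuotientGroup.mk (⟨g, by rw [normalizer_eq_top]; trivial⟩ : normalizer (N : Set G)), rfl⟩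

/-- The automiser of a normal 2-subgroup is `S₃`-free. -/
theorem automizer_free (h : Good G) {N : Subgroup G} [N.Normal] (hN : IsPGroup 2 N) :
    ¬ Cfsg.Involves (Equiv.Perm (Fin 3)) (G ⧸ centralizer (N : Set G)) := automizer_free' h.free hN

/-- The order of an image. -/
theorem card_map_mul_inf {H : Type*} [Group H] (f : G →* H) (B : Subgroup G) :
    Nat.card (B.map f) * Nat.card ↥(B ⊓ f.ker) = Nat.card B := by
  have h := Subgroup.index_mul_card (f.comp B.subtype).ker
  rw [Subgroup.index_ker, MonoidHom.range_comp, Subgroup.range_subtype, ← MonoidHom.comap_ker] at h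
  refine Eq.trans ?_ h
  congr 1
  rw [← Nat.card_congr (Subgroup.subgroupOfEquivOfLe (inf_le_left : B ⊓ f.ker ≤ B)).toEquiv]
  congr 2
  ext x
  simp [Subgroup.mem_subgroupOf]

open CfsgLib.Fusion.FailureFactor in
/-- The bound when no nontrivial normal 2-group is induced. -/
theorem bound_reduced' (h : ¬ Cfsg.Involves (Equiv.Perm (Fin 4)) G) {N : Subgroup G} [N.Normal]
    (hk : KG (G ⧸ centralizer (N : Set G))) (hN : Cfsg.IsElementaryAbelian 2 N)
    (hO : Cfsg.pCore 2 (G ⧸ centralizer (N : Set G)) = ⊥) {A : Subgroup G}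
    (hA : Cfsg.IsElementaryAbelian 2 (A.map (CfsgLib.Fusion.FailureFactor.rho N))) :
    Nat.card A ^ 2 * Nat.card ↥(N ⊓ centralizer (A : Set G)) ≤
        Nat.card N * Nat.card ↥(A ⊓ centralizer (N : Set G)) ^ 2 ∧
      Nat.card A ^ 2 ≤ Nat.card ↥⁅N, A⁆ * Nat.card ↥(A ⊓ centralizer (N : Set G)) ^ 2 := by
  haveI : Fact (Nat.Prime 2) := ⟨Nat.prime_two⟩
  haveI : (centralizer (N : Set G)).Normal := Subgroup.normal_centralizer
  set L := (rho N).range
  have hinr : Function.Injective (SemidirectProduct.inr : G ⧸ centralizer (N : Set G) →* Amb N) :=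
    SemidirectProduct.inr_injective
  let e : G ⧸ centralizer (N : Set G) ≃* L :=
    (MonoidHom.ofInjective hinr).trans (MulEquiv.subgroupCongr (by
      show _ = ((SemidirectProduct.inr).comp (QuotientGroup.mk' _)).range
      rw [MonoidHom.range_comp, QuotientGroup.range_mk', MonoidHom.range_eq_map]))
  have hO' : Cfsg.pCore 2 L = ⊥ := by rw [← Cores.map_pCore e 2, hO, Subgroup.map_bot]
  have hS : ¬ Cfsg.Involves (Equiv.Perm (Fin 3)) L := fun hi =>
    automizer_free' h (CfsgLib.Fusion.Thompson.isPGroup_isEA hN)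
      (CfsgLib.Fsys.involves_of_surjective (e := e.toMonoidHom) e.surjective hi)
  have hkg : KG L := hk.of_surjective e.toMonoidHom e.surjective
  obtain ⟨h1, h2⟩ := SFreeOffender.offender_bound (vv_ea N hN) (range_le_normalizer N) (faithful N) hO' hS
    hkg.comp (A.map (rho N)) (map_le_range _ _) hA
  have hA' := card_map_mul N A
  have hf := card_fix N A
  have hv := card_vv N
  refine ⟨?_, ?_⟩
  · rw [← hA', mul_pow]
    rw [hf, hv] at h1
    calc _ = Nat.card (A.map (rho N)) ^ 2 * Nat.card ↥(N ⊓ centralizer (A : Set G)) *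
          Nat.card ↥(A ⊓ centralizer (N : Set G)) ^ 2 := by ring
      _ ≤ _ := Nat.mul_le_mul_right _ h1
  · rw [← hA', mul_pow]
    refine Nat.mul_le_mul_right _ (h2.trans ?_)
    have hle : ⁅vv N, A.map (rho N)⁆ ≤ ((⁅N, A⁆ : Subgroup G).subgroupOf N).map (iota N) := by
      rw [commutator_le]
      rintro _ ⟨v, rfl⟩ _ ⟨a, ha, rfl⟩
      refine ⟨⟨⁅(v : G), a⁆, ?_⟩, commutator_mem_commutator v.2 ha, ?_⟩
      · rw [commutatorElement_def, show (v : G) * a * (v : G)⁻¹ * a⁻¹ = (v : G) * (a * (v : G)⁻¹ * a⁻¹) by group]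
        exact mul_mem v.2 ((inferInstance : N.Normal).conj_mem _ (inv_mem v.2) a)
      · show iota N _ = iota N v * rho N a * (iota N v)⁻¹ * (rho N a)⁻¹
        rw [show iota N v * rho N a * (iota N v)⁻¹ * (rho N a)⁻¹ =
          iota N v * (rho N a * (iota N v)⁻¹ * (rho N a)⁻¹) by group, ← map_inv, rho_conj, ← map_mul]
        refine congrArg (iota N) (Subtype.ext ?_)
        simp only [commutatorElement_def, Subgroup.coe_mul, Subgroup.coe_inv]
        group
    refine (Subgroup.card_le_of_le hle).trans ?_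
    rw [Subgroup.card_map_of_injective (show Function.Injective (iota N) from SemidirectProduct.inl_injective)]
    exact Nat.card_le_card_of_injective (fun x => (⟨((x : N) : G), x.2⟩ : (⁅N, A⁆ : Subgroup G)))
      fun x y hxy => Subtype.ext (Subtype.ext (congrArg (fun z : (⁅N, A⁆ : Subgroup G) => (z : G)) hxy))

/-- The bound in a group with known sections. -/
theorem bound_reduced (h : Good G) {N : Subgroup G} [N.Normal] (hN : Cfsg.IsElementaryAbelian 2 N)
    (hO : Cfsg.pCore 2 (G ⧸ centralizer (N : Set G)) = ⊥) {A : Subgroup G}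
    (hA : Cfsg.IsElementaryAbelian 2 (A.map (CfsgLib.Fusion.FailureFactor.rho N))) :
    Nat.card A ^ 2 * Nat.card ↥(N ⊓ centralizer (A : Set G)) ≤
        Nat.card N * Nat.card ↥(A ⊓ centralizer (N : Set G)) ^ 2 ∧
      Nat.card A ^ 2 ≤ Nat.card ↥⁅N, A⁆ * Nat.card ↥(A ⊓ centralizer (N : Set G)) ^ 2 :=
  bound_reduced' h.free (h.kg.of_surjective _ (QuotientGroup.mk'_surjective _)) hN hO hA

open CfsgLib.Fusion.FailureFactor in
/-- The cost of an elementary abelian group acting on a normal elementary abelian 2-subgroup. -/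
theorem cost : ∀ (n : ℕ) {G : Type u} [Group G] [Finite G], Good G → ∀ (N : Subgroup G) [N.Normal],
    Nat.card N = n → Cfsg.IsElementaryAbelian 2 N → ∀ A : Subgroup G, Cfsg.IsElementaryAbelian 2 A →
    ∃ M : Subgroup G, M.Normal ∧ TwoOn N M ∧
      Nat.card A ^ 2 * Nat.card ↥(N ⊓ centralizer (A : Set G)) ≤ Nat.card N * Nat.card ↥(A ⊓ M) ^ 2 := by
  intro n
  induction n using Nat.strong_induction_on with
  | _ n IH => ?_
  intro G _ _ h N _ hn hN A hA
  haveI : Fact (Nat.Prime 2) := ⟨Nat.prime_two⟩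
  haveI := hA.1
  set C := centralizer (N : Set G) with hC
  haveI : C.Normal := Subgroup.normal_centralizer
  by_cases hO : Cfsg.pCore 2 (G ⧸ C) = ⊥
  · exact ⟨C, inferInstance, fun x hx => ⟨0, by rwa [pow_zero, pow_one]⟩, (bound_reduced h hN hO (CfsgLib.Fusion.Thompson.isEA_map _ hA)).1⟩
  set R := (Cfsg.pCore 2 (G ⧸ C)).comap (QuotientGroup.mk' C) with hR
  haveI : R.Normal := Normal.comap inferInstance _
  haveI : (centralizer (R : Set G)).Normal := Subgroup.normal_centralizer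
  set N1 := N ⊓ centralizer (R : Set G) with hN1
  haveI : N1.Normal := inferInstance
  have hRC : ¬ R ≤ C := fun hle => hO (by
    rw [eq_bot_iff]
    intro y hy
    obtain ⟨x, rfl⟩ := QuotientGroup.mk'_surjective C y
    exact (QuotientGroup.eq_one_iff x).2 (hle hy))
  have hne : N1 ≠ N := fun he => hRC (le_centralizer_iff.1 (inf_eq_left.1 he))
  have hne' : N1 ≠ ⊥ := by
    have hNbot : N ≠ ⊥ := fun hb => hRC fun x _ => mem_centralizer_iff.2 fun y hy => by
      rw [hb] at hy; rw [mem_bot.1 hy, one_mul, mul_one]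
    have hQ : IsPGroup 2 (R.map (rho N)) := by
      have : R.map (rho N) = ((Cfsg.pCore 2 (G ⧸ C))).map
          (SemidirectProduct.inr : G ⧸ C →* Amb N) := by
        rw [hR]
        conv_rhs => rw [← map_comap_eq_self_of_surjective (QuotientGroup.mk'_surjective C) (Cfsg.pCore 2 (G ⧸ C)),
          map_map]
        rfl
      rw [this]
      exact (Cores.isPGroup_pCore 2).map _
    have hv : vv N ≠ ⊥ := fun hb => hNbot (Subgroup.eq_bot_of_card_eq _ (by
      rw [← card_vv N, hb, Subgroup.card_bot]))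
    obtain ⟨y, ⟨⟨v, rfl⟩, hy⟩, hy1⟩ := Large.exists_fixed hQ (CfsgLib.Fusion.Thompson.isPGroup_isEA (vv_ea N hN)) hv
      ((map_le_range _ _).trans (range_le_normalizer N))
    intro hb
    have hv1 : (v : G) ∈ N1 := mem_inf.2 ⟨v.2, mem_centralizer_iff.2 fun r hr =>
      ((commute_rho_iff N (g := r) (v := v)).1 (mem_centralizer_iff.1 hy _ ⟨r, hr, rfl⟩)).eq⟩
    rw [hb, mem_bot] at hv1
    exact hy1 (by rw [show v = 1 from Subtype.ext hv1, map_one])
  have hN1c : Nat.card N1 < n := hn ▸ lt_of_le_of_ne (Subgroup.card_le_of_le inf_le_left)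
    fun he => hne (Subgroup.eq_of_le_of_card_ge inf_le_left he.ge)
  obtain ⟨M1, hM1n, hM1, hb1⟩ := IH _ hN1c h N1 rfl (CfsgLib.Fusion.Thompson.isEA_le hN inf_le_left) A hA
  set q := QuotientGroup.mk' N1 with hq
  have hcN := card_map_mul_inf q N
  rw [QuotientGroup.ker_mk', inf_eq_right.2 (inf_le_left : N1 ≤ N)] at hcN
  have hNq : Nat.card (N.map q) < n := by
    rw [← hn, ← hcN]
    exact lt_mul_of_one_lt_right Nat.card_pos
      (Finite.one_lt_card_iff_nontrivial.2 ((Subgroup.nontrivial_iff_ne_bot N1).2 hne'))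
  haveI : (N.map q).Normal := Subgroup.Normal.map inferInstance q (QuotientGroup.mk'_surjective N1)
  obtain ⟨M2, hM2n, hM2, hb2⟩ := IH _ hNq (h.quotient N1) (N.map q) rfl
    (CfsgLib.Fusion.Thompson.isEA_map q hN) (A.map q) (CfsgLib.Fusion.Thompson.isEA_map q hA)
  set M := M1 ⊓ M2.comap q with hM
  haveI := hM1n
  haveI : (M2.comap q).Normal := hM2n.comap q
  refine ⟨M, inferInstance, fun x hx => ?_, ?_⟩
  · obtain ⟨hx1, hx2⟩ := mem_inf.1 hx
    obtain ⟨i, hi⟩ := hM1 x hx1
    obtain ⟨j, hj⟩ := hM2 (q x) hx2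
    refine ⟨i + j + 1, ?_⟩
    set y := x ^ 2 ^ (i + j) with hy
    have hy1 : y ∈ centralizer (N1 : Set G) := by
      rw [hy, pow_add, pow_mul]; exact pow_mem hi _
    have hy2 : q y ∈ centralizer (N.map q : Set (G ⧸ N1)) := by
      rw [hy, map_pow, add_comm, pow_add, pow_mul]; exact pow_mem hj _
    rw [pow_succ, pow_mul, ← hy, pow_two]
    refine mem_centralizer_iff.2 fun m hm => ?_
    have h1 : m⁻¹ * (y * m * y⁻¹) ∈ N1 := by
      rw [← QuotientGroup.eq]
      show q m = q (y * m * y⁻¹)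
      rw [map_mul, map_mul, map_inv, ← mem_centralizer_iff.1 hy2 (q m) ⟨m, hm, rfl⟩, mul_inv_cancel_right]
    set z := m⁻¹ * (y * m * y⁻¹)
    have hz2 : z * z = 1 := by rw [← pow_two]; exact hN.2 z h1.1
    have e : y * m * y⁻¹ = m * z := (mul_inv_cancel_left m _).symm
    have ez : y * z * y⁻¹ = z := by rw [← mem_centralizer_iff.1 hy1 z h1, mul_inv_cancel_right]
    have e2 : y * y * m * (y * y)⁻¹ = m := by
      calc y * y * m * (y * y)⁻¹ = y * (y * m * y⁻¹) * y⁻¹ := by group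
        _ = y * (m * z) * y⁻¹ := by rw [e]
        _ = (y * m * y⁻¹) * (y * z * y⁻¹) := by group
        _ = m := by rw [e, ez, mul_assoc, hz2, mul_one]
    exact (mul_inv_eq_iff_eq_mul.1 e2).symm
  · have hc := card_map_mul_inf q (N ⊓ centralizer (A : Set G))
    rw [QuotientGroup.ker_mk', inf_assoc, inf_comm (centralizer (A : Set G)), ← inf_assoc,
      inf_eq_right.2 (inf_le_left : N1 ≤ N)] at hc
    have hle : (N ⊓ centralizer (A : Set G)).map q ≤ N.map q ⊓ centralizer (A.map q : Set (G ⧸ N1)) := by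
      rintro _ ⟨x, ⟨hxN, hxA⟩, rfl⟩
      refine mem_inf.2 ⟨⟨x, hxN, rfl⟩, mem_centralizer_iff.2 ?_⟩
      rintro _ ⟨a, ha, rfl⟩
      rw [← map_mul, ← map_mul, mem_centralizer_iff.1 hxA a ha]
    have hc' := Nat.mul_le_mul_right (Nat.card ↥(N1 ⊓ centralizer (A : Set G))) (Subgroup.card_le_of_le hle)
    rw [hc] at hc'
    have hA1 := card_map_mul_inf q A
    have hA2 := card_map_mul_inf q (A ⊓ M2.comap q)
    rw [QuotientGroup.ker_mk', inf_assoc,
      inf_eq_right.2 (show N1 ≤ M2.comap q by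
        refine le_trans ?_ (comap_mono (bot_le : (⊥ : Subgroup (G ⧸ N1)) ≤ M2))
        rw [MonoidHom.comap_bot, QuotientGroup.ker_mk'])] at hA2
    rw [QuotientGroup.ker_mk'] at hA1
    rw [show (A ⊓ M2.comap q).map q = A.map q ⊓ M2 by
      ext y
      constructor
      · rintro ⟨x, ⟨hxA, hxM⟩, rfl⟩; exact mem_inf.2 ⟨⟨x, hxA, rfl⟩, hxM⟩
      · rintro ⟨⟨x, hx, rfl⟩, hy⟩; exact ⟨x, mem_inf.2 ⟨hx, hy⟩, rfl⟩] at hA2
    have hinf := CfsgLib.Fusion.Thompson.card_sup_mul_card_inf (N := A ⊓ M1) (K := A ⊓ M2.comap q)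
      (fun x hx => centralizer_le_normalizer _ (mem_centralizer_iff.2 fun y hy =>
        setLike_mul_comm (mem_inf.1 hy).1 (mem_inf.1 hx).1))
    have hsup : Nat.card ↥(A ⊓ M1 ⊔ A ⊓ M2.comap q) ≤ Nat.card A :=
      Subgroup.card_le_of_le (sup_le inf_le_left inf_le_left)
    rw [show A ⊓ M1 ⊓ (A ⊓ M2.comap q) = A ⊓ M by rw [hM, inf_inf_inf_comm, inf_idem]] at hinf
    set c := Nat.card ↥(N ⊓ centralizer (A : Set G))
    set c1 := Nat.card ↥(N1 ⊓ centralizer (A : Set G))
    set c2 := Nat.card ↥(N.map q ⊓ centralizer (A.map q : Set (G ⧸ N1)))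
    set a := Nat.card A
    set a0 := Nat.card ↥(A ⊓ N1)
    set m1 := Nat.card ↥(A ⊓ M1)
    set m2 := Nat.card ↥(A ⊓ M2.comap q)
    have hb2' : a ^ 2 * c2 ≤ Nat.card (N.map q) * m2 ^ 2 := by
      calc a ^ 2 * c2 = (Nat.card (A.map q) ^ 2 * c2) * a0 ^ 2 := by rw [← hA1]; ring
        _ ≤ (Nat.card (N.map q) * Nat.card ↥(A.map q ⊓ M2) ^ 2) * a0 ^ 2 := Nat.mul_le_mul_right _ hb2
        _ = _ := by rw [← hA2]; ring
    have hm : m1 * m2 ≤ a * Nat.card ↥(A ⊓ M) := hinf ▸ Nat.mul_le_mul_right _ hsup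
    have hpos : 0 < a ^ 2 := pow_pos Nat.card_pos 2
    refine Nat.le_of_mul_le_mul_left ?_ hpos
    calc a ^ 2 * (a ^ 2 * c) ≤ a ^ 2 * (a ^ 2 * (c2 * c1)) :=
          Nat.mul_le_mul_left _ (Nat.mul_le_mul_left _ hc')
      _ = (a ^ 2 * c1) * (a ^ 2 * c2) := by ring
      _ ≤ (Nat.card N1 * m1 ^ 2) * (Nat.card (N.map q) * m2 ^ 2) := Nat.mul_le_mul hb1 hb2'
      _ = Nat.card N * (m1 * m2) ^ 2 := by rw [← hcN]; ring
      _ ≤ Nat.card N * (a * Nat.card ↥(A ⊓ M)) ^ 2 := Nat.mul_le_mul_left _ (Nat.pow_le_pow_left hm 2)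
      _ = _ := by ring

end CfsgLib.LocalEven.TwoFactor
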