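import Cfsg.Agent.Lib.LocalEven.TwoFactor.Sylows

/-!
Conjugations generated by `C(Ω₁(Z(Ĵ(S))))` and `N(J(S))` on subgroups of `S`.
-/

set_option autoImplicit false
set_option linter.style.haveILetI false
set_option linter.unusedSectionVars false

namespace CfsgLib.LocalEven.TwoFactor

open Subgroup CfsgLib.Solvable

universe u v

variable {G : Type u} [Group G] {L : Type v} [Group L]

/-- The conjugate of `U` by `g`. -/
abbrev Cj (U : Subgroup G) (g : G) : Subgroup G := U.map (MulAut.conj g).toMonoidHom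

/-- Conjugation by `g` maps `U` into `S`. -/
def Maps (S U : Subgroup G) (g : G) : Prop := ∀ u ∈ U, g * u * g⁻¹ ∈ S

/-- Conjugations composed of steps from `C(BHat S)` and `N(JE S)` inside `S`. -/
inductive Gen (S : Subgroup G) : Subgroup G → G → Prop
  | base (U : Subgroup G) (n : G) : U ≤ S → Maps S U n →
      (n ∈ centralizer (BHat S : Set G) ∨ n ∈ normalizer (JE S : Set G)) → Gen S U n
  | comp (U : Subgroup G) (g h : G) : Gen S U g → Gen S (Cj U g) h → Gen S U (h * g)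
  | congr (U : Subgroup G) (g h : G) : (∀ u ∈ U, g * u * g⁻¹ = h * u * h⁻¹) → Gen S U g → Gen S U h

/-- All conjugations inside `S` are generated. -/
def GenAll (S : Subgroup G) : Prop := ∀ (U : Subgroup G) (g : G), U ≤ S → Maps S U g → Gen S U g

theorem cj_cj (U : Subgroup G) (g h : G) : Cj (Cj U g) h = Cj U (h * g) := SylowIn.map_conj_conj U h g

theorem mem_cj {U : Subgroup G} {g u : G} (hu : u ∈ U) : g * u * g⁻¹ ∈ Cj U g := ⟨u, hu, rfl⟩

theorem cj_le_iff {U V : Subgroup G} {g : G} : Cj U g ≤ V ↔ Maps V U g :=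
  ⟨fun h _ hu => h (mem_cj hu), fun h _ ⟨u, hu, e⟩ => e ▸ h u hu⟩

theorem cj_congr {U : Subgroup G} {g h : G} (e : ∀ u ∈ U, g * u * g⁻¹ = h * u * h⁻¹) : Cj U g = Cj U h := by
  apply le_antisymm
  · exact cj_le_iff.2 fun u hu => e u hu ▸ mem_cj hu
  · exact cj_le_iff.2 fun u hu => (e u hu).symm ▸ mem_cj hu

theorem cj_inv_cj (U : Subgroup G) (g : G) : Cj (Cj U g) g⁻¹ = U := by
  rw [cj_cj, inv_mul_cancel, Cj, SylowIn.map_conj_one]

theorem cj_eq_of_mem {U : Subgroup G} {g : G} (hg : g ∈ normalizer (U : Set G)) : Cj U g = U :=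
  Subgroup.mem_normalizer_iff_map_conj_eq.1 hg

theorem mem_normalizer_of_maps [Finite G] {U : Subgroup G} {g : G} (h : Maps U U g) :
    g ∈ normalizer (U : Set G) :=
  Subgroup.mem_normalizer_iff_map_conj_eq.2 (Subgroup.eq_of_le_of_card_ge (cj_le_iff.2 h)
    (le_of_eq (Subgroup.card_map_of_injective (MulAut.conj g).injective).symm))

theorem card_cj (U : Subgroup G) (g : G) : Nat.card (Cj U g) = Nat.card U :=
  Subgroup.card_map_of_injective (MulAut.conj g).injective

theorem Gen.le {S U : Subgroup G} {g : G} (h : Gen S U g) : U ≤ S := by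
  induction h with
  | base U n hU _ _ => exact hU
  | comp U g h _ _ ih _ => exact ih
  | congr U g h _ _ ih => exact ih

theorem Gen.maps {S U : Subgroup G} {g : G} (h : Gen S U g) : Maps S U g := by
  induction h with
  | base U n _ hn _ => exact hn
  | comp U g h _ _ _ ih2 =>
    intro u hu
    have := ih2 _ (mem_cj (g := g) hu)
    simpa [mul_assoc] using this
  | congr U g h e _ ih => exact fun u hu => e u hu ▸ ih u hu

theorem Gen.cj_le {S U : Subgroup G} {g : G} (h : Gen S U g) : Cj U g ≤ S := cj_le_iff.2 h.maps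

theorem Gen.one {S U : Subgroup G} (hU : U ≤ S) : Gen S U 1 :=
  .base U 1 hU (fun u hu => by simpa using hU hu) (Or.inl (one_mem _))

theorem Gen.mono {S U : Subgroup G} {g : G} (h : Gen S U g) : ∀ V : Subgroup G, V ≤ U → Gen S V g := by
  induction h with
  | base U n hU hn hb => exact fun V hV => .base V n (hV.trans hU) (fun v hv => hn v (hV hv)) hb
  | comp U g h _ _ ih1 ih2 => exact fun V hV => .comp V g h (ih1 V hV) (ih2 _ (map_mono hV))
  | congr U g h e _ ih => exact fun V hV => .congr V g h (fun v hv => e v (hV hv)) (ih V hV)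

theorem Gen.trans {S U V : Subgroup G} {g h : G} (h1 : Gen S U g) (h2 : Gen S V h) (hle : Cj U g ≤ V) :
    Gen S U (h * g) :=
  .comp U g h h1 (h2.mono _ hle)

theorem Gen.inv {S U : Subgroup G} {g : G} (h : Gen S U g) : Gen S (Cj U g) g⁻¹ := by
  induction h with
  | base U n hU hn hb =>
    refine .base _ _ (cj_le_iff.2 hn) ?_ (hb.imp inv_mem inv_mem)
    rintro _ ⟨u, hu, rfl⟩
    simpa [mul_assoc] using hU hu
  | comp U g h _ _ ih1 ih2 =>
    rw [← cj_cj, mul_inv_rev]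
    exact ih2.trans ih1 (le_of_eq (cj_inv_cj _ h))
  | congr U g h e _ ih =>
    rw [← cj_congr e]
    refine .congr _ g⁻¹ h⁻¹ ?_ ih
    rintro _ ⟨u, hu, rfl⟩
    calc g⁻¹ * (g * u * g⁻¹) * g⁻¹⁻¹ = u := by group
      _ = h⁻¹ * (h * u * h⁻¹) * h⁻¹⁻¹ := by group
      _ = h⁻¹ * (g * u * g⁻¹) * h⁻¹⁻¹ := by rw [e u hu]

theorem Gen.bind {T S U : Subgroup G} {g : G} (h : Gen T U g)
    (hb : ∀ V n, V ≤ T → Maps T V n →
      (n ∈ centralizer (BHat T : Set G) ∨ n ∈ normalizer (JE T : Set G)) → Gen S V n) : Gen S U g := by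
  induction h with
  | base U n hU hn hcond => exact hb U n hU hn hcond
  | comp U g h _ _ ih1 ih2 => exact .comp U g h ih1 ih2
  | congr U g h e _ ih => exact .congr U g h e ih

theorem Gen.map {f : G →* L} (hf : Function.Injective f) {S U : Subgroup G} {g : G} (h : Gen S U g) :
    Gen (S.map f) (U.map f) (f g) := by
  induction h with
  | base U n hU hn hb =>
    refine .base _ _ (map_mono hU) ?_ (hb.imp (fun hc => ?_) fun hn => ?_)
    · rintro _ ⟨u, hu, rfl⟩
      exact ⟨n * u * n⁻¹, hn u hu, by rw [map_mul, map_mul, map_inv]⟩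
    · rw [bhat_map hf]
      refine mem_centralizer_iff.2 ?_
      rintro _ ⟨b, hb, rfl⟩
      rw [← map_mul, ← map_mul, mem_centralizer_iff.1 hc b hb]
    · rw [je_map hf]
      exact le_normalizer_map f ⟨n, hn, rfl⟩
  | comp U g h _ _ ih1 ih2 =>
    rw [map_mul]
    refine .comp _ _ _ ih1 ?_
    have e : (Cj U g).map f = Cj (U.map f) (f g) := by
      ext x
      constructor
      · rintro ⟨_, ⟨u, hu, rfl⟩, rfl⟩
        exact ⟨f u, ⟨u, hu, rfl⟩, by simp⟩
      · rintro ⟨_, ⟨u, hu, rfl⟩, rfl⟩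
        exact ⟨g * u * g⁻¹, mem_cj hu, by simp⟩
    rwa [← e]
  | congr U g h e _ ih =>
    refine .congr _ _ _ ?_ ih
    rintro _ ⟨u, hu, rfl⟩
    rw [← map_inv, ← map_inv, ← map_mul, ← map_mul, ← map_mul, ← map_mul, e u hu]

/-- Generated conjugations are induced by `N(A)` for suitable `A`. -/
theorem Gen.exists_mem {S U A : Subgroup G} {g : G} (h : Gen S U g)
    (h1 : centralizer (BHat S : Set G) ≤ normalizer (A : Set G))
    (h2 : normalizer (JE S : Set G) ≤ normalizer (A : Set G)) :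
    ∃ m ∈ normalizer (A : Set G), ∀ u ∈ U, g * u * g⁻¹ = m * u * m⁻¹ := by
  induction h with
  | base U n _ _ hb => exact ⟨n, hb.elim (fun h => h1 h) (fun h => h2 h), fun _ _ => rfl⟩
  | comp U g h _ _ ih1 ih2 =>
    obtain ⟨m, hm, em⟩ := ih1
    obtain ⟨l, hl, el⟩ := ih2
    refine ⟨l * m, mul_mem hl hm, fun u hu => ?_⟩
    calc h * g * u * (h * g)⁻¹ = h * (g * u * g⁻¹) * h⁻¹ := by group
      _ = l * (g * u * g⁻¹) * l⁻¹ := el _ (mem_cj hu)
      _ = _ := by rw [em u hu]; group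
  | congr U g h e _ ih =>
    obtain ⟨m, hm, em⟩ := ih
    exact ⟨m, hm, fun u hu => (e u hu).symm.trans (em u hu)⟩

/-- Transport from a subgroup. -/
theorem gen_of_subgroup {H T : Subgroup G} (hT : T ≤ H) (hG : GenAll (T.subgroupOf H)) {U : Subgroup G} {g : G}
    (hU : U ≤ T) (hg : g ∈ H) (hm : Maps T U g) : Gen T U g := by
  have h := (hG (U.subgroupOf H) ⟨g, hg⟩ (fun x hx => hU hx) fun u hu => hm u hu).map H.subtype_injective
  rwa [map_subgroupOf_eq_of_le hT, map_subgroupOf_eq_of_le (hU.trans hT)] at h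

variable [Finite G]

/-- Splitting a product along `S`-invariant subgroups. -/
theorem split (S : Sylow 2 G) {K N : Subgroup G} (hSK : (S : Subgroup G) ≤ normalizer (K : Set G))
    (hSN : (S : Subgroup G) ≤ N) {U : Subgroup G} {k n : G} (hk : k ∈ K) (hn : n ∈ N)
    (hU : U ≤ (S : Subgroup G)) (hm : Maps (S : Subgroup G) U (k * n)) :
    ∃ k1 ∈ K, ∃ n1 ∈ N, k * n = k1 * n1 ∧ Maps (S : Subgroup G) U n1 := by
  haveI : Fact (Nat.Prime 2) := ⟨Nat.prime_two⟩
  set P := (K ⊓ N) ⊔ (S : Subgroup G)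
  have hPS : SylowIn.IsSylowIn 2 (S : Subgroup G) P := ⟨le_sup_right, S.2, fun V _ hV h => S.3 hV h⟩
  have hKS : ∀ x ∈ K ⊔ (S : Subgroup G), ∃ a ∈ K, ∃ s ∈ (S : Subgroup G), x = a * s := fun x hx => by
    rw [← SetLike.mem_coe, coe_mul_of_right_le_normalizer_left _ _ hSK] at hx
    obtain ⟨a, ha, s, hs, e⟩ := hx
    exact ⟨a, ha, s, hs, e.symm⟩
  have hUP : Cj U n ≤ P := by
    rintro _ ⟨u, hu, rfl⟩
    have h1 : n * u * n⁻¹ ∈ K ⊔ (S : Subgroup G) := by
      rw [show n * u * n⁻¹ = k⁻¹ * (k * n * u * (k * n)⁻¹) * k by group]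
      exact mul_mem (mul_mem (mem_sup_left (inv_mem hk)) (mem_sup_right (hm u hu))) (mem_sup_left hk)
    obtain ⟨a, ha, s, hs, e⟩ := hKS _ h1
    show n * u * n⁻¹ ∈ P
    rw [e]
    refine mul_mem (mem_sup_left (mem_inf.2 ⟨ha, ?_⟩)) (mem_sup_right hs)
    rw [show a = n * u * n⁻¹ * s⁻¹ by rw [e, mul_inv_cancel_right]]
    exact mul_mem (mul_mem (mul_mem hn (hSN (hU hu))) (inv_mem hn)) (inv_mem (hSN hs))
  obtain ⟨y, hy, hyS⟩ := CfsgLib.Fsys.sylow_conjugate_into hPS hUP ((S.2.to_le hU).map _)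
  rw [← SetLike.mem_coe, show P = (S : Subgroup G) ⊔ (K ⊓ N) from sup_comm _ _,
    coe_mul_of_left_le_normalizer_right _ _ (fun s hs => mem_normalizer_iff.2 fun x => by
      simp only [mem_inf]
      exact and_congr (mem_normalizer_iff.1 (hSK hs) x) (mem_normalizer_iff.1 (le_normalizer (hSN hs)) x))] at hy
  obtain ⟨s, hs, a, ha, rfl⟩ := hy
  refine ⟨k * a⁻¹, mul_mem hk (inv_mem ha.1), a * n, mul_mem ha.2 hn, by group, fun u hu => ?_⟩
  have h := hyS (mem_cj (g := s * a) (mem_cj (g := n) hu))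
  rw [show a * n * u * (a * n)⁻¹ = s⁻¹ * (s * a * (n * u * n⁻¹) * (s * a)⁻¹) * s by group]
  exact mul_mem (mul_mem (inv_mem hs) h) hs

/-- Moving the normaliser of `U` in `S` to a fully normalised position. -/
theorem exists_fully (S : Sylow 2 G) {U : Subgroup G} (hU : U ≤ (S : Subgroup G)) :
    ∃ h : G, Maps (S : Subgroup G) ((S : Subgroup G) ⊓ normalizer (U : Set G)) h ∧
      SylowIn.IsSylowIn 2 ((S : Subgroup G) ⊓ normalizer (Cj U h : Set G)) (normalizer (Cj U h : Set G)) := by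
  haveI : Fact (Nat.Prime 2) := ⟨Nat.prime_two⟩
  obtain ⟨R, hR, hle⟩ := SylowIn.exists_isSylowIn (p := 2) (normalizer (U : Set G))
    (inf_le_right : (S : Subgroup G) ⊓ normalizer (U : Set G) ≤ _) (S.2.to_le inf_le_left)
  obtain ⟨R', hR'⟩ := hR.2.1.exists_le_sylow
  obtain ⟨h, hh⟩ := MulAction.exists_smul_eq G R' S
  have hRS : Cj R h ≤ (S : Subgroup G) := hh ▸ map_mono hR'
  refine ⟨h, fun x hx => hRS (mem_cj (hle hx)), ?_⟩
  have h2 := hR.map_conj h
  rw [← SylowIn.normalizer_map_conj] at h2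
  have e := h2.2.2 _ inf_le_right (S.2.to_le inf_le_left) (le_inf hRS h2.1)
  rw [e]; exact h2

/-- Fully normalised subgroups suffice. -/
theorem reduce_fully (S : Sylow 2 G) {t : ℕ}
    (hbig : ∀ (U : Subgroup G) (g : G), t < Nat.card U → U ≤ (S : Subgroup G) → Maps (S : Subgroup G) U g →
      Gen (S : Subgroup G) U g)
    (hfn : ∀ (U : Subgroup G) (g : G), Nat.card U = t → U < (S : Subgroup G) → Maps (S : Subgroup G) U g →
      SylowIn.IsSylowIn 2 ((S : Subgroup G) ⊓ normalizer (U : Set G)) (normalizer (U : Set G)) →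
      Gen (S : Subgroup G) U g)
    {U : Subgroup G} {g : G} (hU : Nat.card U = t) (hUS : U ≤ (S : Subgroup G))
    (hm : Maps (S : Subgroup G) U g) : Gen (S : Subgroup G) U g := by
  by_cases he : U = (S : Subgroup G)
  · subst he
    refine .base _ g le_rfl hm (Or.inr ?_)
    exact normalizer_le_je _ (mem_normalizer_of_maps hm)
  obtain ⟨h, hh, hfull⟩ := exists_fully S hUS
  have hlt := lt_inf_normalizer S.2 (lt_of_le_of_ne hUS he)
  have hUT : U ≤ (S : Subgroup G) ⊓ normalizer (U : Set G) := le_inf hUS le_normalizer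
  have g1 : Gen (S : Subgroup G) U h := (hbig _ h (hU ▸ hlt) inf_le_left hh).mono _ hUT
  have hne : Cj U h ≠ (S : Subgroup G) := fun e => by
    have h2 := Subgroup.card_le_of_le (inf_le_left : (S : Subgroup G) ⊓ normalizer (U : Set G) ≤ S)
    have h3 := card_cj U h
    rw [e] at h3
    omega
  have g2 : Gen (S : Subgroup G) (Cj U h) (g * h⁻¹) := hfn _ _ ((card_cj U h).trans hU)
    (lt_of_le_of_ne g1.cj_le hne) (by
      rintro _ ⟨u, hu, rfl⟩
      rw [show g * h⁻¹ * (MulAut.conj h).toMonoidHom u * (g * h⁻¹)⁻¹ = g * u * g⁻¹ by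
        show g * h⁻¹ * (h * u * h⁻¹) * (g * h⁻¹)⁻¹ = _
        group]
      exact hm u hu) hfull
  have := g1.trans g2 le_rfl
  rwa [inv_mul_cancel_right] at this

end CfsgLib.LocalEven.TwoFactor
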