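import Cfsg.Agent.Lib.LocalEven.TwoFactor.Gen

/-!
Generated conjugations when `O₂(G) = 1`.
-/

set_option autoImplicit false
set_option linter.style.haveILetI false
set_option linter.unusedSectionVars false

namespace CfsgLib.LocalEven.TwoFactor

open Subgroup CfsgLib.Solvable

universe u

variable {G : Type u} [Group G] [Finite G]

/-- All conjugations inside Sylow subgroups of proper subgroups are generated. -/
def GenProper (G : Type u) [Group G] : Prop :=
  ∀ H : Subgroup G, H ≠ ⊤ → ∀ T : Subgroup G, SylowIn.IsSylowIn 2 T H → ∀ (U : Subgroup G) (g : G),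
    U ≤ T → g ∈ H → Maps T U g → Gen T U g

theorem gen_local_ind (hO : Cfsg.pCore 2 G = ⊥) (hsub : GenProper G) (S : Sylow 2 G) :
    ∀ (k t : ℕ), Nat.card G ≤ t + k →
      (∀ (U : Subgroup G) (g : G), Nat.card U = t → U ≤ (S : Subgroup G) → Maps (S : Subgroup G) U g →
        Gen (S : Subgroup G) U g) ∧
      (∀ (Q : Subgroup G), Q ≤ (S : Subgroup G) → Q ≠ ⊥ →
        Nat.card ↥((S : Subgroup G) ⊓ normalizer (Q : Set G)) = t → ∀ g ∈ normalizer (Q : Set G),
        ∀ U : Subgroup G, U ≤ (S : Subgroup G) ⊓ normalizer (Q : Set G) → Maps (S : Subgroup G) U g →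
        Gen (S : Subgroup G) U g) := by
  haveI : Fact (Nat.Prime 2) := ⟨Nat.prime_two⟩
  intro k
  induction k using Nat.strong_induction_on with
  | _ k IH => ?_
  intro t htk
  have hbig : ∀ (U : Subgroup G) (g : G), t < Nat.card U → U ≤ (S : Subgroup G) → Maps (S : Subgroup G) U g →
      Gen (S : Subgroup G) U g := fun U g hlt hU hm => by
    have hle := Subgroup.card_le_card_group U
    exact (IH (k - (Nat.card U - t)) (by omega) _ (by omega)).1 U g rfl hU hm
  have hP : ∀ (Q : Subgroup G), Q ≤ (S : Subgroup G) → Q ≠ ⊥ →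
      t < Nat.card ↥((S : Subgroup G) ⊓ normalizer (Q : Set G)) → ∀ g ∈ normalizer (Q : Set G),
      ∀ U : Subgroup G, U ≤ (S : Subgroup G) ⊓ normalizer (Q : Set G) → Maps (S : Subgroup G) U g →
      Gen (S : Subgroup G) U g := fun Q hQ hQ1 hlt => by
    have hle := Subgroup.card_le_card_group ((S : Subgroup G) ⊓ normalizer (Q : Set G))
    exact (IH (k - (Nat.card ↥((S : Subgroup G) ⊓ normalizer (Q : Set G)) - t)) (by omega) _
      (by omega)).2 Q hQ hQ1 rfl
  have hQst : ∀ (U : Subgroup G) (g : G), Nat.card U = t → U ≤ (S : Subgroup G) → Maps (S : Subgroup G) U g →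
      Gen (S : Subgroup G) U g := by
    intro U g hUt hUS hm
    refine reduce_fully S hbig ?_ hUt hUS hm
    clear hUt hUS hm U g
    intro U g hUt hUS hm hfull
    by_cases hU1 : U = ⊥
    · subst hU1
      exact .congr _ 1 g (fun u hu => by rw [mem_bot.1 hu]; group) (Gen.one bot_le)
    set V := Cj U g
    have hVS : V ≤ (S : Subgroup G) := cj_le_iff.2 hm
    have hVc : Nat.card V = t := (card_cj U g).trans hUt
    obtain ⟨h, hh, hfullV⟩ := exists_fully S hVS
    have hVlt : V < (S : Subgroup G) := lt_of_le_of_ne hVS fun e => by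
      have h1 := card_lt_of_lt hUS
      rw [← e, hVc, hUt] at h1
      exact lt_irrefl _ h1
    have hVT : V ≤ (S : Subgroup G) ⊓ normalizer (V : Set G) := le_inf hVS le_normalizer
    have G1 : Gen (S : Subgroup G) V h :=
      (hbig _ h (hVc ▸ lt_inf_normalizer S.2 hVlt) inf_le_left hh).mono _ hVT
    set V2 := Cj V h
    have hV2 : V2 ≤ (S : Subgroup G) := G1.cj_le
    have hV2lt : V2 < (S : Subgroup G) := lt_of_le_of_ne hV2 fun e => by
      have h1 := card_lt_of_lt hUS
      rw [← e, card_cj, hVc, hUt] at h1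
      exact lt_irrefl _ h1
    set T1 := (S : Subgroup G) ⊓ normalizer (U : Set G) with hT1
    set T2 := (S : Subgroup G) ⊓ normalizer (V2 : Set G) with hT2
    have e2 : V2 = Cj U (h * g) := cj_cj U g h
    have hT1' : SylowIn.IsSylowIn 2 (Cj T1 (h * g)) (normalizer (V2 : Set G)) := by
      rw [e2, SylowIn.normalizer_map_conj]; exact hfull.map_conj _
    obtain ⟨x, hx, hxe⟩ := hT1'.conjugate hfullV
    have G2 : Gen (S : Subgroup G) U (x * (h * g)) := by
      refine (hbig T1 _ (hUt ▸ lt_inf_normalizer S.2 hUS) inf_le_left fun u hu => ?_).mono _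
        (le_inf hUS.le le_normalizer)
      have : x * (h * g) * u * (x * (h * g))⁻¹ ∈ T2 := hxe.symm ▸ (by
        rw [show x * (h * g) * u * (x * (h * g))⁻¹ = x * (h * g * u * (h * g)⁻¹) * x⁻¹ by group]
        exact mem_cj (mem_cj hu))
      exact this.1
    have hV21 : V2 ≠ ⊥ := fun hb => hU1 ((Subgroup.map_eq_bot_iff_of_injective _
      (MulAut.conj (h * g)).injective).1 (show Cj U (h * g) = ⊥ by rw [← e2, hb]))
    have hcV2 : Nat.card V2 = t := (card_cj V h).trans hVc
    have G3 : Gen (S : Subgroup G) V2 x⁻¹ := hP V2 hV2 hV21 (hcV2 ▸ lt_inf_normalizer S.2 hV2lt) _ (inv_mem hx)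
      V2 (le_inf hV2 le_normalizer) fun u hu => hV2 ((mem_normalizer_iff.1 (inv_mem hx) u).1 hu)
    have G4 := (G2.trans G3 (le_of_eq (by rw [← cj_cj, ← e2, cj_eq_of_mem hx])))
    rw [inv_mul_cancel_left] at G4
    have G5 := G4.trans G1.inv (le_of_eq e2.symm)
    rwa [inv_mul_cancel_left] at G5
  refine ⟨hQst, fun Q hQS hQ1 ht g hg U hU hm => ?_⟩
  set T0 := (S : Subgroup G) ⊓ normalizer (Q : Set G) with hT0
  obtain ⟨T, hT, hT0T⟩ := SylowIn.exists_isSylowIn (p := 2) (normalizer (Q : Set G)) inf_le_right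
    (S.2.to_le inf_le_left : IsPGroup 2 T0)
  have hgU : Maps T0 U g := fun u hu => mem_inf.2 ⟨hm u hu, mul_mem (mul_mem hg (hU hu).2) (inv_mem hg)⟩
  by_cases hbig' : T0 = T
  · have hLtop : normalizer (Q : Set G) ≠ ⊤ := fun h => by
      haveI := Subgroup.normalizer_eq_top_iff.1 h
      exact hQ1 (le_bot_iff.1 (hO ▸ Cores.le_pCore (S.2.to_le hQS)))
    have G1 := hsub _ hLtop T hT U g (hbig' ▸ hU) hg (hbig' ▸ hgU)
    by_cases hTS : T = (S : Subgroup G)
    · exact hTS ▸ G1
    refine G1.bind fun V n hV hn hcond => ?_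
    have hTle : T ≤ (S : Subgroup G) := hbig' ▸ inf_le_left
    have hTlt : T < (S : Subgroup G) := lt_of_le_of_ne hTle hTS
    have hT1 : T ≠ ⊥ := fun hb => hQ1 (le_bot_iff.1 (hb ▸ hbig' ▸ le_inf hQS le_normalizer))
    have hmS : Maps (S : Subgroup G) V n := fun v hv => hTle (hn v hv)
    have hlt : ∀ Y : Subgroup G, normalizer (T : Set G) ≤ normalizer (Y : Set G) →
        t < Nat.card ↥((S : Subgroup G) ⊓ normalizer (Y : Set G)) := fun Y hY =>
      ht ▸ lt_of_lt_of_le (hbig'.symm ▸ lt_inf_normalizer S.2 hTlt)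
        (Subgroup.card_le_of_le (inf_le_inf_left _ hY))
    rcases hcond with hc | hc
    · exact hP (BHat T) (((bhat_le T).trans (jhat_le T)).trans hTle) (bhat_ne_bot hT.2.1 hT1)
        (hlt _ (le_normalizer_bhat T)) n (centralizer_le_normalizer _ hc) V
        (le_inf (hV.trans hTle) (hV.trans (le_normalizer.trans (le_normalizer_bhat T)))) hmS
    · exact hP (JE T) ((je_le T).trans hTle) (je_ne_bot hT.2.1 hT1) (hlt _ (normalizer_le_je T)) n hc V
        (le_inf (hV.trans hTle) (hV.trans (le_normalizer.trans (normalizer_le_je T)))) hmS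
  · obtain ⟨T', hT'⟩ := hT.2.1.exists_le_sylow
    obtain ⟨h, hh⟩ := MulAction.exists_smul_eq G T' S
    have hTS : Cj T h ≤ (S : Subgroup G) := hh ▸ map_mono hT'
    have G0 : Gen (S : Subgroup G) T0 h := hQst T0 h ht inf_le_left fun u hu => hTS (mem_cj (hT0T hu))
    have hQ1' : Cj Q h ≠ ⊥ := fun hb =>
      hQ1 ((Subgroup.map_eq_bot_iff_of_injective _ (MulAut.conj h).injective).1 hb)
    have hlt : t < Nat.card ↥((S : Subgroup G) ⊓ normalizer (Cj Q h : Set G)) := by
      have h1 : Cj T h ≤ (S : Subgroup G) ⊓ normalizer (Cj Q h : Set G) :=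
        le_inf hTS (SylowIn.normalizer_map_conj Q h ▸ map_mono hT.1)
      calc t = Nat.card T0 := ht.symm
        _ < Nat.card T := card_lt_of_lt (lt_of_le_of_ne hT0T hbig')
        _ = Nat.card (Cj T h) := (card_cj T h).symm
        _ ≤ _ := Subgroup.card_le_of_le h1
    have hgQ : h * g * h⁻¹ ∈ normalizer (Cj Q h : Set G) :=
      SylowIn.normalizer_map_conj Q h ▸ ⟨g, hg, rfl⟩
    have hQT0 : Q ≤ T0 := le_inf hQS le_normalizer
    have G1 : Gen (S : Subgroup G) (Cj U h) (h * g * h⁻¹) := by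
      refine hP _ ((map_mono hQT0).trans G0.cj_le) hQ1' hlt _ hgQ _
        (le_inf ((map_mono hU).trans G0.cj_le)
          (SylowIn.normalizer_map_conj Q h ▸ map_mono (hU.trans inf_le_right))) ?_
      rintro _ ⟨u, hu, rfl⟩
      show h * g * h⁻¹ * (h * u * h⁻¹) * (h * g * h⁻¹)⁻¹ ∈ (S : Subgroup G)
      rw [show h * g * h⁻¹ * (h * u * h⁻¹) * (h * g * h⁻¹)⁻¹ = h * (g * u * g⁻¹) * h⁻¹ by group]
      exact G0.maps _ (hgU u hu)
    have G2 := (G0.mono U hU).trans G1 le_rfl
    have G3 := (G0.mono (Cj U g) (cj_le_iff.2 hgU)).inv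
    have e : h * g * h⁻¹ * h = h * g := by group
    rw [e] at G2
    have G4 := G2.trans G3 (le_of_eq (cj_cj U g h).symm)
    rwa [inv_mul_cancel_left] at G4

theorem gen_local (hO : Cfsg.pCore 2 G = ⊥) (hsub : GenProper G) (S : Sylow 2 G) : GenAll (S : Subgroup G) :=
  fun U g hU hm => (gen_local_ind hO hsub S (Nat.card G) _ (Nat.le_add_left _ _)).1 U g rfl hU hm

end CfsgLib.LocalEven.TwoFactor
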