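import Cfsg.Agent.Lib.LocalEven.TwoFactor.GenConstrained
import Cfsg.Agent.Lib.LocalEven.TwoFactor.GenLocal

/-!
In an `S₄`-free group with known constrained sections, fusion in a Sylow 2-subgroup `S` is generated by
`C(Ω₁(Z(Ĵ(S))))` and `N(J(S))`.
-/

set_option autoImplicit false
set_option linter.style.haveILetI false
set_option linter.unusedSectionVars false

namespace CfsgLib.LocalEven.TwoFactor

open Subgroup CfsgLib.Solvable
open scoped commutatorElement

universe u

variable {G : Type u} [Group G] [Finite G]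

/-- Lifting along the quotient by a normal 2-subgroup. -/
theorem gen_lift {Q : Subgroup G} [Q.Normal] (S : Sylow 2 G) (hQS : Q ≤ (S : Subgroup G))
    (hO : Cfsg.pCore 2 (G ⧸ Q) = ⊥) (hSQ : ¬ (S : Subgroup G) ≤ Q) (hsub : GenProper G)
    {U : Subgroup (G ⧸ Q)} {g : G ⧸ Q} (h : Gen ((S : Subgroup G).map (QuotientGroup.mk' Q)) U g) :
    ∃ g' : G, Gen (S : Subgroup G) (U.comap (QuotientGroup.mk' Q)) g' ∧
      ∀ u ∈ U.comap (QuotientGroup.mk' Q),
        QuotientGroup.mk' Q (g' * u * g'⁻¹) = g * QuotientGroup.mk' Q u * g⁻¹ := by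
  haveI : Fact (Nat.Prime 2) := ⟨Nat.prime_two⟩
  set q := QuotientGroup.mk' Q with hq
  have hqs : Function.Surjective q := QuotientGroup.mk'_surjective Q
  set Sb := (S : Subgroup G).map q with hSb
  have hcS : Sb.comap q = (S : Subgroup G) := by
    rw [hSb, comap_map_eq, hq, QuotientGroup.ker_mk', sup_eq_left]; exact hQS
  have hSb2 : IsPGroup 2 Sb := S.2.map q
  have hSb1 : Sb ≠ ⊥ := fun hb => hSQ (by
    rw [hSb, Subgroup.map_eq_bot_iff, hq, QuotientGroup.ker_mk'] at hb; exact hb)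
  induction h with
  | base V n hV hn hb =>
    obtain ⟨n', rfl⟩ := hqs n
    refine ⟨n', ?_, fun u _ => by rw [map_mul, map_mul, map_inv]⟩
    obtain ⟨X, hX, hX1, hnX, hSX⟩ : ∃ X : Subgroup (G ⧸ Q), IsPGroup 2 X ∧ X ≠ ⊥ ∧
        q n' ∈ normalizer (X : Set (G ⧸ Q)) ∧ Sb ≤ normalizer (X : Set (G ⧸ Q)) := by
      rcases hb with hc | hc
      · exact ⟨BHat Sb, hSb2.to_le ((bhat_le _).trans (jhat_le _)), bhat_ne_bot hSb2 hSb1,
          centralizer_le_normalizer _ hc, le_normalizer.trans (le_normalizer_bhat _)⟩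
      · exact ⟨JE Sb, hSb2.to_le (je_le _), je_ne_bot hSb2 hSb1, hc, le_normalizer.trans (normalizer_le_je _)⟩
    have hSH : (S : Subgroup G) ≤ (normalizer (X : Set (G ⧸ Q))).comap q := hcS ▸ comap_mono hSX
    refine hsub _ (fun h => hX1 ?_) _ ⟨hSH, S.2, fun W _ hW h => S.3 hW h⟩ _ n'
      (hcS ▸ comap_mono hV) hnX fun u hu => ?_
    · have htop : normalizer (X : Set (G ⧸ Q)) = ⊤ :=
        comap_injective hqs (h.trans (comap_top q).symm)
      haveI := Subgroup.normalizer_eq_top_iff.1 htop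
      exact le_bot_iff.1 (hO ▸ Cores.le_pCore hX)
    · rw [← hcS, mem_comap, map_mul, map_mul, map_inv]
      exact hn _ hu
  | comp V g h _ _ ih1 ih2 =>
    obtain ⟨a, Ga, ea⟩ := ih1
    obtain ⟨b, Gb, eb⟩ := ih2
    have hle : Cj (V.comap q) a ≤ (Cj V g).comap q := by
      refine cj_le_iff.2 fun u hu => ?_
      rw [mem_comap, ea u hu]
      exact mem_cj hu
    refine ⟨b * a, Ga.trans Gb hle, fun u hu => ?_⟩
    rw [show b * a * u * (b * a)⁻¹ = b * (a * u * a⁻¹) * b⁻¹ by group,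
      eb _ (hle (mem_cj hu)), ea u hu]
    group
  | congr V g h e _ ih =>
    obtain ⟨a, Ga, ea⟩ := ih
    exact ⟨a, Ga, fun u hu => (ea u hu).trans (e _ hu)⟩

/-- The case `G = C(Q) S`, `Q = O₂(G) ≠ 1`. -/
theorem gen_central (S : Sylow 2 G) (hsup : centralizer (Cfsg.pCore 2 G : Set G) ⊔ (S : Subgroup G) = ⊤)
    (hsub : GenProper G)
    (hquot : GenAll ((S : Subgroup G).map (QuotientGroup.mk' (Cfsg.pCore 2 G)))) :
    GenAll (S : Subgroup G) := by
  haveI : Fact (Nat.Prime 2) := ⟨Nat.prime_two⟩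
  set Q := Cfsg.pCore 2 G
  set q := QuotientGroup.mk' Q with hq
  have hQS : Q ≤ (S : Subgroup G) := Cores.pCore_le_sylow S
  have hQ2 : IsPGroup 2 Q := Cores.isPGroup_pCore 2
  haveI : (centralizer (Q : Set G)).Normal := Subgroup.normal_centralizer
  suffices key : ∀ (k : ℕ) (U : Subgroup G) (g : G), Nat.card G ≤ Nat.card U + k → U ≤ (S : Subgroup G) →
      Maps (S : Subgroup G) U g → Gen (S : Subgroup G) U g from
    fun U g => key (Nat.card G) U g (Nat.le_add_left _ _)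
  intro k
  induction k using Nat.strong_induction_on with
  | _ k IH => ?_
  intro U g hk hU hm
  have hbig : ∀ (V : Subgroup G) (x : G), Nat.card U < Nat.card V → V ≤ (S : Subgroup G) →
      Maps (S : Subgroup G) V x → Gen (S : Subgroup G) V x := fun V x hlt hV hx => by
    have hle := Subgroup.card_le_card_group V
    exact IH (k - (Nat.card V - Nat.card U)) (by omega) V x (by omega) hV hx
  by_cases hQU : ¬ Q ≤ U
  · refine (hbig (U ⊔ Q) g (card_lt_of_lt (lt_of_le_of_ne le_sup_left fun e => hQU (e ▸ le_sup_right)))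
      (sup_le hU hQS) ?_).mono _ le_sup_left
    refine cj_le_iff.1 ?_
    rw [Cj, Subgroup.map_sup]
    exact sup_le (cj_le_iff.2 hm) (le_of_eq_of_le (cj_eq_of_mem (by rw [normalizer_eq_top]; trivial)) hQS)
  push Not at hQU
  refine reduce_fully S hbig ?_ rfl hU hm
  intro U1 g1 hc hU1 hm1 hfull
  -- `U1` is a conjugate containing `Q`
  by_cases hQU1 : ¬ Q ≤ U1
  · refine (hbig (U1 ⊔ Q) g1 (hc ▸ card_lt_of_lt (lt_of_le_of_ne le_sup_left fun e => hQU1 (e ▸ le_sup_right)))
      (sup_le hU1.le hQS) ?_).mono _ le_sup_left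
    refine cj_le_iff.1 ?_
    rw [Cj, Subgroup.map_sup]
    exact sup_le (cj_le_iff.2 hm1) (le_of_eq_of_le (cj_eq_of_mem (by rw [normalizer_eq_top]; trivial)) hQS)
  push Not at hQU1
  have hcU : (U1.map q).comap q = U1 := by
    rw [comap_map_eq, hq, QuotientGroup.ker_mk', sup_eq_left]; exact hQU1
  obtain ⟨g', G', e'⟩ := gen_lift S hQS (pCore_quotient_bot G)
    (fun h => hU1.not_ge (h.trans hQU1)) hsub (hquot (U1.map q) (q g1) (map_mono hU1.le) (by
      rintro _ ⟨u, hu, rfl⟩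
      rw [← map_inv, ← map_mul, ← map_mul]
      exact ⟨_, hm1 u hu, rfl⟩))
  rw [hcU] at G' e'
  set d := g'⁻¹ * g1 with hd
  have hdq : ∀ u ∈ U1, q (d * u * d⁻¹) = q u := fun u hu => by
    have h1 := e' u hu
    simp only [map_mul, map_inv] at h1
    rw [show d * u * d⁻¹ = g'⁻¹ * (g1 * u * g1⁻¹) * g' by rw [hd]; group, map_mul, map_mul, map_mul, map_mul,
      map_inv, map_inv]
    calc (q g')⁻¹ * (q g1 * q u * (q g1)⁻¹) * q g' = (q g')⁻¹ * (q g' * q u * (q g')⁻¹) * q g' := by rw [h1]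
      _ = _ := by group
  have hdN : d ∈ normalizer (U1 : Set G) := mem_normalizer_of_maps fun u hu => by
    rw [← hcU, mem_comap, hdq u hu]
    exact ⟨u, hu, rfl⟩
  set N := normalizer (U1 : Set G)
  set C := centralizer (U1 : Set G)
  haveI : (C.subgroupOf N).Normal := ⟨fun x hx n => mem_subgroupOf.2 (mem_centralizer_iff.2 fun u hu => by
    have h1 := mem_centralizer_iff.1 (mem_subgroupOf.1 hx) _ ((mem_normalizer_iff''.1 n.2 u).1 hu)
    show u * ((n : G) * x * (n : G)⁻¹) = (n : G) * x * (n : G)⁻¹ * u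
    calc u * ((n : G) * x * (n : G)⁻¹) = n * ((n : G)⁻¹ * u * n * x) * (n : G)⁻¹ := by group
      _ = n * (x * ((n : G)⁻¹ * u * n)) * (n : G)⁻¹ := by rw [h1]
      _ = _ := by group)⟩
  let D : Subgroup N :=
    { carrier := {y | ∀ u ∈ U1, q ((y : G) * u * (y : G)⁻¹) = q u}
      one_mem' := fun u _ => by simp
      mul_mem' := fun {a b} ha hb u hu => by
        rw [Subgroup.coe_mul, show (a : G) * b * u * ((a : G) * b)⁻¹ = a * ((b : G) * u * (b : G)⁻¹) * (a : G)⁻¹ by group,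
          ha _ ((mem_normalizer_iff.1 b.2 u).1 hu), hb u hu]
      inv_mem' := fun {a} ha u hu => by
        have := ha _ ((mem_normalizer_iff.1 (inv_mem a.2) u).1 hu)
        rw [show (a : G) * ((a : G)⁻¹ * u * (a : G)⁻¹⁻¹) * (a : G)⁻¹ = u by group] at this
        rw [Subgroup.coe_inv, ← this] }
  haveI : D.Normal := ⟨fun y hy n u hu => by
    have h1 := hy _ ((mem_normalizer_iff.1 (inv_mem n.2) u).1 hu)
    simp only [map_mul, map_inv] at h1
    show q ((n : G) * y * (n : G)⁻¹ * u * ((n : G) * y * (n : G)⁻¹)⁻¹) = q u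
    simp only [map_mul, map_inv]
    calc q n * q y * (q n)⁻¹ * q u * (q n * q y * (q n)⁻¹)⁻¹
        = q n * (q y * ((q n)⁻¹ * q u * (q n)⁻¹⁻¹) * (q y)⁻¹) * (q n)⁻¹ := by group
      _ = q n * ((q n)⁻¹ * q u * (q n)⁻¹⁻¹) * (q n)⁻¹ := by rw [h1]
      _ = _ := by group⟩
  set π := QuotientGroup.mk' (C.subgroupOf N)
  have hπ : Function.Surjective π := QuotientGroup.mk'_surjective _
  haveI : (D.map π).Normal := Normal.map inferInstance π hπ
  have hD2 : IsPGroup 2 (D.map π) := by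
    rintro ⟨_, y, hy, rfl⟩
    obtain ⟨j, hj⟩ := exists_odd_pow (y : G)
    refine ⟨j, Subtype.ext ?_⟩
    rw [Subgroup.coe_pow, ← map_pow, Subgroup.coe_one]
    refine (QuotientGroup.eq_one_iff _).2 (mem_subgroupOf.2 (mem_centralizer_iff.2 fun u hu => ?_))
    have hyj : y ^ 2 ^ j ∈ D := pow_mem hy _
    rw [Subgroup.coe_pow]
    refine (commute_of_odd (N := Q) hQ2 hj (mem_of_odd (S.2 : IsPGroup 2 (S : Subgroup G)) hsup hj) ?_).eq.symm
    refine (QuotientGroup.eq_one_iff _).1 (show q _ = 1 from ?_)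
    rw [commutatorElement_def, map_mul, show q ((y : G) ^ 2 ^ j * u * ((y : G) ^ 2 ^ j)⁻¹) = q u from
      Subgroup.coe_pow N y (2 ^ j) ▸ hyj u hu, map_inv, mul_inv_cancel]
  obtain ⟨s, hs, hsd⟩ := (Cores.le_pCore hD2).trans (Cores.pCore_le_sylow (hfull.toSylow.mapSurjective hπ))
    (show π ⟨d, hdN⟩ ∈ D.map π from ⟨⟨d, hdN⟩, hdq, rfl⟩)
  have hs' : (s : G) ∈ (S : Subgroup G) := (mem_inf.1 (show (s : G) ∈ (S : Subgroup G) ⊓ N from hs)).1
  have hcd : d * (s : G)⁻¹ ∈ C := mem_subgroupOf.1 ((QuotientGroup.eq_one_iff ((⟨d, hdN⟩ : N) * s⁻¹)).1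
    (show π ((⟨d, hdN⟩ : N) * s⁻¹) = 1 by rw [map_mul, map_inv, hsd, mul_inv_cancel]))
  have G2 : Gen (S : Subgroup G) U1 s :=
    .base _ _ hU1.le (fun u hu => mul_mem (mul_mem hs' (hU1.le hu)) (inv_mem hs'))
      (Or.inr (normalizer_le_je _ (le_normalizer hs')))
  have G3 := G2.trans G' (le_of_eq (cj_eq_of_mem s.2))
  refine .congr _ _ g1 (fun u hu => ?_) G3
  have h1 := mem_centralizer_iff.1 hcd _ ((mem_normalizer_iff.1 s.2 u).1 hu)
  calc g' * (s : G) * u * (g' * (s : G))⁻¹ = g' * ((s : G) * u * (s : G)⁻¹) * g'⁻¹ := by group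
    _ = g' * ((d * (s : G)⁻¹) * ((s : G) * u * (s : G)⁻¹) * (d * (s : G)⁻¹)⁻¹) * g'⁻¹ := by
        rw [← h1]; group
    _ = g1 * u * g1⁻¹ := by rw [hd]; group

/-- Fusion in a Sylow 2-subgroup is generated. -/
theorem gen_all : ∀ (n : ℕ) {G : Type u} [Group G] [Finite G], Nat.card G = n →
    ¬ Cfsg.Involves (Equiv.Perm (Fin 4)) G → HSec G → ∀ S : Sylow 2 G, GenAll (S : Subgroup G) := by
  intro n
  induction n using Nat.strong_induction_on with
  | _ n IH => ?_
  intro G _ _ hn hfree hs S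
  haveI : Fact (Nat.Prime 2) := ⟨Nat.prime_two⟩
  set Q := Cfsg.pCore 2 G
  have hQS : Q ≤ (S : Subgroup G) := Cores.pCore_le_sylow S
  have hsub : GenProper G := fun H hH T hT U g hU hg hm =>
    gen_of_subgroup hT.1 (IH _ (hn ▸ lt_of_le_of_ne (card_le_card_group H) fun e =>
      hH (Subgroup.eq_top_of_card_eq H e)) rfl (free_subgroup hfree H) (hs.subgroup H) hT.toSylow) hU hg hm
  by_cases hB : (S : Subgroup G) ⊓ centralizer (Q : Set G) ≤ Q
  · exact gen_constrained hfree hs S hB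
  haveI : (centralizer (Q : Set G)).Normal := Subgroup.normal_centralizer
  by_cases hC : centralizer (Q : Set G) ⊔ (S : Subgroup G) ≠ ⊤
  · intro U g hU hm
    set X := Q ⊔ ((S : Subgroup G) ⊓ centralizer (Q : Set G)) with hX
    have hX2 : IsPGroup 2 X := S.2.to_le (sup_le hQS inf_le_left)
    have hXtop : normalizer (X : Set G) ≠ ⊤ := fun h => by
      haveI := Subgroup.normalizer_eq_top_iff.1 h
      exact hB ((le_sup_right : _ ≤ X).trans (Cores.le_pCore hX2))
    obtain ⟨c, hc, m, hmn, rfl⟩ := frattini_inf S (centralizer (Q : Set G)) g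
    have hmX : m ∈ normalizer (X : Set G) := by
      refine Subgroup.mem_normalizer_iff_map_conj_eq.2 ?_
      show X.map (MulAut.conj m).toMonoidHom = X
      rw [hX, Subgroup.map_sup, show Q.map (MulAut.conj m).toMonoidHom = Q from
        cj_eq_of_mem (by rw [normalizer_eq_top]; trivial),
        show ((S : Subgroup G) ⊓ centralizer (Q : Set G)).map (MulAut.conj m).toMonoidHom = _ from
          cj_eq_of_mem hmn]
    have hSX : (S : Subgroup G) ≤ normalizer (X : Set G) := by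
      intro s hs'
      refine Subgroup.mem_normalizer_iff_map_conj_eq.2 ?_
      show X.map (MulAut.conj s).toMonoidHom = X
      rw [hX, Subgroup.map_sup, show Q.map (MulAut.conj s).toMonoidHom = Q from
        cj_eq_of_mem (by rw [normalizer_eq_top]; trivial),
        Subgroup.map_inf _ _ _ (MulAut.conj s).injective,
        show (S : Subgroup G).map (MulAut.conj s).toMonoidHom = _ from cj_eq_of_mem (le_normalizer hs'),
        show (centralizer (Q : Set G)).map (MulAut.conj s).toMonoidHom = _ from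
          cj_eq_of_mem (by rw [normalizer_eq_top]; trivial)]
    obtain ⟨c1, hc1, m1, hm1, e1, hmaps⟩ := split S (K := centralizer (Q : Set G))
      (by rw [normalizer_eq_top]; exact le_top) hSX hc hmX hU hm
    have G1 := hsub _ hXtop _ ⟨hSX, S.2, fun W _ hW h => S.3 hW h⟩ U m1 hU hm1 hmaps
    have G2 := hsub _ hC _ ⟨le_sup_right, S.2, fun W _ hW h => S.3 hW h⟩ (Cj U m1) c1 G1.cj_le
      (mem_sup_left hc1) (by
        rintro _ ⟨u, hu, rfl⟩
        show c1 * (m1 * u * m1⁻¹) * c1⁻¹ ∈ (S : Subgroup G)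
        rw [show c1 * (m1 * u * m1⁻¹) * c1⁻¹ = c1 * m1 * u * (c1 * m1)⁻¹ by group, ← e1]
        exact hm u hu)
    exact e1 ▸ G1.trans G2 le_rfl
  push Not at hC
  by_cases hQ : Q = ⊥
  · exact gen_local hQ hsub S
  refine gen_central S hC hsub ?_
  have hlt : Nat.card (G ⧸ Q) < n := by
    rw [← hn, Subgroup.card_eq_card_quotient_mul_card_subgroup Q]
    exact lt_mul_of_one_lt_right Nat.card_pos
      (Finite.one_lt_card_iff_nontrivial.2 ((Subgroup.nontrivial_iff_ne_bot Q).2 hQ))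
  have hqs := QuotientGroup.mk'_surjective Q
  exact IH _ hlt rfl (fun hi => hfree (CfsgLib.Fsys.involves_of_surjective hqs hi)) (hs.of_surjective _ hqs)
    (S.mapSurjective hqs)

end CfsgLib.LocalEven.TwoFactor
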