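import Cfsg.Agent.Lib.LocalEven.SFreeOffender.Main
import Cfsg.Agent.Lib.LocalEven.TwoFactor.Known

/-!
An element separating an elementary abelian 2-group of automorphisms of a known simple group from its conjugate.
-/

set_option autoImplicit false
set_option linter.style.haveILetI false

namespace CfsgLib.LocalEven.TwoFactor

open Subgroup

universe u v

/-- For every elementary abelian group `B` of automorphisms (inverting no element of order three) there is an
element `g` of odd order such that no `2`-group normalised by `B` and `B^g` meets `B`. -/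
def GoodPair (X : Type v) [Group X] : Prop :=
  ∀ B : Subgroup (MulAut X), Cfsg.IsElementaryAbelian 2 B → (∀ b ∈ B, ∀ y : X, orderOf y = 3 → b y ≠ y⁻¹) →
    ∃ g : X, g ≠ 1 ∧ Odd (orderOf g) ∧ ∀ P : Subgroup (MulAut X), IsPGroup 2 P → B ≤ normalizer (P : Set (MulAut X)) →
      B.map (MulAut.conj (MulAut.conj g)).toMonoidHom ≤ normalizer (P : Set (MulAut X)) → B ⊓ P = ⊥

theorem GoodPair.of_mulEquiv {X : Type v} {Y : Type u} [Group X] [Group Y] (e : X ≃* Y) (h : GoodPair X) :
    GoodPair Y := by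
  intro B hB h3
  set f : MulAut Y ≃* MulAut X := MulAut.congr e.symm with hf
  obtain ⟨g, hg1, hgo, hP⟩ := h (B.map f.toMonoidHom)
    ⟨by
      haveI := hB.1
      exact ⟨⟨fun p q => Subtype.ext (by
        obtain ⟨p', hp, hp'⟩ := p.2
        obtain ⟨q', hq, hq'⟩ := q.2
        simp only [Subgroup.coe_mul, ← hp', ← hq', ← map_mul, setLike_mul_comm hp hq])⟩⟩,
     by rintro _ ⟨p, hp, rfl⟩; rw [← map_pow, hB.2 p hp, map_one]⟩
    (by
      rintro _ ⟨p, hp, rfl⟩ y hy heq
      refine h3 p hp (e y) (by rw [MulEquiv.orderOf_eq, hy]) ?_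
      have h' := congrArg e (show e.symm (p (e y)) = y⁻¹ from heq)
      simpa using h')
  refine ⟨e g, fun h' => hg1 (e.injective (h'.trans (map_one e).symm)), by rwa [MulEquiv.orderOf_eq],
    fun P hP2 h1 h2 => ?_⟩
  have hc : f (MulAut.conj (e g)) = MulAut.conj g := MulEquiv.ext fun x => by
    show e.symm (e g * e x * (e g)⁻¹) = g * x * g⁻¹
    rw [← map_inv, ← map_mul, ← map_mul, e.symm_apply_apply]
  have key := hP (P.map f.toMonoidHom) (hP2.map _)
    ((map_mono h1).trans (le_normalizer_map f.toMonoidHom)) (by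
      refine le_trans (le_of_eq ?_) ((map_mono h2).trans (le_normalizer_map f.toMonoidHom))
      rw [map_map, map_map]
      congr 1
      ext b : 1
      show MulAut.conj (MulAut.conj g) (f b) = f (MulAut.conj (MulAut.conj (e g)) b)
      simp only [MulAut.conj_apply, map_mul, map_inv, hc])
  rw [← Subgroup.map_inf _ _ _ f.injective, map_eq_bot_iff_of_injective _ f.injective] at key
  exact key

section Suzuki

open Cfsg.Lie CfsgLib.KnownB.SzElem CfsgLib.KnownB.Suzuki CfsgLib.LocalEven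

variable {F : Type} [Field F] [Fintype F] {m : ℕ}

theorem goodPair_suzuki (hm : 1 ≤ m) (hF : Fintype.card F = 2 ^ (2 * m + 1)) :
    GoodPair (Sz F (2 ^ (m + 1))) := by
  classical
  haveI : Fact (Nat.Prime 2) := ⟨Nat.prime_two⟩
  set he := twist_of_card (F := F) hF
  have hp := params_of_card hm hF
  have hc := exists_pow_ne he hm hF
  haveI := CfsgLib.KnownB.Suzuki.isSimpleGroup he (exists_unit_ne_one hm hF)
  have hinj : Function.Injective (MulAut.conj : Sz F (2 ^ (m + 1)) →* MulAut (Sz F (2 ^ (m + 1)))) := by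
    rw [← MonoidHom.ker_eq_bot_iff]
    refine ((inferInstance : MulAut.conj.ker.Normal).eq_bot_or_eq_top).resolve_right fun ht => ?_
    have hall : ∀ a b : Sz F (2 ^ (m + 1)), a * b = b * a := fun a b => by
      have h1 := DFunLike.congr_fun (MonoidHom.mem_ker.1 (ht ▸ mem_top a)) b
      exact mul_inv_eq_iff_eq_mul.1 h1
    have hcm := commutator_eq_top he (exists_unit_ne_one hm hF)
    have : commutator (Sz F (2 ^ (m + 1))) = ⊥ := by
      rw [eq_bot_iff, commutator_def, Subgroup.commutator_le]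
      intro a _ b _
      rw [mem_bot, commutatorElement_eq_one_iff_mul_comm]
      exact hall a b
    exact (IsSimpleGroup.toNontrivial.exists_pair_ne).elim fun a ⟨b, hab⟩ =>
      hab ((mem_bot.1 ((hcm.symm.trans this) ▸ mem_top a)).trans (mem_bot.1 ((hcm.symm.trans this) ▸ mem_top b)).symm)
  -- the `2`-elements of the automorphism group are inner
  have hinner : ∀ α : MulAut (Sz F (2 ^ (m + 1))), (∃ k, α ^ 2 ^ k = 1) → ∃ x, MulAut.conj x = α := by
    intro α ⟨k, hk⟩
    obtain ⟨x, σ, rfl⟩ := exists_conj_fieldHom he hc (exists_unit_ne_one hm hF) α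
    set N := (MulAut.conj : Sz F (2 ^ (m + 1)) →* MulAut (Sz F (2 ^ (m + 1)))).range
    haveI : N.Normal := ⟨fun b ⟨z, hz⟩ a => ⟨a z, by
      rw [← hz]; refine MulEquiv.ext fun w => ?_
      simp [MulAut.mul_apply]⟩⟩
    obtain ⟨φ⟩ := CfsgLib.KnownC.AutPSL.ringAut_cyclic (F := F) hF
    have hodd : σ ^ (2 * m + 1) = 1 := φ.injective (by
      rw [map_pow, map_one]
      have h3 := pow_card_eq_one' (G := Multiplicative (ZMod (2 * m + 1))) (x := φ σ)
      rwa [Nat.card_congr Multiplicative.toAdd, Nat.card_zmod] at h3)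
    have hmk : QuotientGroup.mk' N (MulAut.conj x) = 1 := (QuotientGroup.eq_one_iff _).2 ⟨x, rfl⟩
    have h1 : QuotientGroup.mk' N (fieldHom he σ) = 1 := by
      refine orderOf_eq_one_iff.1 (Nat.eq_one_of_dvd_coprimes (a := 2 ^ k) (b := 2 * m + 1)
        ((Nat.coprime_two_left.2 (odd_two_mul_add_one m)).pow_left k) (orderOf_dvd_of_pow_eq_one ?_)
        (orderOf_dvd_of_pow_eq_one ?_))
      · have := congrArg (QuotientGroup.mk' N) hk
        rwa [map_pow, map_mul, hmk, one_mul, map_one] at this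
      · rw [← map_pow, ← map_pow, hodd, map_one, map_one]
    obtain ⟨y, hy⟩ := (QuotientGroup.eq_one_iff _).1 h1
    exact ⟨x * y, by rw [map_mul, hy]⟩
  obtain ⟨r, hr, hrd⟩ := Nat.exists_prime_and_dvd (n := Fintype.card F ^ 2 + 1) (by
    have := hp.eight
    nlinarith)
  haveI : Fact r.Prime := ⟨hr⟩
  obtain ⟨y, hy⟩ := exists_prime_orderOf_dvd_card' (G := Sz F (2 ^ (m + 1))) r
    (by rw [card_Sz he]; exact hrd.mul_left _)
  have hr2 : r ≠ 2 := by
    rintro rfl
    have h1 : 2 ∣ Fintype.card F := hF ▸ dvd_pow_self 2 (by omega)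
    exact Nat.not_even_iff_odd.2 ((even_iff_two_dvd.2 (h1.trans (dvd_pow_self _ two_ne_zero))).add_one)
      (even_iff_two_dvd.2 hrd)
  intro B hB _
  haveI := hB.1
  refine ⟨y, fun h => hr.ne_one (by rw [← hy, h, orderOf_one]), hy ▸ hr.odd_of_ne_two hr2,
    fun P hP h1 h2 => ?_⟩
  rw [Subgroup.eq_bot_iff_forall]
  intro b hb
  obtain ⟨hbB, hbP⟩ := mem_inf.1 hb
  by_contra hb1
  obtain ⟨x, rfl⟩ := hinner b ⟨1, by rw [pow_one]; exact hB.2 b hbB⟩
  have hx2 : x ^ 2 = 1 := hinj (by rw [map_pow, map_one]; exact hB.2 _ hbB)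
  obtain ⟨g, hg⟩ := FixedFreeModels.involution_conj_z he hx2
  have hgU := FixedFreeModels.zGroup_le_uGroup he hg
  have hg1 : g * x * g⁻¹ ≠ 1 := fun h => hb1 (by rw [conj_eq_one_iff.1 h, map_one])
  have hB2 : IsPGroup 2 B := fun z => ⟨1, Subtype.ext (by simpa using hB.2 z z.2)⟩
  -- a `2`-group containing `x` goes into the Sylow subgroup of `g x g⁻¹`
  have hkey : ∀ (R : Subgroup (MulAut (Sz F (2 ^ (m + 1))))), IsPGroup 2 R → MulAut.conj x ∈ R →
      ∀ w, MulAut.conj w ∈ R → g * w * g⁻¹ ∈ uGroup he := by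
    intro R hR hxR w hw
    set W := (R.comap MulAut.conj).map (MulAut.conj g).toMonoidHom with hW
    have hW2 : IsPGroup 2 W := (hR.comap_of_injective _ hinj).map _
    have hxW : g * x * g⁻¹ ∈ W := ⟨x, hxR, rfl⟩
    haveI : Nontrivial W := ⟨⟨⟨_, hxW⟩, 1, fun h => hg1 (congrArg Subtype.val h)⟩⟩
    haveI : Nontrivial (Subgroup.center W) := hW2.center_nontrivial
    obtain ⟨⟨z, hz⟩, hz1⟩ := exists_ne (1 : Subgroup.center W)
    have hz1' : (z : Sz F (2 ^ (m + 1))) ≠ 1 := fun h => hz1 (Subtype.ext (Subtype.ext h))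
    have hzU : (z : Sz F (2 ^ (m + 1))) ∈ uGroup he :=
      centralizer_le_uGroup he hgU hg1 (mem_centralizer_singleton_iff.2
        (congrArg Subtype.val (mem_center_iff.1 hz ⟨_, hxW⟩)).symm)
    exact centralizer_le_uGroup he hzU hz1' (mem_centralizer_singleton_iff.2
      (congrArg Subtype.val (mem_center_iff.1 hz ⟨_, ⟨w, hw, rfl⟩⟩)))
  set B2 := B.map (MulAut.conj (MulAut.conj y)).toMonoidHom
  have hyx : g * (y * x * y⁻¹) * g⁻¹ ∈ uGroup he := by
    refine hkey (P ⊔ B2) (hP.to_sup_of_normal_left' (hB2.map _) h2) (mem_sup_left hbP) _ (mem_sup_right ?_)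
    exact ⟨MulAut.conj x, hbB, by
      show MulAut.conj y * MulAut.conj x * (MulAut.conj y)⁻¹ = _
      simp only [map_mul, map_inv]⟩
  have hN := uGroup_TI he (g * y * g⁻¹) (g * x * g⁻¹) hgU hg1 (by
    rw [show g * y * g⁻¹ * (g * x * g⁻¹) * (g * y * g⁻¹)⁻¹ = g * (y * x * y⁻¹) * g⁻¹ by group]
    exact hyx)
  rw [normalizer_uGroup] at hN
  have hdvd : r ∣ Nat.card (borel F (2 ^ (m + 1))) := by
    have e : orderOf (g * y * g⁻¹) = r := by
      rw [show g * y * g⁻¹ = MulAut.conj g y from rfl, MulEquiv.orderOf_eq, hy]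
    exact e ▸ Subgroup.orderOf_dvd_natCard _ hN
  rw [card_borel he] at hdvd
  rcases hr.dvd_mul.1 hdvd with h | h
  · exact hr.one_lt.ne' (Nat.dvd_one.1 ((Nat.dvd_add_right h).1 hrd))
  · exact hr.one_lt.ne' (eq_one_of_dvd_two (coprime_sub_one hp) hrd h)

end Suzuki

theorem goodPair_of_known {X : Type u} [Group X] [IsSimpleGroup X] (hnc : ¬ IsMulCommutative X)
    (h : Cfsg.IsSuzukiOrPSL2OddPowerThree X) : GoodPair X := by
  rcases h with ⟨F, _, _, m, hm, hF, ⟨e⟩⟩ | ⟨F, _, _, n, hF, ⟨e⟩⟩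
  · exact (goodPair_suzuki hm hF).of_mulEquiv e.symm
  · rcases Nat.eq_zero_or_pos n with rfl | hn
    · exfalso
      haveI := solvable_equiv e (psl_solvable_three F (by simpa using hF))
      exact hnc ⟨⟨IsSimpleGroup.comm_iff_isSolvable.2 inferInstance⟩⟩
    · exact GoodPair.of_mulEquiv e.symm fun B hB h3 => SFreeOffender.goodPair_psl2 hn hF B hB h3

end CfsgLib.LocalEven.TwoFactor
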