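import Cfsg.Prelude.Def_LocalEven
import Cfsg.Prelude.Def_Transfer
import Cfsg.Agent.Lib.Fusion.Thompson

/-!
Strong action, E-groups and the subgroup `Ĵ` inside an ambient group.
-/

set_option autoImplicit false
set_option linter.style.haveILetI false
set_option linter.unusedSectionVars false

namespace CfsgLib.LocalEven.TwoFactor

open Subgroup
open CfsgLib.Fusion (Thompson.isEA_map Thompson.isEA_le Thompson.card_sup_mul_card_inf)
open scoped commutatorElement

universe u v

variable {G : Type u} [Group G] {L : Type v} [Group L]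

/-- `R` induces a nontrivial elementary abelian 2-group on `V`. -/
def Acts (V R : Subgroup G) : Prop :=
  ⁅R, R⁆ ≤ centralizer (V : Set G) ∧ (∀ r ∈ R, r ^ 2 ∈ centralizer (V : Set G)) ∧ ¬ R ≤ centralizer (V : Set G)

/-- `|V : C_V(R)|² > |R : C_R(V)|³` for all `R ≤ P` inducing a nontrivial elementary abelian group on `V`. -/
def Strong (P V : Subgroup G) : Prop :=
  ∀ R ≤ P, Acts V R → Nat.card R ^ 3 * Nat.card ↥(V ⊓ centralizer (R : Set G)) ^ 2 <
    Nat.card V ^ 2 * Nat.card ↥(R ⊓ centralizer (V : Set G)) ^ 3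

/-- The property of the definition of an E-group. -/
def EProp (P V : Subgroup G) : Prop :=
  Strong P V ∧ ∀ R ≤ P, Acts V R →
    Nat.card R < Nat.card ↥⁅V, R⁆ * Nat.card ↥(R ⊓ centralizer (V : Set G))

/-- An E-group inside an ambient group. -/
def EGrp (U : Subgroup G) : Prop :=
  ∀ V ≤ U, U ≤ normalizer (V : Set G) → Cfsg.IsElementaryAbelian 2 V → EProp U V → U ≤ centralizer (V : Set G)

/-- An elementary abelian 2-subgroup of `S` of largest order. -/
def MaxEA (S E : Subgroup G) : Prop :=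
  E ≤ S ∧ Cfsg.IsElementaryAbelian 2 E ∧ ∀ B ≤ S, Cfsg.IsElementaryAbelian 2 B → Nat.card B ≤ Nat.card E

/-- The subgroup generated by the elementary abelian subgroups of largest order. -/
def JE (S : Subgroup G) : Subgroup G := sSup {E | MaxEA S E}

/-- The subgroup generated by the E-groups containing `JE S`. -/
def JHat (S : Subgroup G) : Subgroup G := sSup {U | U ≤ S ∧ EGrp U ∧ JE S ≤ U}

/-- `Ω₁` of the centre of `Ĵ`. -/
def BHat (S : Subgroup G) : Subgroup G :=
  Cfsg.omegaOne 2 (JHat S ⊓ centralizer (JHat S : Set G))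

theorem Strong.mono {P P' V : Subgroup G} (h : Strong P V) (hle : P' ≤ P) : Strong P' V :=
  fun R hR => h R (hR.trans hle)

theorem EProp.mono {P P' V : Subgroup G} (h : EProp P V) (hle : P' ≤ P) : EProp P' V :=
  ⟨h.1.mono hle, fun R hR => h.2 R (hR.trans hle)⟩

section Map

variable {f : G →* L} (hf : Function.Injective f)
include hf

theorem centralizer_inf_map (A B : Subgroup G) :
    A.map f ⊓ centralizer (B.map f : Set L) = (A ⊓ centralizer (B : Set G)).map f := by
  ext x
  constructor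
  · rintro ⟨⟨a, ha, rfl⟩, hx⟩
    refine ⟨a, mem_inf.2 ⟨ha, mem_centralizer_iff.2 fun b hb => hf ?_⟩, rfl⟩
    rw [map_mul, map_mul]
    exact mem_centralizer_iff.1 hx (f b) ⟨b, hb, rfl⟩
  · rintro ⟨a, ⟨ha, hc⟩, rfl⟩
    refine mem_inf.2 ⟨⟨a, ha, rfl⟩, mem_centralizer_iff.2 ?_⟩
    rintro _ ⟨b, hb, rfl⟩
    rw [← map_mul, ← map_mul, mem_centralizer_iff.1 hc b hb]

theorem map_le_centralizer_iff (A B : Subgroup G) :
    A.map f ≤ centralizer (B.map f : Set L) ↔ A ≤ centralizer (B : Set G) := by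
  constructor
  · intro h a ha
    refine mem_centralizer_iff.2 fun b hb => hf ?_
    rw [map_mul, map_mul]
    exact mem_centralizer_iff.1 (h ⟨a, ha, rfl⟩) (f b) ⟨b, hb, rfl⟩
  · rintro h _ ⟨a, ha, rfl⟩
    refine mem_centralizer_iff.2 ?_
    rintro _ ⟨b, hb, rfl⟩
    rw [← map_mul, ← map_mul, mem_centralizer_iff.1 (h ha) b hb]

theorem map_le_normalizer_iff (A B : Subgroup G) :
    A.map f ≤ normalizer (B.map f : Set L) ↔ A ≤ normalizer (B : Set G) := by
  constructor
  · intro h a ha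
    refine mem_normalizer_iff.2 fun b => ?_
    have h' := mem_normalizer_iff.1 (h ⟨a, ha, rfl⟩) (f b)
    rwa [← map_inv, ← map_mul, ← map_mul, mem_map_iff_mem hf, mem_map_iff_mem hf] at h'
  · exact fun h => (map_mono h).trans (le_normalizer_map f)

theorem elementary_map_iff (A : Subgroup G) :
    Cfsg.IsElementaryAbelian 2 (A.map f) ↔ Cfsg.IsElementaryAbelian 2 A := by
  refine ⟨fun h => ⟨⟨⟨fun a b => Subtype.ext (hf ?_)⟩⟩, fun a ha => hf ?_⟩, fun h => Thompson.isEA_map f h⟩
  · haveI := h.1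
    simp only [Subgroup.coe_mul, map_mul]
    exact setLike_mul_comm (s := A.map f) ⟨a.1, a.2, rfl⟩ ⟨b.1, b.2, rfl⟩
  · rw [map_pow, map_one]; exact h.2 _ ⟨a, ha, rfl⟩

theorem acts_map_iff (V R : Subgroup G) : Acts (V.map f) (R.map f) ↔ Acts V R := by
  have key : ∀ x : G, f x ∈ centralizer (V.map f : Set L) ↔ x ∈ centralizer (V : Set G) := fun x => by
    have := map_le_centralizer_iff hf (zpowers x) V
    rw [MonoidHom.map_zpowers, zpowers_le, zpowers_le] at this
    exact this
  unfold Acts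
  rw [← map_commutator, map_le_centralizer_iff hf, map_le_centralizer_iff hf]
  refine and_congr Iff.rfl (and_congr ⟨fun h r hr => ?_, ?_⟩ Iff.rfl)
  · have := h (f r) ⟨r, hr, rfl⟩
    rw [← map_pow] at this
    exact (key _).1 this
  · rintro h _ ⟨r, hr, rfl⟩
    rw [← map_pow]
    exact (key _).2 (h r hr)

theorem exists_eq_map {A : Subgroup G} {R : Subgroup L} (h : R ≤ A.map f) : ∃ R' ≤ A, R = R'.map f := by
  refine ⟨R.comap f, fun x hx => ?_, (map_comap_eq_self (h.trans (map_le_range _ _))).symm⟩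
  obtain ⟨a, ha, hax⟩ := h hx
  rwa [← hf hax]

theorem strong_map_iff (P V : Subgroup G) : Strong (P.map f) (V.map f) ↔ Strong P V := by
  constructor
  · intro h R hR hA
    have := h (R.map f) (map_mono hR) ((acts_map_iff hf V R).2 hA)
    simpa only [centralizer_inf_map hf, card_map_of_injective hf] using this
  · intro h R' hR' hA
    obtain ⟨R, hR, rfl⟩ := exists_eq_map hf hR'
    simpa only [centralizer_inf_map hf, card_map_of_injective hf] using h R hR ((acts_map_iff hf V R).1 hA)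

theorem eprop_map_iff (P V : Subgroup G) : EProp (P.map f) (V.map f) ↔ EProp P V := by
  refine and_congr (strong_map_iff hf P V) ⟨fun h R hR hA => ?_, fun h R' hR' hA => ?_⟩
  · have := h (R.map f) (map_mono hR) ((acts_map_iff hf V R).2 hA)
    simpa only [← map_commutator, centralizer_inf_map hf, card_map_of_injective hf] using this
  · obtain ⟨R, hR, rfl⟩ := exists_eq_map hf hR'
    simpa only [← map_commutator, centralizer_inf_map hf, card_map_of_injective hf] using
      h R hR ((acts_map_iff hf V R).1 hA)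

theorem egrp_map_iff (U : Subgroup G) : EGrp (U.map f) ↔ EGrp U := by
  constructor
  · intro h V hV hn he hp
    exact (map_le_centralizer_iff hf U V).1 (h _ (map_mono hV) ((map_le_normalizer_iff hf U V).2 hn)
      ((elementary_map_iff hf V).2 he) ((eprop_map_iff hf U V).2 hp))
  · intro h V' hV' hn he hp
    obtain ⟨V, hV, rfl⟩ := exists_eq_map hf hV'
    exact (map_le_centralizer_iff hf U V).2 (h V hV ((map_le_normalizer_iff hf U V).1 hn)
      ((elementary_map_iff hf V).1 he) ((eprop_map_iff hf U V).1 hp))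

theorem maxEA_map_iff (S E : Subgroup G) : MaxEA (S.map f) (E.map f) ↔ MaxEA S E := by
  refine and_congr (map_le_map_iff_of_injective hf) (and_congr (elementary_map_iff hf E) ⟨fun h B hB he => ?_,
    fun h B' hB' he => ?_⟩)
  · simpa only [card_map_of_injective hf] using h (B.map f) (map_mono hB) ((elementary_map_iff hf B).2 he)
  · obtain ⟨B, hB, rfl⟩ := exists_eq_map hf hB'
    simpa only [card_map_of_injective hf] using h B hB ((elementary_map_iff hf B).1 he)

theorem je_map (S : Subgroup G) : JE (S.map f) = (JE S).map f := by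
  refine le_antisymm (sSup_le fun E' hE' => ?_) (map_le_iff_le_comap.2 (sSup_le fun E hE => ?_))
  · obtain ⟨E, -, rfl⟩ := exists_eq_map hf hE'.1
    exact map_mono (le_sSup ((maxEA_map_iff hf S E).1 hE'))
  · exact map_le_iff_le_comap.1 (le_sSup (a := E.map f) ((maxEA_map_iff hf S E).2 hE))

theorem jhat_map (S : Subgroup G) : JHat (S.map f) = (JHat S).map f := by
  refine le_antisymm (sSup_le ?_) (map_le_iff_le_comap.2 (sSup_le ?_))
  · rintro U' ⟨h1, h2, h3⟩
    obtain ⟨U, hU, rfl⟩ := exists_eq_map hf h1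
    rw [je_map hf, map_le_map_iff_of_injective hf] at h3
    exact map_mono (le_sSup ⟨hU, (egrp_map_iff hf U).1 h2, h3⟩)
  · rintro U ⟨h1, h2, h3⟩
    refine map_le_iff_le_comap.1 (le_sSup ⟨map_mono h1, (egrp_map_iff hf U).2 h2, ?_⟩)
    rw [je_map hf]; exact map_mono h3

theorem omegaOne_map (H : Subgroup G) : Cfsg.omegaOne 2 (H.map f) = (Cfsg.omegaOne 2 H).map f := by
  rw [Cfsg.omegaOne, Cfsg.omegaOne, MonoidHom.map_closure]
  congr 1
  ext x
  constructor
  · rintro ⟨⟨y, hy, rfl⟩, hx⟩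
    exact ⟨y, ⟨hy, hf (by rw [map_pow, hx, map_one])⟩, rfl⟩
  · rintro ⟨y, ⟨hy, hy2⟩, rfl⟩
    exact ⟨⟨y, hy, rfl⟩, by rw [← map_pow, hy2, map_one]⟩

theorem bhat_map (S : Subgroup G) : BHat (S.map f) = (BHat S).map f := by
  rw [BHat, BHat, jhat_map hf, centralizer_inf_map hf, omegaOne_map hf]

end Map

theorem egrp_top_iff : EGrp (⊤ : Subgroup G) ↔ Cfsg.IsEGroup G := by
  constructor
  · intro h V hn he hp v hv
    haveI := hn
    refine mem_center_iff.2 fun g => ?_
    refine (mem_centralizer_iff.1 (h V le_top (by rw [normalizer_eq_top]) he ⟨fun R _ hA =>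
      (hp R hA.1 hA.2.1 hA.2.2).1, fun R _ hA => (hp R hA.1 hA.2.1 hA.2.2).2⟩ (mem_top g)) v hv).symm
  · intro h V _ hn he hp x _
    refine mem_centralizer_iff.2 fun v hv => ?_
    exact (mem_center_iff.1 (h V (normalizer_eq_top_iff.1 (top_le_iff.1 hn)) he
      (fun R h1 h2 h3 => ⟨hp.1 R le_top ⟨h1, h2, h3⟩, hp.2 R le_top ⟨h1, h2, h3⟩⟩) hv) x).symm

theorem egrp_iff (U : Subgroup G) : EGrp U ↔ Cfsg.IsEGroup U := by
  rw [← egrp_top_iff, ← egrp_map_iff U.subtype_injective, ← MonoidHom.range_eq_map, range_subtype]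

theorem thompsonSubgroupOf_eq_je (S : Subgroup G) : Cfsg.thompsonSubgroupOf 2 S = JE S := by
  have h : Cfsg.thompsonSubgroup 2 S = JE (⊤ : Subgroup S) := by
    unfold Cfsg.thompsonSubgroup JE
    congr 1
    ext A
    exact ⟨fun h => ⟨le_top, h.1, fun B _ hB => h.2 B hB⟩, fun h => ⟨h.2.1, fun B hB => h.2.2 B le_top hB⟩⟩
  rw [Cfsg.thompsonSubgroupOf, h, ← je_map S.subtype_injective, ← MonoidHom.range_eq_map, range_subtype]

theorem jHat_map_eq (S : Subgroup G) : (Cfsg.jHat S).map S.subtype = JHat S := by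
  have h : Cfsg.jHat S = JHat (⊤ : Subgroup S) := by
    have h' : Cfsg.thompsonSubgroup 2 S = JE (⊤ : Subgroup S) := by
      apply Subgroup.map_injective S.subtype_injective
      rw [← je_map S.subtype_injective, ← MonoidHom.range_eq_map, range_subtype]
      exact thompsonSubgroupOf_eq_je S
    unfold Cfsg.jHat JHat
    rw [← h']
    congr 1
    ext U
    exact ⟨fun h => ⟨le_top, (egrp_iff U).2 h.1, h.2⟩, fun h => ⟨(egrp_iff U).1 h.2.1, h.2.2⟩⟩
  rw [h, ← jhat_map S.subtype_injective, ← MonoidHom.range_eq_map, range_subtype]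

theorem normalizer_le_je (S : Subgroup G) : normalizer (S : Set G) ≤ normalizer (JE S : Set G) := by
  intro n hn
  rw [Subgroup.mem_normalizer_iff_map_conj_eq] at hn ⊢
  have hn' : S.map (MulAut.conj n).toMonoidHom = S := hn
  have h := je_map (f := (MulAut.conj n).toMonoidHom) (MulAut.conj n).injective S
  rw [hn'] at h
  exact h.symm

theorem normalizer_le_jhat (S : Subgroup G) : normalizer (S : Set G) ≤ normalizer (JHat S : Set G) := by
  intro n hn
  rw [Subgroup.mem_normalizer_iff_map_conj_eq] at hn ⊢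
  have hn' : S.map (MulAut.conj n).toMonoidHom = S := hn
  have h := jhat_map (f := (MulAut.conj n).toMonoidHom) (MulAut.conj n).injective S
  rw [hn'] at h
  exact h.symm

theorem normalizer_jhat_le_bhat (S : Subgroup G) :
    normalizer (JHat S : Set G) ≤ normalizer (BHat S : Set G) := by
  intro n hn
  rw [Subgroup.mem_normalizer_iff_map_conj_eq] at hn ⊢
  have hn' : (JHat S).map (MulAut.conj n).toMonoidHom = JHat S := hn
  show (BHat S).map (MulAut.conj n).toMonoidHom = BHat S
  rw [BHat, ← omegaOne_map (f := (MulAut.conj n).toMonoidHom) (MulAut.conj n).injective,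
    ← centralizer_inf_map (f := (MulAut.conj n).toMonoidHom) (MulAut.conj n).injective, hn']

/-! ### Inequalities -/

/-- Two subgroups of an abelian group. -/
theorem card_mul_le [Finite G] {A B X : Subgroup G} (hX : IsMulCommutative X) (hA : A ≤ X) (hB : B ≤ X) :
    Nat.card A * Nat.card B ≤ Nat.card X * Nat.card ↥(A ⊓ B) := by
  haveI := hX
  rw [← Thompson.card_sup_mul_card_inf (N := A) (K := B) (fun b hb => centralizer_le_normalizer _
    (mem_centralizer_iff.2 fun a ha => setLike_mul_comm (hA ha) (hB hb)))]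
  exact Nat.mul_le_mul_right _ (Subgroup.card_le_of_le (sup_le hA hB))

/-- Joins of commuting elementary abelian groups. -/
theorem elementary_sup {A B : Subgroup G} (hA : Cfsg.IsElementaryAbelian 2 A) (hB : Cfsg.IsElementaryAbelian 2 B)
    (hc : A ≤ centralizer (B : Set G)) : Cfsg.IsElementaryAbelian 2 (A ⊔ B) := by
  haveI := hA.1
  haveI := hB.1
  have hcomm : IsMulCommutative (A ⊔ B : Subgroup G) := by
    rw [← Subgroup.commutator_self_eq_bot_iff, Subgroup.commutator_eq_bot_iff_le_centralizer]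
    refine sup_le (le_centralizer_iff.1 (sup_le ?_ (le_centralizer_iff.1 hc))) (le_centralizer_iff.1 (sup_le hc ?_))
    · exact fun a ha => mem_centralizer_iff.2 fun b hb => setLike_mul_comm hb ha
    · exact fun a ha => mem_centralizer_iff.2 fun b hb => setLike_mul_comm hb ha
  refine ⟨hcomm, fun x hx => ?_⟩
  haveI := hcomm
  let K : Subgroup G :=
    { carrier := {y | y ∈ A ⊔ B ∧ y ^ 2 = 1}
      one_mem' := ⟨one_mem _, one_pow 2⟩
      mul_mem' := fun {a b} ha hb => ⟨mul_mem ha.1 hb.1, by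
        rw [(show Commute a b from setLike_mul_comm ha.1 hb.1).mul_pow, ha.2, hb.2, one_mul]⟩
      inv_mem' := fun {a} ha => ⟨inv_mem ha.1, by rw [inv_pow, ha.2, inv_one]⟩ }
  exact ((sup_le (fun a ha => ⟨mem_sup_left ha, hA.2 a ha⟩) fun b hb => ⟨mem_sup_right hb, hB.2 b hb⟩) :
    A ⊔ B ≤ K) hx |>.2

theorem acts_of_elementary {V R : Subgroup G} (hR : Cfsg.IsElementaryAbelian 2 R)
    (h : ¬ R ≤ centralizer (V : Set G)) : Acts V R :=
  ⟨by rw [Subgroup.commutator_self_eq_bot_iff.2 hR.1]; exact bot_le,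
    fun r hr => by rw [hR.2 r hr]; exact one_mem _, h⟩

variable [Finite G]

/-- Mutually normalising strong subgroups commute. -/
theorem strong_commute {P V W : Subgroup G} (hV : Strong P V) (hW : Strong P W) (hVe : Cfsg.IsElementaryAbelian 2 V)
    (hWe : Cfsg.IsElementaryAbelian 2 W) (hVP : V ≤ P) (hWP : W ≤ P) : W ≤ centralizer (V : Set G) := by
  by_contra h
  have h' : ¬ V ≤ centralizer (W : Set G) := fun hh => h (le_centralizer_iff.1 hh)
  have h1 := hV W hWP (acts_of_elementary hWe h)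
  have h2 := hW V hVP (acts_of_elementary hVe h')
  set v := Nat.card V
  set w := Nat.card W
  set v0 := Nat.card ↥(V ⊓ centralizer (W : Set G))
  set w0 := Nat.card ↥(W ⊓ centralizer (V : Set G))
  have hv : v0 ≤ v := Subgroup.card_le_of_le inf_le_left
  have hw : w0 ≤ w := Subgroup.card_le_of_le inf_le_left
  have h3 := Nat.mul_lt_mul_of_lt_of_lt h1 h2
  have h4 : v ^ 2 * w0 ^ 3 * (w ^ 2 * v0 ^ 3) ≤ w ^ 3 * v0 ^ 2 * (v ^ 3 * w0 ^ 2) := by
    calc v ^ 2 * w0 ^ 3 * (w ^ 2 * v0 ^ 3) = v ^ 2 * w0 ^ 2 * w ^ 2 * v0 ^ 2 * (v0 * w0) := by ring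
      _ ≤ v ^ 2 * w0 ^ 2 * w ^ 2 * v0 ^ 2 * (v * w) := Nat.mul_le_mul_left _ (Nat.mul_le_mul hv hw)
      _ = _ := by ring
  omega

/-- The join of commuting strong subgroups is strong. -/
theorem Strong.sup {P V W : Subgroup G} (hV : Strong P V) (hW : Strong P W) (hVe : Cfsg.IsElementaryAbelian 2 V)
    (hWe : Cfsg.IsElementaryAbelian 2 W) (hc : V ≤ centralizer (W : Set G)) : Strong P (V ⊔ W) := by
  intro R hR hA
  set X := V ⊔ W
  have hXc := (elementary_sup hVe hWe hc).1
  set CX := centralizer (X : Set G)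
  have hCXV : CX ≤ centralizer (V : Set G) := centralizer_le (by exact_mod_cast (le_sup_left : V ≤ X))
  have hCXW : CX ≤ centralizer (W : Set G) := centralizer_le (by exact_mod_cast (le_sup_right : W ≤ X))
  have hCinf : centralizer (V : Set G) ⊓ centralizer (W : Set G) ≤ CX := by
    rw [show CX = centralizer (X : Set G) from rfl, le_centralizer_iff]
    exact sup_le (le_centralizer_iff.1 inf_le_left) (le_centralizer_iff.1 inf_le_right)
  set R1 := R ⊓ centralizer (V : Set G) with hR1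
  have hR1X : R1 ⊓ centralizer (W : Set G) = R ⊓ CX := by
    refine le_antisymm (le_inf (inf_le_left.trans inf_le_left) ((inf_le_inf_right _ inf_le_right).trans hCinf))
      (le_inf (inf_le_inf_left _ hCXV) (inf_le_right.trans hCXW))
  set x := Nat.card ↥(X ⊓ centralizer (R : Set G))
  set x1 := Nat.card ↥(X ⊓ centralizer (R1 : Set G))
  set v := Nat.card ↥(V ⊓ centralizer (R : Set G))
  set w := Nat.card ↥(W ⊓ centralizer (R1 : Set G))
  have hpos : ∀ H : Subgroup G, 0 < Nat.card H := fun H => Nat.card_pos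
  have e1 : Nat.card V * x ≤ x1 * v := by
    have h : Nat.card V * x ≤ x1 * Nat.card ↥(V ⊓ (X ⊓ centralizer (R : Set G))) := by
      refine card_mul_le (X := X ⊓ centralizer (R1 : Set G)) ?_ (le_inf le_sup_left (le_centralizer_iff.1 inf_le_right))
        (inf_le_inf_left _ (centralizer_le (by exact_mod_cast (inf_le_left : R1 ≤ R))))
      exact (Thompson.isEA_le (elementary_sup hVe hWe hc) inf_le_left).1
    exact h.trans (Nat.mul_le_mul_left _ (Subgroup.card_le_of_le (le_inf inf_le_left (inf_le_right.trans inf_le_right))))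
  have e2 : Nat.card W * x1 ≤ Nat.card X * w := by
    exact (card_mul_le hXc le_sup_right inf_le_left).trans (Nat.mul_le_mul_left _
      (Subgroup.card_le_of_le (le_inf inf_le_left (inf_le_right.trans inf_le_right))))
  have hv : v ≤ Nat.card V := Subgroup.card_le_of_le inf_le_left
  have hw : w ≤ Nat.card W := Subgroup.card_le_of_le inf_le_left
  have e12 : x * (Nat.card V * Nat.card W) ≤ Nat.card X * (v * w) := by
    calc x * (Nat.card V * Nat.card W) = (Nat.card V * x) * Nat.card W := by ring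
      _ ≤ (x1 * v) * Nat.card W := Nat.mul_le_mul_right _ e1
      _ = (Nat.card W * x1) * v := by ring
      _ ≤ (Nat.card X * w) * v := Nat.mul_le_mul_right _ e2
      _ = _ := by ring
  have hV' : Nat.card R ^ 3 * v ^ 2 ≤ Nat.card V ^ 2 * Nat.card R1 ^ 3 ∧
      (¬ R ≤ centralizer (V : Set G) → Nat.card R ^ 3 * v ^ 2 < Nat.card V ^ 2 * Nat.card R1 ^ 3) := by
    have hlt : ¬ R ≤ centralizer (V : Set G) → Nat.card R ^ 3 * v ^ 2 < Nat.card V ^ 2 * Nat.card R1 ^ 3 := fun h =>
      hV R hR ⟨hA.1.trans hCXV, fun r hr => hCXV (hA.2.1 r hr), h⟩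
    refine ⟨?_, hlt⟩
    by_cases h : R ≤ centralizer (V : Set G)
    · rw [hR1, inf_eq_left.2 h, mul_comm]
      exact Nat.mul_le_mul_right _ (Nat.pow_le_pow_left hv 2)
    · exact (hlt h).le
  have hW' : Nat.card R1 ^ 3 * w ^ 2 ≤ Nat.card W ^ 2 * Nat.card ↥(R ⊓ CX) ^ 3 ∧
      (¬ R1 ≤ centralizer (W : Set G) → Nat.card R1 ^ 3 * w ^ 2 < Nat.card W ^ 2 * Nat.card ↥(R ⊓ CX) ^ 3) := by
    have hlt : ¬ R1 ≤ centralizer (W : Set G) →
        Nat.card R1 ^ 3 * w ^ 2 < Nat.card W ^ 2 * Nat.card ↥(R ⊓ CX) ^ 3 := fun h => by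
      rw [← hR1X]
      exact hW R1 (inf_le_left.trans hR) ⟨((commutator_mono inf_le_left inf_le_left).trans hA.1).trans hCXW,
        fun r hr => hCXW (hA.2.1 r hr.1), h⟩
    refine ⟨?_, hlt⟩
    by_cases h : R1 ≤ centralizer (W : Set G)
    · rw [← hR1X, inf_eq_left.2 h, mul_comm]
      exact Nat.mul_le_mul_right _ (Nat.pow_le_pow_left hw 2)
    · exact (hlt h).le
  have key : Nat.card R ^ 3 * (v * w) ^ 2 < (Nat.card V * Nat.card W) ^ 2 * Nat.card ↥(R ⊓ CX) ^ 3 := by
    have hor : ¬ R ≤ centralizer (V : Set G) ∨ ¬ R1 ≤ centralizer (W : Set G) := by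
      by_contra hcon
      push Not at hcon
      refine hA.2.2 fun r hr => hCinf (mem_inf.2 ⟨hcon.1 hr, hcon.2 ?_⟩)
      exact mem_inf.2 ⟨hr, hcon.1 hr⟩
    refine Nat.lt_of_mul_lt_mul_right (a := Nat.card R1 ^ 3) ?_
    calc Nat.card R ^ 3 * (v * w) ^ 2 * Nat.card R1 ^ 3
        = (Nat.card R ^ 3 * v ^ 2) * (Nat.card R1 ^ 3 * w ^ 2) := by ring
      _ < (Nat.card V ^ 2 * Nat.card R1 ^ 3) * (Nat.card W ^ 2 * Nat.card ↥(R ⊓ CX) ^ 3) := by
        rcases hor with h | h
        · exact Nat.mul_lt_mul_of_lt_of_le (hV'.2 h) hW'.1 (Nat.mul_pos (pow_pos (hpos W) 2) (pow_pos (hpos _) 3))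
        · exact Nat.mul_lt_mul_of_le_of_lt hV'.1 (hW'.2 h) (Nat.mul_pos (pow_pos (hpos V) 2) (pow_pos (hpos _) 3))
      _ = _ := by ring
  refine Nat.lt_of_mul_lt_mul_right (a := (Nat.card V * Nat.card W) ^ 2) ?_
  calc Nat.card R ^ 3 * x ^ 2 * (Nat.card V * Nat.card W) ^ 2
      = Nat.card R ^ 3 * (x * (Nat.card V * Nat.card W)) ^ 2 := by ring
    _ ≤ Nat.card R ^ 3 * (Nat.card X * (v * w)) ^ 2 := Nat.mul_le_mul_left _ (Nat.pow_le_pow_left e12 2)
    _ = Nat.card X ^ 2 * (Nat.card R ^ 3 * (v * w) ^ 2) := by ring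
    _ < Nat.card X ^ 2 * ((Nat.card V * Nat.card W) ^ 2 * Nat.card ↥(R ⊓ CX) ^ 3) :=
      Nat.mul_lt_mul_of_pos_left key (pow_pos (hpos X) 2)
    _ = _ := by ring

/-- The join of a set of pairwise commuting strong subgroups is strong. -/
theorem strong_sSup {P : Subgroup G} (s : Set (Subgroup G))
    (h : ∀ V ∈ s, Cfsg.IsElementaryAbelian 2 V ∧ Strong P V)
    (hc : ∀ V ∈ s, ∀ W ∈ s, V ≤ centralizer (W : Set G)) :
    Cfsg.IsElementaryAbelian 2 (sSup s) ∧ Strong P (sSup s) := by
  classical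
  suffices key : ∀ t : Finset (Subgroup G), ↑t ⊆ s →
      Cfsg.IsElementaryAbelian 2 (t.sup id) ∧ Strong P (t.sup id) by
    haveI : Fintype (Subgroup G) := Fintype.ofFinite _
    have := key s.toFinset (by simp)
    rwa [Finset.sup_id_eq_sSup, Set.coe_toFinset] at this
  intro t
  induction t using Finset.induction_on with
  | empty =>
    intro _
    refine ⟨CfsgLib.Fusion.Thompson.isEA_bot, fun R _ hA => absurd (fun r _ => mem_centralizer_iff.2 ?_) hA.2.2⟩
    intro y hy
    rw [Finset.sup_empty] at hy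
    rw [mem_bot.1 hy, one_mul, mul_one]
  | @insert V t _ ih =>
    intro hts
    rw [Finset.coe_insert, Set.insert_subset_iff] at hts
    obtain ⟨h1, h2⟩ := ih hts.2
    have hVc : V ≤ centralizer (((t.sup id : Subgroup G)) : Set G) := by
      rw [le_centralizer_iff]
      exact Finset.sup_le fun W hW => hc W (hts.2 hW) V hts.1
    rw [Finset.sup_insert, id_eq]
    exact ⟨elementary_sup (h V hts.1).1 h1 hVc, (h V hts.1).2.sup h2 (h V hts.1).1 h1 hVc⟩

/-- A largest elementary abelian group contains the subgroups strong with respect to it. -/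
theorem maxEA_le {S E V : Subgroup G} (hE : MaxEA S E) (hV : Cfsg.IsElementaryAbelian 2 V) (hVS : V ≤ S)
    (hs : Strong E V) : V ≤ E ∧ E ≤ centralizer (V : Set G) := by
  set E0 := E ⊓ centralizer (V : Set G)
  have hX := elementary_sup hV (Thompson.isEA_le hE.2.1 inf_le_left : Cfsg.IsElementaryAbelian 2 E0)
    (le_centralizer_iff.1 inf_le_right)
  have hcard := Thompson.card_sup_mul_card_inf (N := V) (K := E0)
    (inf_le_right.trans (centralizer_le_normalizer _))
  have hmax := hE.2.2 (V ⊔ E0) (sup_le hVS (inf_le_left.trans hE.1)) hX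
  have hEV : E ≤ centralizer (V : Set G) := by
    by_contra h
    have hlt := hs E le_rfl (acts_of_elementary hE.2.1 h)
    have hle : Nat.card ↥(V ⊓ E0) ≤ Nat.card ↥(V ⊓ centralizer (E : Set G)) := Subgroup.card_le_of_le
      (le_inf inf_le_left fun x hx => mem_centralizer_iff.2 fun y hy => by
        haveI := hE.2.1.1
        exact setLike_mul_comm hy hx.2.1)
    set v := Nat.card V
    set e := Nat.card E
    set e0 := Nat.card E0
    set c := Nat.card ↥(V ⊓ centralizer (E : Set G))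
    have h1 : v * e0 ≤ e * c := hcard ▸ Nat.mul_le_mul hmax hle
    have he : e0 ≤ e := Subgroup.card_le_of_le inf_le_left
    have h2 : v ^ 2 * e0 ^ 3 ≤ e ^ 3 * c ^ 2 := by
      calc v ^ 2 * e0 ^ 3 = (v * e0) ^ 2 * e0 := by ring
        _ ≤ (e * c) ^ 2 * e := Nat.mul_le_mul (Nat.pow_le_pow_left h1 2) he
        _ = _ := by ring
    omega
  refine ⟨?_, hEV⟩
  have he : E0 = E := inf_eq_left.2 hEV
  rw [he] at hmax
  rw [← sup_eq_right]
  exact (Subgroup.eq_of_le_of_card_ge le_sup_right hmax).symm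

theorem exists_maxEA (S : Subgroup G) : ∃ E, MaxEA S E := by
  obtain ⟨A, hA, hmax⟩ := Set.exists_max_image {A : Subgroup G | A ≤ S ∧ Cfsg.IsElementaryAbelian 2 A}
    (fun A : Subgroup G => Nat.card A) (Set.toFinite _) ⟨⊥, bot_le, CfsgLib.Fusion.Thompson.isEA_bot⟩
  exact ⟨A, hA.1, hA.2, fun B h1 h2 => hmax B ⟨h1, h2⟩⟩

theorem je_le (S : Subgroup G) : JE S ≤ S := sSup_le fun _ h => h.1

theorem je_egrp (S : Subgroup G) : EGrp (JE S) := by
  intro V hV _ he hp
  exact sSup_le fun E hE => (maxEA_le hE he (hV.trans (je_le S)) (hp.1.mono (le_sSup hE))).2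

theorem je_le_jhat (S : Subgroup G) : JE S ≤ JHat S := le_sSup ⟨je_le S, je_egrp S, le_rfl⟩

theorem jhat_le (S : Subgroup G) : JHat S ≤ S := sSup_le fun _ h => h.1

theorem jhat_egrp (S : Subgroup G) : EGrp (JHat S) := by
  intro V hV hn he hp
  refine sSup_le ?_
  rintro U ⟨hUS, hUe, hUJ⟩
  have hU : U ≤ JHat S := le_sSup ⟨hUS, hUe, hUJ⟩
  refine hUe V ?_ (hU.trans hn) he (hp.mono hU)
  obtain ⟨E, hE⟩ := exists_maxEA S
  have hEJ : E ≤ JE S := le_sSup hE
  exact ((maxEA_le hE he (hV.trans (jhat_le S)) (hp.1.mono ((hEJ.trans hUJ).trans hU))).1.trans hEJ).trans hUJ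

/-- Subgroups `T` between `JE S` and `S`. -/
theorem je_of_le {S T : Subgroup G} (h1 : JE S ≤ T) (h2 : T ≤ S) : JE T = JE S := by
  obtain ⟨E0, hE0⟩ := exists_maxEA S
  unfold JE
  congr 1
  ext E
  constructor
  · intro hE
    exact ⟨hE.1.trans h2, hE.2.1, fun B hB he =>
      (hE0.2.2 B hB he).trans (hE.2.2 E0 ((le_sSup hE0 : E0 ≤ JE S).trans h1) hE0.2.1)⟩
  · intro hE
    exact ⟨(le_sSup hE).trans h1, hE.2.1, fun B hB he => hE.2.2 B (hB.trans h2) he⟩

theorem jhat_of_le {S T : Subgroup G} (h1 : JE S ≤ T) (h2 : T ≤ S) :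
    JHat T ≤ JHat S ∧ (JHat S ≤ T → JHat T = JHat S) := by
  have hle : JHat T ≤ JHat S := sSup_le_sSup fun U hU => ⟨hU.1.trans h2, hU.2.1, je_of_le h1 h2 ▸ hU.2.2⟩
  exact ⟨hle, fun h => le_antisymm hle (sSup_le_sSup fun U hU =>
    ⟨(le_sSup hU).trans h, hU.2.1, (je_of_le h1 h2).symm ▸ hU.2.2⟩)⟩

end CfsgLib.LocalEven.TwoFactor
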