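import Cfsg.Agent.Lib.LocalEven.TwoFactor.Cost
import Cfsg.Agent.Lib.LocalEven.TwoFactor.Strong

/-!
A normal elementary abelian subgroup of a Sylow 2-subgroup on which `O₂(G)` acts strongly lies in `O₂(G)`.
-/

set_option autoImplicit false
set_option linter.style.haveILetI false
set_option linter.unusedSectionVars false

namespace CfsgLib.LocalEven.TwoFactor

open Subgroup CfsgLib.Solvable
open CfsgLib.Fusion (Thompson.isEA_map Thompson.isEA_le Thompson.isPGroup_isEA Thompson.card_sup_mul_card_inf)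
open scoped commutatorElement

universe u

theorem pCore_quotient_bot (H : Type u) [Group H] [Finite H] :
    Cfsg.pCore 2 (H ⧸ Cfsg.pCore 2 H) = ⊥ := by
  set Q := Cfsg.pCore 2 H
  set q := QuotientGroup.mk' Q
  haveI : ((Cfsg.pCore 2 (H ⧸ Q)).comap q).Normal := Normal.comap inferInstance _
  have hp : IsPGroup 2 ((Cfsg.pCore 2 (H ⧸ Q)).comap q) := by
    refine (Cores.isPGroup_pCore 2).comap_of_ker_isPGroup q ?_
    rw [QuotientGroup.ker_mk']; exact Cores.isPGroup_pCore 2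
  rw [eq_bot_iff, ← Subgroup.map_comap_eq_self_of_surjective (QuotientGroup.mk'_surjective Q)
    (Cfsg.pCore 2 (H ⧸ Q)), map_le_iff_le_comap]
  refine (Cores.le_pCore hp).trans ?_
  rw [MonoidHom.comap_bot, QuotientGroup.ker_mk']

/-- The quotient of a constrained `S₄`-free group by its 2-core is `S₃`-free. -/
theorem free_mod_core {G : Type u} [Group G] [Finite G] (h : Good G) {Q : Subgroup G} [Q.Normal]
    (hQ2 : IsPGroup 2 Q) (hQ : centralizer (Q : Set G) ≤ Q) :
    ¬ Cfsg.Involves (Equiv.Perm (Fin 3)) (G ⧸ Q) := by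
  haveI : (centralizer (Q : Set G)).Normal := Subgroup.normal_centralizer
  intro hi
  refine automizer_free h hQ2 (CfsgLib.Fsys.involves_of_surjective
    (e := QuotientGroup.map (centralizer (Q : Set G)) Q (MonoidHom.id G) hQ) (fun y => ?_) hi)
  induction y using QuotientGroup.induction_on with
  | H g => exact ⟨QuotientGroup.mk g, rfl⟩

/-- An element of odd order lies in a normal subgroup supplemented by a 2-group. -/
theorem mem_of_odd {H : Type u} [Group H] [Finite H] {C Q : Subgroup H} [C.Normal] (hQ : IsPGroup 2 Q)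
    (hsup : C ⊔ Q = ⊤) {y : H} (hy : Odd (orderOf y)) : y ∈ C := by
  have hy' : y ∈ ((C ⊔ Q : Subgroup H) : Set H) := by rw [hsup]; trivial
  rw [normal_mul] at hy'
  obtain ⟨c, hc, z, hz, hcz⟩ := hy'
  obtain ⟨k, hk⟩ := hQ ⟨z, hz⟩
  have hk' : z ^ 2 ^ k = 1 := congrArg Subtype.val hk
  set q := QuotientGroup.mk' C
  have e : q y = q z := by
    rw [← hcz, map_mul, show q c = 1 from (QuotientGroup.eq_one_iff c).2 hc, one_mul]
  refine (QuotientGroup.eq_one_iff y).1 (show q y = 1 from orderOf_eq_one_iff.1 ?_)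
  refine Nat.eq_one_of_dvd_coprimes ((Nat.coprime_two_left.2 hy).pow_left k) ?_ (orderOf_map_dvd q y)
  rw [e]
  exact (orderOf_map_dvd q z).trans (orderOf_dvd_of_pow_eq_one hk')

/-- A `2`-power of `x` has odd order. -/
theorem exists_odd_pow {H : Type u} [Group H] [Finite H] (x : H) : ∃ k : ℕ, Odd (orderOf (x ^ 2 ^ k)) := by
  haveI : Fact (Nat.Prime 2) := ⟨Nat.prime_two⟩
  obtain ⟨k, hk⟩ := CfsgLib.Fusion.Basic.exists_pow_coprime (p := 2) x
  exact ⟨k, Nat.coprime_two_right.1 hk⟩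

theorem isEA_subgroupOf' {G : Type u} [Group G] {A : Subgroup G} (hA : Cfsg.IsElementaryAbelian 2 A)
    (U : Subgroup G) : Cfsg.IsElementaryAbelian 2 (A.subgroupOf U) :=
  CfsgLib.Fusion.Thompson.isEA_subgroupOf hA U

/-- Two elementary abelian groups and a normal 2-group, separated: the cost inequality. -/
theorem core_ineq {H : Type u} [Group H] [Finite H] (h : Good H) {V V' Q : Subgroup H} [hQn : Q.Normal]
    (hQ2 : IsPGroup 2 Q) (hQC : centralizer (Q : Set H) ≤ Q) (hV : Cfsg.IsElementaryAbelian 2 V)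
    (hV' : Cfsg.IsElementaryAbelian 2 V') (hQV : Q ≤ normalizer (V : Set H))
    (hQV' : Q ≤ normalizer (V' : Set H)) (htop : V ⊔ V' ⊔ Q = ⊤)
    (hTI : ∀ P : Subgroup H, P.Normal → IsPGroup 2 P → V ⊓ P ≤ Q) :
    Nat.card V ^ 2 * Nat.card ↥(V' ⊓ Q ⊓ centralizer (V : Set H)) ≤
      Nat.card ↥(V ⊓ Q) ^ 2 * Nat.card ↥(V' ⊓ Q) := by
  haveI : Fact (Nat.Prime 2) := ⟨Nat.prime_two⟩
  haveI := hV.1
  haveI := hV'.1
  set R1 := V ⊓ Q with hR1
  set R2 := V' ⊓ Q with hR2
  -- conjugation by generators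
  have hnorm : ∀ A : Subgroup H, Q ≤ normalizer (A : Set H) → ∀ r ∈ Q, ∀ a ∈ A,
      a * r * a⁻¹ * r⁻¹ ∈ A ⊓ Q := fun A hQA r hr a ha => by
    refine mem_inf.2 ⟨?_, mul_mem (hQn.conj_mem r hr a) (inv_mem hr)⟩
    rw [show a * r * a⁻¹ * r⁻¹ = a * (r * a⁻¹ * r⁻¹) by group]
    exact mul_mem ha ((mem_normalizer_iff.1 (hQA hr) _).1 (inv_mem ha))
  set W0 := R1 ⊔ R2 with hW0
  have hnorW : ∀ x : H, x ∈ normalizer (W0 : Set H) := by
    suffices hle : V ⊔ V' ⊔ Q ≤ normalizer (W0 : Set H) from fun x => hle (htop ▸ mem_top x)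
    refine sup_le (sup_le ?_ ?_) ?_
    · refine le_normalizer_iff.2 fun v hv x hx => ?_
      have hle : W0 ≤ W0.comap (MulAut.conj v).toMonoidHom := sup_le
        (fun r hr => by
          show v * r * v⁻¹ ∈ W0
          rw [setLike_mul_comm hv hr.1, mul_inv_cancel_right]; exact mem_sup_left hr)
        (fun r hr => by
          show v * r * v⁻¹ ∈ W0
          rw [show v * r * v⁻¹ = (v * r * v⁻¹ * r⁻¹) * r by group]
          exact mul_mem (mem_sup_left (hnorm V hQV r hr.2 v hv)) (mem_sup_right hr))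
      exact hle hx
    · refine le_normalizer_iff.2 fun v hv x hx => ?_
      have hle : W0 ≤ W0.comap (MulAut.conj v).toMonoidHom := sup_le
        (fun r hr => by
          show v * r * v⁻¹ ∈ W0
          rw [show v * r * v⁻¹ = (v * r * v⁻¹ * r⁻¹) * r by group]
          exact mul_mem (mem_sup_right (hnorm V' hQV' r hr.2 v hv)) (mem_sup_left hr))
        (fun r hr => by
          show v * r * v⁻¹ ∈ W0
          rw [setLike_mul_comm hv hr.1, mul_inv_cancel_right]; exact mem_sup_right hr)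
      exact hle hx
    · refine le_normalizer_iff.2 fun v hv x hx => ?_
      have hle : W0 ≤ W0.comap (MulAut.conj v).toMonoidHom := sup_le
        (fun r hr => mem_sup_left (mem_inf.2 ⟨(mem_normalizer_iff.1 (hQV hv) r).1 hr.1, hQn.conj_mem r hr.2 v⟩))
        (fun r hr => mem_sup_right (mem_inf.2 ⟨(mem_normalizer_iff.1 (hQV' hv) r).1 hr.1, hQn.conj_mem r hr.2 v⟩))
      exact hle hx
  haveI hW0n : W0.Normal := normalizer_eq_top_iff.1 (eq_top_iff.2 fun x _ => hnorW x)
  set D := W0 ⊓ centralizer (V : Set H) ⊓ centralizer (V' : Set H) with hD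
  have hDn : ∀ x : H, x ∈ normalizer (D : Set H) := by
    suffices hle : V ⊔ V' ⊔ Q ≤ normalizer (D : Set H) from fun x => hle (htop ▸ mem_top x)
    refine sup_le (sup_le ?_ ?_) ?_
    · exact (le_centralizer_iff.1 (show D ≤ centralizer (V : Set H) from inf_le_left.trans inf_le_right)).trans
        (centralizer_le_normalizer _)
    · exact (le_centralizer_iff.1 (show D ≤ centralizer (V' : Set H) from inf_le_right)).trans
        (centralizer_le_normalizer _)
    · refine le_normalizer_iff.2 fun v hv x hx => ?_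
      have hcent : ∀ U : Subgroup H, Q ≤ normalizer (U : Set H) → x ∈ centralizer (U : Set H) →
          v * x * v⁻¹ ∈ centralizer (U : Set H) := fun U hU hxU => mem_centralizer_iff.2 fun u hu => by
        have h1 := mem_centralizer_iff.1 hxU (v⁻¹ * u * v) ((mem_normalizer_iff''.1 (hU hv) u).1 hu)
        calc u * (v * x * v⁻¹) = v * ((v⁻¹ * u * v) * x) * v⁻¹ := by group
          _ = v * (x * (v⁻¹ * u * v)) * v⁻¹ := by rw [h1]
          _ = _ := by group
      exact mem_inf.2 ⟨mem_inf.2 ⟨(mem_normalizer_iff.1 (hnorW v) x).1 hx.1.1, hcent V hQV hx.1.2⟩,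
        hcent V' hQV' hx.2⟩
  haveI hDn' : D.Normal := normalizer_eq_top_iff.1 (eq_top_iff.2 fun x _ => hDn x)
  set q := QuotientGroup.mk' D with hq
  have hqD : ∀ x, q x = 1 ↔ x ∈ D := fun x => QuotientGroup.eq_one_iff x
  have hR1e := Thompson.isEA_map q (Thompson.isEA_le hV (inf_le_left : R1 ≤ V))
  have hR2e := Thompson.isEA_map q (Thompson.isEA_le hV' (inf_le_left : R2 ≤ V'))
  have hcomm : R1.map q ≤ centralizer (R2.map q : Set (H ⧸ D)) := by
    rintro _ ⟨r, hr, rfl⟩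
    refine mem_centralizer_iff.2 ?_
    rintro _ ⟨s, hs, rfl⟩
    symm
    rw [← commutatorElement_eq_one_iff_mul_comm, ← map_commutatorElement, hqD]
    have h1 : ⁅r, s⁆ ∈ V := by
      rw [commutatorElement_def, show r * s * r⁻¹ * s⁻¹ = r * (s * r⁻¹ * s⁻¹) by group]
      exact mul_mem hr.1 ((mem_normalizer_iff.1 (hQV hs.2) _).1 (inv_mem hr.1))
    have h2 : ⁅r, s⁆ ∈ V' := by
      rw [commutatorElement_def]
      exact mul_mem ((mem_normalizer_iff.1 (hQV' hr.2) _).1 hs.1) (inv_mem hs.1)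
    exact mem_inf.2 ⟨mem_inf.2 ⟨mem_sup_left (mem_inf.2 ⟨h1, mul_mem (mul_mem (mul_mem hr.2 hs.2) (inv_mem hr.2)) (inv_mem hs.2)⟩), mem_centralizer_iff.2 fun u hu => setLike_mul_comm hu h1⟩,
      mem_centralizer_iff.2 fun u hu => setLike_mul_comm hu h2⟩
  set N := W0.map q with hNdef
  have hNsup : N = R1.map q ⊔ R2.map q := by rw [hNdef, hW0, Subgroup.map_sup]
  have hNe : Cfsg.IsElementaryAbelian 2 N := hNsup ▸ elementary_sup hR1e hR2e hcomm
  haveI : N.Normal := Normal.map inferInstance q (QuotientGroup.mk'_surjective D)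
  obtain ⟨M, hMn, hM, hb⟩ := cost _ (h.quotient D) N rfl hNe (V.map q) (Thompson.isEA_map q hV)
  haveI := hMn
  haveI : (M.comap q).Normal := hMn.comap q
  have hM2 : IsPGroup 2 (M.comap q) := by
    intro x
    obtain ⟨i, hi⟩ := hM (q x) x.2
    obtain ⟨j, hj⟩ := exists_odd_pow ((x : H) ^ 2 ^ i)
    set y := ((x : H) ^ 2 ^ i) ^ 2 ^ j with hy
    have hyN : q y ∈ centralizer (N : Set (H ⧸ D)) := by
      rw [hy, map_pow, map_pow]; exact pow_mem hi _
    haveI : (centralizer (D : Set H)).Normal := Subgroup.normal_centralizer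
    have hyD : y ∈ centralizer (D : Set H) := by
      refine mem_of_odd hQ2 (eq_top_iff.2 (htop ▸ sup_le_sup_right (sup_le ?_ ?_) _)) hj
      · exact le_centralizer_iff.1 (inf_le_left.trans inf_le_right)
      · exact le_centralizer_iff.1 inf_le_right
    have hW0Q : W0 ≤ Q := sup_le inf_le_right inf_le_right
    have hcop : ∀ U : Subgroup H, U ≤ Q → (orderOf y).Coprime (Nat.card U) := fun U hU => by
      obtain ⟨n, hn⟩ := IsPGroup.iff_card.1 (hQ2.to_le hU)
      rw [hn]; exact (Nat.coprime_two_right.2 hj).pow_right n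
    have hyW : y ∈ centralizer (W0 : Set H) := mem_centralizer_iff.2 fun w hw =>
      (CfsgLib.Coprime.commute_of_stabilizes (hcop D ((inf_le_left.trans inf_le_left).trans hW0Q)) hyD
        (by rw [← hqD, map_commutatorElement, commutatorElement_eq_one_iff_mul_comm]
            exact (mem_centralizer_iff.1 hyN (q w) ⟨w, hw, rfl⟩).symm)).eq.symm
    set p := QuotientGroup.mk' W0
    have hyQ : p y ∈ centralizer (Q.map p : Set (H ⧸ W0)) := by
      haveI : (Q.map p).Normal := Normal.map inferInstance p (QuotientGroup.mk'_surjective W0)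
      haveI : (centralizer (Q.map p : Set (H ⧸ W0))).Normal := Subgroup.normal_centralizer
      refine mem_of_odd (hQ2.map p) ?_ (hj.of_dvd_nat (orderOf_map_dvd p y))
      rw [eq_top_iff, ← Subgroup.map_top_of_surjective p (QuotientGroup.mk'_surjective W0), ← htop,
        Subgroup.map_sup]
      refine sup_le_sup_right ?_ _
      rw [map_le_iff_le_comap]
      refine sup_le (fun v hv => mem_centralizer_iff.2 ?_) (fun v hv => mem_centralizer_iff.2 ?_)
      · rintro _ ⟨z, hz, rfl⟩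
        rw [← commutatorElement_eq_one_iff_mul_comm, ← map_commutatorElement]
        refine (QuotientGroup.eq_one_iff _).2 (mem_sup_left (mem_inf.2 ⟨?_, ?_⟩))
        · exact mul_mem ((mem_normalizer_iff.1 (hQV hz) _).1 hv) (inv_mem hv)
        · rw [commutatorElement_def, show z * v * z⁻¹ * v⁻¹ = z * (v * z⁻¹ * v⁻¹) by group]
          exact mul_mem hz (hQn.conj_mem _ (inv_mem hz) v)
      · rintro _ ⟨z, hz, rfl⟩
        rw [← commutatorElement_eq_one_iff_mul_comm, ← map_commutatorElement]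
        refine (QuotientGroup.eq_one_iff _).2 (mem_sup_right (mem_inf.2 ⟨?_, ?_⟩))
        · exact mul_mem ((mem_normalizer_iff.1 (hQV' hz) _).1 hv) (inv_mem hv)
        · rw [commutatorElement_def, show z * v * z⁻¹ * v⁻¹ = z * (v * z⁻¹ * v⁻¹) by group]
          exact mul_mem hz (hQn.conj_mem _ (inv_mem hz) v)
    have hycent : y ∈ centralizer (Q : Set H) := by
      refine mem_centralizer_iff.2 fun z hz =>
        (CfsgLib.Coprime.commute_of_stabilizes (hcop W0 hW0Q) hyW ?_).eq.symm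
      refine (QuotientGroup.eq_one_iff _).1 ?_
      show p ⁅y, z⁆ = 1
      rw [map_commutatorElement, commutatorElement_eq_one_iff_mul_comm]
      exact (mem_centralizer_iff.1 hyQ (p z) ⟨z, hz, rfl⟩).symm
    have hy1 : y = 1 := by
      obtain ⟨k, hk⟩ := hQ2 ⟨y, hQC hycent⟩
      exact orderOf_eq_one_iff.1 (Nat.eq_one_of_dvd_coprimes ((Nat.coprime_two_left.2 hj).pow_left k)
        (orderOf_dvd_of_pow_eq_one (congrArg Subtype.val hk)) dvd_rfl)
    refine ⟨i + j, Subtype.ext ?_⟩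
    rw [Subgroup.coe_pow, pow_add, pow_mul, ← hy, hy1, Subgroup.coe_one]
  have hVM : V ⊓ M.comap q ≤ R1 := le_inf inf_le_left (hTI _ inferInstance hM2)
  -- cardinalities
  have hA := card_map_mul_inf q V
  have hAM := card_map_mul_inf q (V ⊓ M.comap q)
  have e1 : (V ⊓ M.comap q).map q = V.map q ⊓ M := by
    ext y
    constructor
    · rintro ⟨x, ⟨hx1, hx2⟩, rfl⟩; exact mem_inf.2 ⟨⟨x, hx1, rfl⟩, hx2⟩
    · rintro ⟨⟨x, hx, rfl⟩, hy⟩; exact ⟨x, mem_inf.2 ⟨hx, hy⟩, rfl⟩
  have e2 : V ⊓ M.comap q ⊓ q.ker = V ⊓ q.ker := by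
    rw [inf_assoc, inf_eq_right.2 (MonoidHom.ker_le_comap _ _)]
  rw [e1, e2] at hAM
  have hR2c := card_map_mul_inf q R2
  have hk2 : R2 ⊓ centralizer (V : Set H) ≤ R2 ⊓ q.ker := fun x hx => mem_inf.2 ⟨hx.1, by
    rw [MonoidHom.mem_ker, hqD]
    exact mem_inf.2 ⟨mem_inf.2 ⟨mem_sup_right hx.1, hx.2⟩,
      mem_centralizer_iff.2 fun u hu => setLike_mul_comm hu hx.1.1⟩⟩
  have hC : R1.map q ≤ N ⊓ centralizer (V.map q : Set (H ⧸ D)) := by
    refine le_inf (map_mono le_sup_left) ?_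
    rintro _ ⟨r, hr, rfl⟩
    refine mem_centralizer_iff.2 ?_
    rintro _ ⟨v, hv, rfl⟩
    rw [← map_mul, ← map_mul, setLike_mul_comm hv hr.1]
  have hNle : Nat.card N ≤ Nat.card (R1.map q) * Nat.card (R2.map q) := by
    rw [← Thompson.card_sup_mul_card_inf (N := R1.map q) (K := R2.map q)
      ((le_centralizer_iff.1 hcomm).trans (centralizer_le_normalizer _)), ← hNsup]
    exact Nat.le_mul_of_pos_right _ Nat.card_pos
  set a := Nat.card (V.map q)
  set k := Nat.card ↥(V ⊓ q.ker)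
  set r1 := Nat.card (R1.map q)
  set r2 := Nat.card (R2.map q)
  set am := Nat.card ↥(V.map q ⊓ M)
  have h1 : a ^ 2 ≤ r2 * am ^ 2 := by
    refine Nat.le_of_mul_le_mul_right ?_ (Nat.card_pos : 0 < r1)
    calc a ^ 2 * r1 ≤ a ^ 2 * Nat.card ↥(N ⊓ centralizer (V.map q : Set (H ⧸ D))) :=
          Nat.mul_le_mul_left _ (Subgroup.card_le_of_le hC)
      _ ≤ Nat.card N * am ^ 2 := hb
      _ ≤ r1 * r2 * am ^ 2 := Nat.mul_le_mul_right _ hNle
      _ = _ := by ring
  have h2 : am * k ≤ Nat.card R1 := hAM ▸ Subgroup.card_le_of_le hVM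
  calc Nat.card V ^ 2 * Nat.card ↥(R2 ⊓ centralizer (V : Set H))
      ≤ (a ^ 2 * k ^ 2) * Nat.card ↥(R2 ⊓ q.ker) := by
        rw [← hA, mul_pow]; exact Nat.mul_le_mul_left _ (Subgroup.card_le_of_le hk2)
    _ ≤ (r2 * am ^ 2 * k ^ 2) * Nat.card ↥(R2 ⊓ q.ker) :=
        Nat.mul_le_mul_right _ (Nat.mul_le_mul_right _ h1)
    _ = (am * k) ^ 2 * (r2 * Nat.card ↥(R2 ⊓ q.ker)) := by ring
    _ ≤ _ := by rw [hR2c]; exact Nat.mul_le_mul_right _ (Nat.pow_le_pow_left h2 2)

theorem Strong.conj {G : Type u} [Group G] {P V : Subgroup G} (h : Strong P V) {g : G}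
    (hg : g ∈ normalizer (P : Set G)) : Strong P (V.map (MulAut.conj g).toMonoidHom) := by
  have h' := (strong_map_iff (f := (MulAut.conj g).toMonoidHom) (MulAut.conj g).injective P V).2 h
  rwa [show P.map (MulAut.conj g).toMonoidHom = P from Subgroup.mem_normalizer_iff_map_conj_eq.1 hg] at h'

/-- A strong normal elementary abelian subgroup of a Sylow subgroup lies in the 2-core. -/
theorem le_core {G : Type u} [Group G] [Finite G] (h : Good G)
    (hQC : centralizer (Cfsg.pCore 2 G : Set G) ≤ Cfsg.pCore 2 G) (S : Sylow 2 G) {V : Subgroup G}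
    (hV : Cfsg.IsElementaryAbelian 2 V) (hSV : (S : Subgroup G) ≤ normalizer (V : Set G))
    (hs : Strong (Cfsg.pCore 2 G) V) : V ≤ Cfsg.pCore 2 G := by
  haveI : Fact (Nat.Prime 2) := ⟨Nat.prime_two⟩
  set Q := Cfsg.pCore 2 G with hQdef
  haveI : Q.Normal := Cores.pCore_normal 2
  have hQ2 : IsPGroup 2 Q := Cores.isPGroup_pCore 2
  by_contra hVQ
  set q := QuotientGroup.mk' Q
  obtain ⟨gbar, hg⟩ := twoConj (pCore_quotient_bot G) (free_mod_core h hQ2 hQC)
    (h.quotient Q).kg.comp (Thompson.isEA_map q hV)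
  obtain ⟨g, rfl⟩ := QuotientGroup.mk'_surjective Q gbar
  set V' := V.map (MulAut.conj g).toMonoidHom with hV'def
  have hgQ : g ∈ normalizer (Q : Set G) := by rw [normalizer_eq_top]; trivial
  have hQc : Q.map (MulAut.conj g).toMonoidHom = Q := Subgroup.mem_normalizer_iff_map_conj_eq.1 hgQ
  have hQV : Q ≤ normalizer (V : Set G) := (Cores.pCore_le_sylow S).trans hSV
  have hQV' : Q ≤ normalizer (V' : Set G) := by
    rw [← hQc]; exact (map_mono hQV).trans (le_normalizer_map _)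
  have hV' : Cfsg.IsElementaryAbelian 2 V' := Thompson.isEA_map _ hV
  set X := V ⊔ V' ⊔ Q
  have hVX : V ≤ X := le_sup_left.trans le_sup_left
  have hV'X : V' ≤ X := le_sup_right.trans le_sup_left
  have hQX : Q ≤ X := le_sup_right
  haveI : (Q.subgroupOf X).Normal := inferInstance
  have h3 := core_ineq (h.subgroup X) (V := V.subgroupOf X) (V' := V'.subgroupOf X) (Q := Q.subgroupOf X)
    (hQ2.comap_of_injective _ X.subtype_injective)
    (fun x hx => hQC (mem_centralizer_iff.2 fun y hy => congrArg Subtype.val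
      (mem_centralizer_iff.1 hx ⟨y, hQX hy⟩ hy)))
    (isEA_subgroupOf' hV X) (isEA_subgroupOf' hV' X)
    (fun x hx => mem_normalizer_iff.2 fun n => mem_normalizer_iff.1 (hQV hx) n)
    (fun x hx => mem_normalizer_iff.2 fun n => mem_normalizer_iff.1 (hQV' hx) n)
    (by rw [← subgroupOf_sup hVX hV'X, ← subgroupOf_sup (sup_le hVX hV'X) hQX, subgroupOf_self])
    (fun P hP hP2 x hx => by
      have hn : ∀ y ∈ X, y ∈ normalizer (P.map X.subtype : Set G) := fun y hy =>
        le_normalizer_map X.subtype ⟨⟨y, hy⟩, by rw [normalizer_eq_top]; trivial, rfl⟩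
      have key := hg ((P.map X.subtype).map q) ((hP2.map _).map _)
        (by rintro _ ⟨v, hv, rfl⟩; exact le_normalizer_map q ⟨v, hn v (hVX hv), rfl⟩)
        (by
          rintro _ ⟨_, ⟨v, hv, rfl⟩, rfl⟩
          refine le_normalizer_map q ⟨g * v * g⁻¹, hn _ (hV'X ⟨v, hv, rfl⟩), ?_⟩
          show q (g * v * g⁻¹) = q g * q v * (q g)⁻¹
          rw [map_mul, map_mul, map_inv])
      obtain ⟨hxV, hxP⟩ := mem_inf.1 hx
      have hmem : q (x : G) ∈ V.map q ⊓ (P.map X.subtype).map q :=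
        mem_inf.2 ⟨⟨_, hxV, rfl⟩, ⟨_, ⟨x, hxP, rfl⟩, rfl⟩⟩
      rw [key, mem_bot] at hmem
      exact (QuotientGroup.eq_one_iff (x : G)).1 hmem)
  have hcardX : ∀ A : Subgroup G, A ≤ X → Nat.card (A.subgroupOf X) = Nat.card A := fun A hA =>
    Nat.card_congr (Subgroup.subgroupOfEquivOfLe hA).toEquiv
  rw [hcardX V hVX] at h3
  rw [show Nat.card ↥(V.subgroupOf X ⊓ Q.subgroupOf X) = Nat.card ↥(V ⊓ Q) from
      (congrArg (fun H : Subgroup X => Nat.card H) (Subgroup.comap_inf V Q X.subtype).symm).trans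
        (hcardX _ (inf_le_left.trans hVX)),
    show Nat.card ↥(V'.subgroupOf X ⊓ Q.subgroupOf X) = Nat.card ↥(V' ⊓ Q) from
      (congrArg (fun H : Subgroup X => Nat.card H) (Subgroup.comap_inf V' Q X.subtype).symm).trans
        (hcardX _ (inf_le_left.trans hV'X))] at h3
  have hr20 : Nat.card ↥(V' ⊓ Q ⊓ centralizer (V : Set G)) ≤
      Nat.card ↥(V'.subgroupOf X ⊓ Q.subgroupOf X ⊓ centralizer (V.subgroupOf X : Set X)) := by
    refine le_of_eq_of_le (hcardX _ (inf_le_left.trans (inf_le_left.trans hV'X))).symm (Subgroup.card_le_of_le ?_)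
    intro x hx
    obtain ⟨hx1, hx2⟩ := mem_inf.1 hx
    exact mem_inf.2 ⟨hx1, mem_centralizer_iff.2 fun v hv => Subtype.ext (mem_centralizer_iff.1 hx2 v hv)⟩
  have hr : Nat.card ↥(V' ⊓ Q) = Nat.card ↥(V ⊓ Q) := by
    rw [← Subgroup.card_map_of_injective (f := (MulAut.conj g).toMonoidHom) (K := V ⊓ Q) (MulAut.conj g).injective,
      Subgroup.map_inf _ _ _ (MulAut.conj g).injective, hQc]
  set v := Nat.card V
  set r := Nat.card ↥(V ⊓ Q) with hrdef
  set r10 := Nat.card ↥(V ⊓ Q ⊓ centralizer (V' : Set G))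
  set r20 := Nat.card ↥(V' ⊓ Q ⊓ centralizer (V : Set G))
  rw [hr] at h3
  have h3' : v ^ 2 * r20 ≤ r ^ 2 * r := (Nat.mul_le_mul_left _ hr20).trans h3
  have hR2 : ¬ V' ⊓ Q ≤ centralizer (V : Set G) := by
    intro hle
    have e : r20 = r := by show Nat.card ↥(V' ⊓ Q ⊓ centralizer (V : Set G)) = r; rw [inf_eq_left.2 hle, hr]
    rw [e] at h3'
    have h4 : v ≤ r := (Nat.pow_le_pow_iff_left two_ne_zero).1 (Nat.le_of_mul_le_mul_right h3' Nat.card_pos)
    exact hVQ (inf_eq_left.1 (Subgroup.eq_of_le_of_card_ge inf_le_left h4))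
  have h1 : r ^ 3 * r10 ^ 2 < v ^ 2 * r20 ^ 3 := by
    refine lt_of_le_of_lt (Nat.mul_le_mul (le_of_eq (by rw [hr]))
      (Nat.pow_le_pow_left (Subgroup.card_le_of_le ?_) 2))
      (hs (V' ⊓ Q) inf_le_right (acts_of_elementary (Thompson.isEA_le hV' inf_le_left) hR2))
    exact le_inf (inf_le_left.trans inf_le_left) (inf_le_right.trans (centralizer_le (by exact_mod_cast
      (inf_le_left : V' ⊓ Q ≤ V'))))
  have h2 : r ^ 3 * r20 ^ 2 ≤ v ^ 2 * r10 ^ 3 := by
    have hv' : Nat.card V' = v := Subgroup.card_map_of_injective (MulAut.conj g).injective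
    by_cases hle : V ⊓ Q ≤ centralizer (V' : Set G)
    · have e : r10 = r := congrArg (fun H : Subgroup G => Nat.card H) (inf_eq_left.2 hle)
      rw [e, mul_comm]
      refine Nat.mul_le_mul_right _ (Nat.pow_le_pow_left ?_ 2)
      rw [← hv']
      exact Subgroup.card_le_of_le (inf_le_left.trans inf_le_left)
    · have := (hs.conj hgQ) (V ⊓ Q) inf_le_right (acts_of_elementary (Thompson.isEA_le hV inf_le_left) hle)
      rw [hv'] at this
      refine le_trans (Nat.mul_le_mul_left _ (Nat.pow_le_pow_left (Subgroup.card_le_of_le ?_) 2)) this.le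
      exact le_inf (inf_le_left.trans inf_le_left) (inf_le_right.trans (centralizer_le (by exact_mod_cast
        (inf_le_left : V ⊓ Q ≤ V))))
  have key : (r ^ 3) ^ 5 * (r10 ^ 6 * r20 ^ 4) < (v ^ 2 * r20) ^ 5 * (r10 ^ 6 * r20 ^ 4) := by
    calc (r ^ 3) ^ 5 * (r10 ^ 6 * r20 ^ 4) = (r ^ 3 * r10 ^ 2) ^ 3 * (r ^ 3 * r20 ^ 2) ^ 2 := by ring
      _ < (v ^ 2 * r20 ^ 3) ^ 3 * (v ^ 2 * r10 ^ 3) ^ 2 :=
        Nat.mul_lt_mul_of_lt_of_le (Nat.pow_lt_pow_left h1 three_ne_zero) (Nat.pow_le_pow_left h2 2)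
          (pow_pos (Nat.mul_pos (pow_pos Nat.card_pos 2) (pow_pos Nat.card_pos 3)) 2)
      _ = _ := by ring
  have h4 : (v ^ 2 * r20) ^ 5 ≤ (r ^ 3) ^ 5 := Nat.pow_le_pow_left (h3'.trans_eq (by ring)) 5
  exact absurd (key.trans_le (Nat.mul_le_mul_right _ h4)) (lt_irrefl _)

end CfsgLib.LocalEven.TwoFactor
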