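import Cfsg.Agent.Lib.LocalEven.TwoFactor.Sylows

/-!
`S₄`-free groups all of whose 2-locals are soluble and constrained: normalisers of nontrivial 2-subgroups of `S`
lie in one 2-local subgroup.
-/

set_option autoImplicit false
set_option linter.style.haveILetI false
set_option linter.unusedSectionVars false

namespace CfsgLib.LocalEven.TwoFactor

open Subgroup CfsgLib.Solvable

universe u

variable {G : Type u} [Group G] [Finite G]

/-- Every 2-local subgroup is good and constrained. -/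
def GoodLocals (G : Type u) [Group G] : Prop :=
  ∀ X : Subgroup G, IsPGroup 2 X → X ≠ ⊥ → Good ↥(normalizer (X : Set G)) ∧
    HSec ↥(normalizer (X : Set G)) ∧
    centralizer (Cfsg.pCore 2 ↥(normalizer (X : Set G)) : Set ↥(normalizer (X : Set G))) ≤
      Cfsg.pCore 2 ↥(normalizer (X : Set G))

/-- The normaliser of the closure of `Ω₁(Z(S))`. -/
def LocalCore (S : Subgroup G) : Subgroup G := normalizer (ZClosure S : Set G)

theorem sylow_le_localCore (S : Sylow 2 G) : (S : Subgroup G) ≤ LocalCore (S : Subgroup G) :=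
  le_normalizer_zclosure _

theorem bhat_factor_in (hl : GoodLocals G) {X : Subgroup G} (hX : IsPGroup 2 X) (hX1 : X ≠ ⊥) {T : Subgroup G}
    (hT : SylowIn.IsSylowIn 2 T (normalizer (X : Set G))) {g : G} (hg : g ∈ normalizer (X : Set G)) :
    ∃ c ∈ centralizer (BHat T : Set G), ∃ n ∈ normalizer (JE T : Set G), g = c * n := by
  obtain ⟨hG, -, hc⟩ := hl X hX hX1
  obtain ⟨c, hc', n, hn, e⟩ := bhat_factor _ rfl hG hc hT.toSylow ⟨g, hg⟩
  refine ⟨c, ?_, n, ?_, congrArg Subtype.val e⟩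
  · rw [← hT.toSylow_map, bhat_map (Subgroup.subtype_injective _)]
    refine mem_centralizer_iff.2 ?_
    rintro _ ⟨b, hb, rfl⟩
    exact congrArg Subtype.val (mem_centralizer_iff.1 hc' b hb)
  · rw [← hT.toSylow_map, je_map (Subgroup.subtype_injective _)]
    exact le_normalizer_map (normalizer (X : Set G)).subtype ⟨n, hn, rfl⟩

theorem centralizer_bhat_le_localCore (hl : GoodLocals G) (S : Sylow 2 G) (hS : (S : Subgroup G) ≠ ⊥) :
    centralizer (BHat (S : Subgroup G) : Set G) ≤ LocalCore (S : Subgroup G) := by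
  obtain ⟨hG, hs, -⟩ := hl _ (S.2.to_le (je_le _)) (je_ne_bot S.2 hS)
  exact centralizer_bhat_le _ (zclosure_le_bhat S hG.free hs)

theorem localCore_ind (hl : GoodLocals G) : ∀ (k t : ℕ), Nat.card G ≤ t + k →
    (∀ (S S' : Sylow 2 G), 1 < t → Nat.card ↥((S : Subgroup G) ⊓ (S' : Subgroup G)) = t →
      LocalCore (S : Subgroup G) = LocalCore (S' : Subgroup G)) ∧
    (∀ (S : Sylow 2 G) (X : Subgroup G), X ≤ (S : Subgroup G) → X ≠ ⊥ →
      Nat.card ↥((S : Subgroup G) ⊓ normalizer (X : Set G)) = t →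
      normalizer (X : Set G) ≤ LocalCore (S : Subgroup G)) := by
  haveI : Fact (Nat.Prime 2) := ⟨Nat.prime_two⟩
  intro k
  induction k using Nat.strong_induction_on with
  | _ k IH => ?_
  intro t htk
  have hIHP : ∀ (S : Sylow 2 G) (X : Subgroup G), X ≤ (S : Subgroup G) → X ≠ ⊥ →
      t < Nat.card ↥((S : Subgroup G) ⊓ normalizer (X : Set G)) →
      normalizer (X : Set G) ≤ LocalCore (S : Subgroup G) := by
    intro S X hX hX1 hlt
    have hle := Subgroup.card_le_card_group ((S : Subgroup G) ⊓ normalizer (X : Set G))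
    exact (IH (k - (Nat.card ↥((S : Subgroup G) ⊓ normalizer (X : Set G)) - t)) (by omega) _
      (by omega)).2 S X hX hX1 rfl
  have hQ : ∀ (S S' : Sylow 2 G), 1 < t → Nat.card ↥((S : Subgroup G) ⊓ (S' : Subgroup G)) = t →
      LocalCore (S : Subgroup G) = LocalCore (S' : Subgroup G) := by
    intro S S' ht hD
    by_cases he : (S : Subgroup G) = (S' : Subgroup G)
    · rw [he]
    set D := (S : Subgroup G) ⊓ (S' : Subgroup G) with hDdef
    have hD1 : D ≠ ⊥ := fun hb => by rw [hb, Subgroup.card_bot] at hD; omega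
    have hlt : ∀ T : Sylow 2 G, D ≤ (T : Subgroup G) → D ≠ (T : Subgroup G) →
        t < Nat.card ↥((T : Subgroup G) ⊓ normalizer (D : Set G)) := fun T h1 h2 =>
      hD ▸ lt_inf_normalizer T.2 (lt_of_le_of_ne h1 h2)
    have h1 : D ≠ (S : Subgroup G) := fun h => he (S.3 S'.2 (inf_eq_left.1 h)).symm
    have h2 : D ≠ (S' : Subgroup G) := fun h => he (S'.3 S.2 (inf_eq_right.1 h))
    set U := (S' : Subgroup G) ⊓ normalizer (D : Set G) with hU
    have hUM : U ≤ LocalCore (S : Subgroup G) :=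
      inf_le_right.trans (hIHP S D inf_le_left hD1 (hlt S inf_le_left h1))
    obtain ⟨m, hm, hmU⟩ := CfsgLib.Fsys.sylow_conjugate_into
      (A := (S : Subgroup G)) (K := LocalCore (S : Subgroup G))
      ⟨sylow_le_localCore S, S.2, fun V _ hV h => S.3 hV h⟩ hUM (S'.2.to_le inf_le_left)
    set S2 : Sylow 2 G := m⁻¹ • S with hS2
    have hS2c : (S2 : Subgroup G) = (S : Subgroup G).map (MulAut.conj m⁻¹).toMonoidHom := by
      rw [hS2]; rfl
    have hUS2 : U ≤ (S2 : Subgroup G) := by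
      rw [hS2c]
      have h := map_mono (f := (MulAut.conj m⁻¹).toMonoidHom) hmU
      rwa [SylowIn.map_conj_conj, inv_mul_cancel, SylowIn.map_conj_one] at h
    have e2 : LocalCore (S2 : Subgroup G) = LocalCore (S : Subgroup G) := by
      show normalizer _ = normalizer _
      rw [hS2c, zclosure_conj, SylowIn.normalizer_map_conj]
      exact Subgroup.mem_normalizer_iff_map_conj_eq.1 (le_normalizer (inv_mem hm))
    have hgt : t < Nat.card ↥((S2 : Subgroup G) ⊓ (S' : Subgroup G)) :=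
      lt_of_lt_of_le (hlt S' inf_le_right h2) (Subgroup.card_le_of_le (le_inf hUS2 inf_le_left))
    have hle := Subgroup.card_le_card_group ((S2 : Subgroup G) ⊓ (S' : Subgroup G))
    rw [← e2]
    exact (IH (k - (Nat.card ↥((S2 : Subgroup G) ⊓ (S' : Subgroup G)) - t)) (by omega) _ (by omega)).1
      S2 S' (by omega) rfl
  refine ⟨hQ, fun S X hX hX1 ht g hg => ?_⟩
  have hX2 : IsPGroup 2 X := S.2.to_le hX
  have hS : (S : Subgroup G) ≠ ⊥ := fun hb => hX1 (le_bot_iff.1 (hb ▸ hX))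
  set T0 := (S : Subgroup G) ⊓ normalizer (X : Set G) with hT0
  have hXT0 : X ≤ T0 := le_inf hX le_normalizer
  by_cases hSN : (S : Subgroup G) ≤ normalizer (X : Set G)
  · obtain ⟨c, hc, n, hn, rfl⟩ := bhat_factor_in hl hX2 hX1 ⟨hSN, S.2, fun V _ hV h => S.3 hV h⟩ hg
    exact mul_mem (centralizer_bhat_le_localCore hl S hS hc) (normalizer_je_le_zclosure _ hn)
  obtain ⟨T, hT, hT0T⟩ := SylowIn.exists_isSylowIn (p := 2) (normalizer (X : Set G)) inf_le_right
    (S.2.to_le inf_le_left : IsPGroup 2 T0)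
  by_cases hbig : T0 = T
  · obtain ⟨c, hc, n, hn, rfl⟩ := bhat_factor_in hl hX2 hX1 hT hg
    have hTS : T0 < (S : Subgroup G) := lt_of_le_of_ne inf_le_left fun h => hSN (h ▸ inf_le_right)
    have hT1 : T ≠ ⊥ := fun hb => hX1 (le_bot_iff.1 (hb ▸ hbig ▸ hXT0))
    have hlt : ∀ Y : Subgroup G, normalizer (T : Set G) ≤ normalizer (Y : Set G) →
        t < Nat.card ↥((S : Subgroup G) ⊓ normalizer (Y : Set G)) := fun Y hY =>
      ht ▸ lt_of_lt_of_le (lt_inf_normalizer S.2 hTS) (Subgroup.card_le_of_le (inf_le_inf_left _ (hbig ▸ hY)))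
    have hTle : T ≤ (S : Subgroup G) := hbig ▸ inf_le_left
    exact mul_mem (hIHP S (BHat T) (((bhat_le T).trans (jhat_le T)).trans hTle) (bhat_ne_bot hT.2.1 hT1)
        (hlt _ (le_normalizer_bhat T)) (centralizer_le_normalizer _ hc))
      (hIHP S (JE T) ((je_le T).trans hTle) (je_ne_bot hT.2.1 hT1) (hlt _ (normalizer_le_je T)) hn)
  obtain ⟨S', hS'⟩ := hT.2.1.exists_le_sylow
  have hgt : t < Nat.card ↥((S' : Subgroup G) ⊓ normalizer (X : Set G)) :=
    ht ▸ lt_of_lt_of_le (card_lt_of_lt (lt_of_le_of_ne hT0T hbig)) (Subgroup.card_le_of_le (le_inf hS' hT.1))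
  have hg' := hIHP S' X (hXT0.trans (hT0T.trans hS')) hX1 hgt hg
  have hge : t ≤ Nat.card ↥((S : Subgroup G) ⊓ (S' : Subgroup G)) :=
    ht ▸ Subgroup.card_le_of_le (le_inf inf_le_left (hT0T.trans hS'))
  have ht1 : 1 < t := by
    rw [← ht]
    exact lt_of_lt_of_le (Finite.one_lt_card_iff_nontrivial.2 ((Subgroup.nontrivial_iff_ne_bot X).2 hX1))
      (Subgroup.card_le_of_le hXT0)
  rcases eq_or_lt_of_le hge with heq | hlt
  · rwa [hQ S S' ht1 heq.symm]
  · have hle := Subgroup.card_le_card_group ((S : Subgroup G) ⊓ (S' : Subgroup G))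
    rw [(IH (k - (Nat.card ↥((S : Subgroup G) ⊓ (S' : Subgroup G)) - t)) (by omega) _ (by omega)).1 S S'
      (by omega) rfl]
    exact hg'

/-- Normalisers of nontrivial subgroups of `S` lie in `LocalCore S`. -/
theorem normalizer_le_localCore (hl : GoodLocals G) (S : Sylow 2 G) {X : Subgroup G} (hX : X ≤ (S : Subgroup G))
    (hX1 : X ≠ ⊥) : normalizer (X : Set G) ≤ LocalCore (S : Subgroup G) :=
  (localCore_ind hl (Nat.card G) _ (Nat.le_add_left _ _)).2 S X hX hX1 rfl

end CfsgLib.LocalEven.TwoFactor
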