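import Cfsg.Agent.Lib.LocalEven.TwoFactor.LeCore
import Cfsg.Agent.Lib.FusionSystem.Group

/-!
The central step: `J(S)` centralises the normal closure of a strong normal subgroup of `O₂(G)`.
-/

set_option autoImplicit false
set_option linter.style.haveILetI false
set_option linter.unusedSectionVars false

namespace CfsgLib.LocalEven.TwoFactor

open Subgroup CfsgLib.Solvable
open CfsgLib.Fusion (Thompson.isEA_map Thompson.isEA_le Thompson.isPGroup_isEA)
open scoped commutatorElement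

universe u

variable {G : Type u} [Group G] [Finite G]

theorem isSylowIn_top (S : Sylow 2 G) : SylowIn.IsSylowIn 2 (S : Subgroup G) ⊤ :=
  ⟨le_top, S.2, fun _ _ hU h => S.3 hU h⟩

/-- Frattini argument for a normal subgroup and the trace of a Sylow subgroup. -/
theorem frattini_inf (S : Sylow 2 G) (R : Subgroup G) [R.Normal] (g : G) :
    ∃ r ∈ R, ∃ n ∈ normalizer (((S : Subgroup G) ⊓ R : Subgroup G) : Set G), g = r * n := by
  haveI : Fact (Nat.Prime 2) := ⟨Nat.prime_two⟩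
  obtain ⟨r, hr, n, hn, e⟩ := SylowIn.frattini_argument (H := ⊤)
    (CfsgLib.Fsys.isSylowIn_inf (N := R) (isSylowIn_top S) le_top (by rw [normalizer_eq_top]))
    (by rw [normalizer_eq_top]) le_top (mem_top g)
  exact ⟨r, hr, n, hn.2, e⟩

/-- A normal subgroup supplemented by a 2-group contains `O²`. -/
theorem residual_le {R : Subgroup G} [R.Normal] {S : Subgroup G} (hS : IsPGroup 2 S) (h : R ⊔ S = ⊤) :
    Cfsg.pResidual 2 G ≤ R :=
  (closure_le _).2 fun _ hk => mem_of_odd hS h (Nat.coprime_two_right.1 hk)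

theorem residual_le' {U : Subgroup G} (h : ∀ k : G, Odd (orderOf k) → k ∈ U) : Cfsg.pResidual 2 G ≤ U :=
  (closure_le _).2 fun k hk => h k (Nat.coprime_two_right.1 hk)

/-- An element of odd order with a `2`-power in a subgroup lies in it. -/
theorem mem_of_pow_two {C : Subgroup G} {x : G} (hx : Odd (orderOf x)) {i : ℕ} (h : x ^ 2 ^ i ∈ C) :
    x ∈ C := by
  obtain ⟨m, hm⟩ := exists_pow_eq_self_of_coprime (x := x) ((Nat.coprime_two_left.2 hx).pow_left i)
  rw [← hm]; exact pow_mem h m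

theorem commute_of_odd {N : Subgroup G} (hN : IsPGroup 2 N) {a k : G} (ha : Odd (orderOf a))
    (haN : a ∈ centralizer (N : Set G)) (hk : ⁅a, k⁆ ∈ N) : Commute a k := by
  haveI : Fact (Nat.Prime 2) := ⟨Nat.prime_two⟩
  refine CfsgLib.Coprime.commute_of_stabilizes ?_ haN hk
  obtain ⟨n, hn⟩ := IsPGroup.iff_card.1 hN
  rw [hn]; exact (Nat.coprime_two_right.2 ha).pow_right n

theorem arith_layers {e e0 e1 y c : ℕ} (he0 : e0 ≤ e) (hpos : 0 < c) (hy : 0 < y)
    (h4 : e ^ 4 * c ≤ y * e0 ^ 4) (hmax : y * e1 ≤ e * c) (hs : e0 ^ 3 < e ^ 2 * e1) : False := by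
  have h : e ^ 3 * e1 ≤ e0 ^ 4 := by
    rcases Nat.eq_zero_or_pos e with rfl | he
    · simp
    refine Nat.le_of_mul_le_mul_right ?_ (Nat.mul_pos (Nat.mul_pos he hpos) hy)
    calc e ^ 3 * e1 * (e * c * y) = (e ^ 4 * c) * (y * e1) := by ring
      _ ≤ (y * e0 ^ 4) * (e * c) := Nat.mul_le_mul h4 hmax
      _ = _ := by ring
  have he : 0 < e ^ 3 * e1 := by
    rcases Nat.eq_zero_or_pos e with rfl | he
    · simp at hs
    rcases Nat.eq_zero_or_pos e1 with rfl | he1
    · simp at hs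
    positivity
  have := Nat.mul_lt_mul_of_le_of_lt h hs (he.trans_le h)
  have h2 : e0 ^ 4 * (e ^ 2 * e1) ≤ e ^ 3 * e1 * e0 ^ 3 := by
    calc e0 ^ 4 * (e ^ 2 * e1) = e0 * (e ^ 2 * e1 * e0 ^ 3) := by ring
      _ ≤ e * (e ^ 2 * e1 * e0 ^ 3) := Nat.mul_le_mul_right _ he0
      _ = _ := by ring
  omega

theorem arith_final {e e0 e1 y c f r : ℕ} (he : 0 < e) (hy : 0 < y) (hc : 0 < c) (hf : 0 < f)
    (hmax : y * e1 ≤ e * c) (hs : e0 ^ 3 < e ^ 2 * e1)
    (hF : c * c ≤ y * f) (hr : r ^ 3 * f ^ 2 < y ^ 2) (hcost : e ^ 2 ≤ r * e1 * e0) : False := by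
  have he1 : 0 < e1 := by
    rcases Nat.eq_zero_or_pos e1 with rfl | h
    · simp at hs
    · exact h
  have A : r ^ 3 * c ^ 4 < y ^ 4 := by
    calc r ^ 3 * c ^ 4 = r ^ 3 * (c * c) ^ 2 := by ring
      _ ≤ r ^ 3 * (y * f) ^ 2 := Nat.mul_le_mul_left _ (Nat.pow_le_pow_left hF 2)
      _ = y ^ 2 * (r ^ 3 * f ^ 2) := by ring
      _ < y ^ 2 * y ^ 2 := Nat.mul_lt_mul_of_pos_left hr (pow_pos hy 2)
      _ = _ := by ring
  have B : r ^ 3 * e1 ^ 4 < e ^ 4 := by
    refine Nat.lt_of_mul_lt_mul_right (a := c ^ 4) ?_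
    calc r ^ 3 * e1 ^ 4 * c ^ 4 = (r ^ 3 * c ^ 4) * e1 ^ 4 := by ring
      _ < y ^ 4 * e1 ^ 4 := Nat.mul_lt_mul_of_pos_right A (pow_pos he1 4)
      _ = (y * e1) ^ 4 := by ring
      _ ≤ (e * c) ^ 4 := Nat.pow_le_pow_left hmax 4
      _ = _ := by ring
  have C : e ^ 6 * e1 ≤ e ^ 4 * e0 ^ 3 := by
    calc e ^ 6 * e1 = (e ^ 2) ^ 3 * e1 := by ring
      _ ≤ (r * e1 * e0) ^ 3 * e1 := Nat.mul_le_mul_right _ (Nat.pow_le_pow_left hcost 3)
      _ = (r ^ 3 * e1 ^ 4) * e0 ^ 3 := by ring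
      _ ≤ _ := Nat.mul_le_mul_right _ B.le
  have D : e ^ 4 * e0 ^ 3 < e ^ 6 * e1 := by
    calc e ^ 4 * e0 ^ 3 < e ^ 4 * (e ^ 2 * e1) := Nat.mul_lt_mul_of_pos_left hs (pow_pos he 4)
      _ = _ := by ring
  omega

/-- Conjugates of `V` under a proper overgroup of `S`. -/
theorem conj_of_ind {S V B J : Subgroup G} (hVB : V ≤ B)
    (IND : ∀ H : Subgroup G, S ≤ H → H ≠ ⊤ → ∀ h ∈ H, ∃ c ∈ centralizer (B : Set G),
      ∃ n ∈ normalizer (J : Set G), h = c * n)
    {H : Subgroup G} (hSH : S ≤ H) (hH : H ≠ ⊤) {h : G} (hh : h ∈ H) :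
    ∃ j ∈ normalizer (J : Set G), ∀ v ∈ V, h * v * h⁻¹ = j * v * j⁻¹ := by
  obtain ⟨c, hc, n, hn, e⟩ := IND H hSH hH h⁻¹ (inv_mem hh)
  refine ⟨n⁻¹, inv_mem hn, fun v hv => ?_⟩
  have e' : h = n⁻¹ * c⁻¹ := by rw [← inv_inv h, e, mul_inv_rev]
  have hv' : c⁻¹ * v * c = v := by rw [mul_assoc, mem_centralizer_iff.1 hc v (hVB hv), inv_mul_cancel_left]
  calc h * v * h⁻¹ = n⁻¹ * (c⁻¹ * v * c) * n := by rw [e']; group
    _ = _ := by rw [hv']; group

theorem main (hG : Good G) (hQC : centralizer (Cfsg.pCore 2 G : Set G) ≤ Cfsg.pCore 2 G) (S : Sylow 2 G)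
    {V B : Subgroup G} (hV : Cfsg.IsElementaryAbelian 2 V) (hVQ : V ≤ Cfsg.pCore 2 G)
    (hSV : (S : Subgroup G) ≤ normalizer (V : Set G)) (hs : Strong (Cfsg.pCore 2 G) V) (hVB : V ≤ B)
    (hJV : JE (S : Subgroup G) ≤ centralizer (V : Set G))
    (IND : ∀ H : Subgroup G, (S : Subgroup G) ≤ H → H ≠ ⊤ → ∀ h ∈ H, ∃ c ∈ centralizer (B : Set G),
      ∃ n ∈ normalizer (JE (S : Subgroup G) : Set G), h = c * n) :
    JE (S : Subgroup G) ≤ centralizer (normalClosure (V : Set G) : Set G) := by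
  haveI : Fact (Nat.Prime 2) := ⟨Nat.prime_two⟩
  set Q := Cfsg.pCore 2 G with hQdef
  haveI hQn : Q.Normal := Cores.pCore_normal 2
  have hQ2 : IsPGroup 2 Q := Cores.isPGroup_pCore 2
  have hQS : Q ≤ (S : Subgroup G) := Cores.pCore_le_sylow S
  set J := JE (S : Subgroup G) with hJ
  set Y := normalClosure (V : Set G) with hYdef
  haveI hYn : Y.Normal := normalClosure_normal
  set C := centralizer (Y : Set G)
  haveI : C.Normal := Subgroup.normal_centralizer
  -- generators of `Y`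
  have hgen : ∀ U : Subgroup G, (∀ g : G, ∀ v ∈ V, g * v * g⁻¹ ∈ U) → Y ≤ U := fun U hU => by
    rw [hYdef, normalClosure, closure_le]
    intro x hx
    obtain ⟨v, hv, hvx⟩ := Group.mem_conjugatesOfSet_iff.1 hx
    obtain ⟨g, rfl⟩ := isConj_iff.1 hvx
    exact hU g v hv
  have hVY : V ≤ Y := subset_normalClosure
  have hconjY : ∀ g : G, ∀ v ∈ V, g * v * g⁻¹ ∈ Y := fun g v hv => hYn.conj_mem v (hVY hv) g
  have hYQ : Y ≤ Q := hgen Q fun g v hv => hQn.conj_mem v (hVQ hv) g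
  have hcentY : ∀ x : G, (∀ g : G, ∀ v ∈ V, Commute x (g * v * g⁻¹)) → x ∈ C := fun x hx => by
    have hle : Y ≤ centralizer {x} := hgen _ fun g v hv => mem_centralizer_singleton_iff.2 (hx g v hv).eq.symm
    exact mem_centralizer_iff.2 fun y hy => mem_centralizer_singleton_iff.1 (hle hy)
  obtain ⟨hYe, hYs⟩ : Cfsg.IsElementaryAbelian 2 Y ∧ Strong Q Y := by
    set s : Set (Subgroup G) := Set.range fun g : G => V.map (MulAut.conj g).toMonoidHom
    have hgQ : ∀ g : G, g ∈ normalizer (Q : Set G) := fun g => by rw [normalizer_eq_top]; trivial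
    have hle : ∀ U ∈ s, U ≤ Q := by
      rintro _ ⟨g, rfl⟩ _ ⟨v, hv, rfl⟩; exact hQn.conj_mem v (hVQ hv) g
    have h1 : ∀ U ∈ s, Cfsg.IsElementaryAbelian 2 U ∧ Strong Q U := by
      rintro _ ⟨g, rfl⟩; exact ⟨Thompson.isEA_map _ hV, hs.conj (hgQ g)⟩
    obtain ⟨h2, h3⟩ := strong_sSup s h1 fun U hU W hW =>
      strong_commute (h1 W hW).2 (h1 U hU).2 (h1 W hW).1 (h1 U hU).1 (hle W hW) (hle U hU)
    have e : sSup s = Y := le_antisymm (sSup_le (by rintro _ ⟨g, rfl⟩ _ ⟨v, hv, rfl⟩; exact hconjY g v hv))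
      (hgen _ fun g v hv => le_sSup (show V.map (MulAut.conj g).toMonoidHom ∈ s from ⟨g, rfl⟩) ⟨v, hv, rfl⟩)
    exact e ▸ ⟨h2, h3⟩
  haveI := hYe.1
  by_contra hJY
  have hcommJ : ∀ j ∈ normalizer (J : Set G), ∀ v ∈ V, ∀ x ∈ J, Commute x (j * v * j⁻¹) := fun j hj v hv x hx => by
    have hx' : j⁻¹ * x * j ∈ J := (mem_normalizer_iff''.1 hj x).1 hx
    have h := mem_centralizer_iff.1 (hJV hx') v hv
    show x * (j * v * j⁻¹) = j * v * j⁻¹ * x
    calc x * (j * v * j⁻¹) = j * ((j⁻¹ * x * j) * v) * j⁻¹ := by group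
      _ = j * (v * (j⁻¹ * x * j)) * j⁻¹ := by rw [h]
      _ = _ := by group
  have hNne : ∀ T : Subgroup G, IsPGroup 2 T → ¬ T ≤ Q → normalizer (T : Set G) ≠ ⊤ := fun T hT hTQ h => by
    haveI := normalizer_eq_top_iff.1 h
    exact hTQ (Cores.le_pCore hT)
  have hSinf : ∀ R : Subgroup G, R.Normal → (S : Subgroup G) ≤ normalizer (((S : Subgroup G) ⊓ R : Subgroup G) : Set G) :=
    fun R hR s hs' => mem_normalizer_iff.2 fun x => by
      haveI := hR
      simp only [mem_inf]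
      exact and_congr (mem_normalizer_iff.1 (le_normalizer hs') x)
        ⟨fun h => hR.conj_mem x h s, fun h => by simpa [mul_assoc] using hR.conj_mem _ h s⁻¹⟩
  -- `C_S(Y) ≤ Q`
  have hSC : (S : Subgroup G) ⊓ C ≤ Q := by
    by_contra hT
    refine hJY fun x hx => hcentY x fun g v hv => ?_
    obtain ⟨r, hr, n, hn, rfl⟩ := frattini_inf S C g
    obtain ⟨j, hj, hjv⟩ := conj_of_ind hVB IND (hSinf C inferInstance)
      (hNne _ (S.2.to_le inf_le_left) hT) hn
    have e : r * n * v * (r * n)⁻¹ = n * v * n⁻¹ := by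
      have h := mem_centralizer_iff.1 hr (n * v * n⁻¹) (hconjY n v hv)
      calc r * n * v * (r * n)⁻¹ = r * (n * v * n⁻¹) * r⁻¹ := by group
        _ = _ := by rw [← h, mul_inv_cancel_right]
    rw [e, hjv v hv]
    exact hcommJ j hj v hv x hx
  -- normal subgroups not covering `G/S` meet `J` in `Q`
  have hfaith : ∀ R : Subgroup G, R.Normal → R ⊔ (S : Subgroup G) ≠ ⊤ → J ⊓ R ≤ Q := by
    intro R hR hRS
    haveI := hR
    by_cases hT : (S : Subgroup G) ⊓ R ≤ Q
    · exact (inf_le_inf_right _ (je_le _)).trans hT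
    have hR1 : ∀ x ∈ J ⊓ R, ∀ r ∈ R, ∀ v ∈ V, Commute (r * x * r⁻¹) v := by
      intro x hx r hr v hv
      obtain ⟨j, hj, hjv⟩ := conj_of_ind hVB IND le_sup_right hRS (mem_sup_left (inv_mem hr))
      have h := hcommJ j hj v hv x hx.1
      rw [← hjv v hv, inv_inv] at h
      show r * x * r⁻¹ * v = v * (r * x * r⁻¹)
      calc r * x * r⁻¹ * v = r * (x * (r⁻¹ * v * r)) * r⁻¹ := by group
        _ = r * ((r⁻¹ * v * r) * x) * r⁻¹ := by rw [h.eq]
        _ = _ := by group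
    intro x hx
    refine hSC (mem_inf.2 ⟨je_le _ hx.1, hcentY x fun g v hv => ?_⟩)
    obtain ⟨r, hr, n, hn, rfl⟩ := frattini_inf S R g
    obtain ⟨j, hj, hjv⟩ := conj_of_ind hVB IND (hSinf R hR) (hNne _ (S.2.to_le inf_le_left) hT) hn
    have h := hR1 (j⁻¹ * x * j) ⟨(mem_normalizer_iff''.1 hj x).1 hx.1, by
      simpa [mul_assoc] using hR.conj_mem x hx.2 j⁻¹⟩
      (j⁻¹ * r⁻¹ * j) (by simpa [mul_assoc] using hR.conj_mem _ (inv_mem hr) j⁻¹) v hv
    show x * (r * n * v * (r * n)⁻¹) = r * n * v * (r * n)⁻¹ * x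
    have e : r * n * v * (r * n)⁻¹ = r * (j * v * j⁻¹) * r⁻¹ := by rw [← hjv v hv]; group
    rw [e]
    calc x * (r * (j * v * j⁻¹) * r⁻¹)
        = r * j * ((j⁻¹ * r⁻¹ * j) * (j⁻¹ * x * j) * (j⁻¹ * r⁻¹ * j)⁻¹ * v) * j⁻¹ * r⁻¹ := by group
      _ = r * j * (v * ((j⁻¹ * r⁻¹ * j) * (j⁻¹ * x * j) * (j⁻¹ * r⁻¹ * j)⁻¹)) * j⁻¹ * r⁻¹ := by rw [h.eq]
      _ = _ := by group
  set K := Cfsg.pResidual 2 G with hKdef
  haveI hKn : K.Normal := CfsgLib.Fusion.Basic.pResidual_normal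
  set CK := centralizer (K : Set G) with hCK
  haveI : CK.Normal := Subgroup.normal_centralizer
  have hdec : ∀ g : G, ∃ w ∈ K, ∃ u ∈ (S : Subgroup G), g = w * u :=
    fun g => CfsgLib.Fusion.Basic.exists_eq_pResidual_mul S g
  have hVK : ¬ V ≤ CK := fun hle => hJY fun x hx => hcentY x fun g v hv => by
    obtain ⟨w, hw, u, hu, rfl⟩ := hdec g
    have hv' : u * v * u⁻¹ ∈ V := (mem_normalizer_iff.1 (hSV hu) v).1 hv
    rw [show w * u * v * (w * u)⁻¹ = w * (u * v * u⁻¹) * w⁻¹ by group,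
      mem_centralizer_iff.1 (hle hv') w hw, mul_inv_cancel_right]
    exact (mem_centralizer_iff.1 (hJV hx) _ hv').symm
  -- the maximal elementary abelian subgroup
  obtain ⟨E, hE, hEC⟩ : ∃ E, MaxEA (S : Subgroup G) E ∧ ¬ E ≤ C := by
    by_contra hcon
    push Not at hcon
    exact hJY (sSup_le fun E hE => hcon E hE)
  haveI := hE.2.1.1
  have hEJ : E ≤ J := le_sSup hE
  have hEV : E ≤ centralizer (V : Set G) := hEJ.trans hJV
  set E0 := E ⊓ Q with hE0
  set e := Nat.card E with hedef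
  set e0 := Nat.card E0 with he0def
  set e1 := Nat.card ↥(E ⊓ C) with he1def
  set y := Nat.card Y with hydef
  set c := Nat.card ↥(Y ⊓ centralizer (E : Set G)) with hcdef
  have hEC0 : E ⊓ C ≤ E0 := le_inf inf_le_left ((inf_le_inf_right _ hE.1).trans hSC)
  have hE0C : E0 ⊓ C = E ⊓ C := le_antisymm (inf_le_inf_right _ inf_le_left) (le_inf hEC0 inf_le_right)
  have hmax : y * e1 ≤ e * c := by
    rw [hydef, he1def, ← CfsgLib.Fusion.Thompson.card_sup_mul_card_inf
      (inf_le_right.trans (centralizer_le_normalizer _) : E ⊓ C ≤ normalizer (Y : Set G))]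
    refine Nat.mul_le_mul (hE.2.2 _ (sup_le (hYQ.trans hQS) (inf_le_left.trans hE.1))
      (elementary_sup hYe (Thompson.isEA_le hE.2.1 inf_le_left) (le_centralizer_iff.1 inf_le_right)))
      (Subgroup.card_le_of_le (le_inf inf_le_left fun x hx => mem_centralizer_iff.2 fun z hz =>
        setLike_mul_comm hz hx.2.1))
  have hlayer : ∀ {H : Type u} [Group H] [Finite H] (f : G →* H), Function.Surjective f →
      ∀ (N : Subgroup H) [N.Normal], Cfsg.IsElementaryAbelian 2 N →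
      (∃ k : G, Odd (orderOf k) ∧ f k ∉ centralizer (N : Set H)) →
      e ^ 2 * Nat.card ↥(N ⊓ centralizer (E.map f : Set H)) ≤ Nat.card N * e0 ^ 2 := by
    intro H _ _ f hf N _ hN ⟨k, hk, hkN⟩
    obtain ⟨M, hMn, hM, hb⟩ := cost _ (hG.of_surjective f hf) N rfl hN (E.map f) (Thompson.isEA_map f hE.2.1)
    haveI := hMn
    haveI : (M.comap f).Normal := hMn.comap f
    have hMS : M.comap f ⊔ (S : Subgroup G) ≠ ⊤ := fun htop => by
      obtain ⟨i, hi⟩ := hM (f k) (residual_le S.2 htop (CfsgLib.Fusion.Basic.mem_pResidual_of_coprime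
        (Nat.coprime_two_right.2 hk)))
      exact hkN (mem_of_pow_two (hk.of_dvd_nat (orderOf_map_dvd f k)) hi)
    have hle : E ⊓ M.comap f ≤ E0 := le_inf inf_le_left
      ((inf_le_inf_right _ hEJ).trans (hfaith _ inferInstance hMS))
    have h1 := card_map_mul_inf f E
    have h2 := card_map_mul_inf f (E ⊓ M.comap f)
    rw [show (E ⊓ M.comap f).map f = E.map f ⊓ M by
      ext z
      constructor
      · rintro ⟨x, ⟨hx1, hx2⟩, rfl⟩; exact mem_inf.2 ⟨⟨x, hx1, rfl⟩, hx2⟩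
      · rintro ⟨⟨x, hx, rfl⟩, hz⟩; exact ⟨x, mem_inf.2 ⟨hx, hz⟩, rfl⟩,
      inf_assoc, inf_eq_right.2 (MonoidHom.ker_le_comap _ _)] at h2
    set k0 := Nat.card ↥(E ⊓ f.ker)
    calc e ^ 2 * Nat.card ↥(N ⊓ centralizer (E.map f : Set H))
        = (Nat.card (E.map f) ^ 2 * Nat.card ↥(N ⊓ centralizer (E.map f : Set H))) * k0 ^ 2 := by
          rw [hedef, ← h1]; ring
      _ ≤ (Nat.card N * Nat.card ↥(E.map f ⊓ M) ^ 2) * k0 ^ 2 := Nat.mul_le_mul_right _ hb
      _ = Nat.card N * (Nat.card ↥(E.map f ⊓ M) * k0) ^ 2 := by ring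
      _ ≤ _ := Nat.mul_le_mul_left _ (Nat.pow_le_pow_left (h2 ▸ Subgroup.card_le_of_le hle) 2)
  have hodd : ∃ k : G, Odd (orderOf k) ∧ k ∉ C := by
    by_contra hcon
    push Not at hcon
    have hKC : K ≤ C := residual_le' hcon
    exact hVK (le_centralizer_iff.1 (hKC.trans (centralizer_le (by exact_mod_cast hVY))))
  have hcost : e ^ 2 * c ≤ y * e0 ^ 2 := by
    obtain ⟨k, hk, hkC⟩ := hodd
    have := hlayer (MonoidHom.id G) Function.surjective_id Y hYe ⟨k, hk, hkC⟩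
    rwa [Subgroup.map_id] at this
  have hpos : ∀ H : Subgroup G, 0 < Nat.card H := fun H => Nat.card_pos
  have he1 : e1 < e := lt_of_le_of_ne (Subgroup.card_le_of_le inf_le_left) fun h =>
    hEC (inf_eq_left.1 (Subgroup.eq_of_le_of_card_ge inf_le_left h.ge))
  have hE0C' : ¬ E0 ≤ C := by
    intro hle
    have h0 : e0 = e1 := le_antisymm (Subgroup.card_le_of_le (le_inf inf_le_left hle)) (Subgroup.card_le_of_le hEC0)
    rw [h0] at hcost
    have : e * (e * c) ≤ e1 * (e * c) := by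
      calc e * (e * c) = e ^ 2 * c := by ring
        _ ≤ y * e1 ^ 2 := hcost
        _ = (y * e1) * e1 := by ring
        _ ≤ (e * c) * e1 := Nat.mul_le_mul_right _ hmax
        _ = _ := by ring
    exact absurd (Nat.le_of_mul_le_mul_right this (Nat.mul_pos (hpos E) (hpos _))) he1.not_ge
  have hstrong : e0 ^ 3 < e ^ 2 * e1 := by
    have h := hYs E0 inf_le_right (acts_of_elementary (Thompson.isEA_le hE.2.1 inf_le_left) hE0C')
    have h' : e0 ^ 3 * c ^ 2 < y ^ 2 * e1 ^ 3 := by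
      refine lt_of_le_of_lt (Nat.mul_le_mul_left _ (Nat.pow_le_pow_left (Subgroup.card_le_of_le
        (inf_le_inf_left _ (centralizer_le (by exact_mod_cast (inf_le_left : E0 ≤ E))))) 2)) (h.trans_eq ?_)
      rw [hE0C]
    refine Nat.lt_of_mul_lt_mul_right (a := c ^ 2) (h'.trans_le ?_)
    calc y ^ 2 * e1 ^ 3 = (y * e1) ^ 2 * e1 := by ring
      _ ≤ (e * c) ^ 2 * e1 := Nat.mul_le_mul_right _ (Nat.pow_le_pow_left hmax 2)
      _ = _ := by ring
  -- the subgroups `C₁` and `W`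
  set C1 := Y ⊓ CK with hC1
  set W := ⁅Y, K⁆ with hWdef
  have hWY : W ≤ Y := commutator_le_left Y K
  haveI hWn : W.Normal := inferInstance
  set q := QuotientGroup.mk' C1 with hq
  have hqs : Function.Surjective q := QuotientGroup.mk'_surjective C1
  set Wb := W.map q with hWb
  haveI : Wb.Normal := Normal.map inferInstance q hqs
  haveI : (Q.map q).Normal := Normal.map inferInstance q hqs
  have hWQ : Wb ≤ centralizer (Q.map q : Set (G ⧸ C1)) := by
    by_contra hWQ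
    haveI : (centralizer (Q.map q : Set (G ⧸ C1))).Normal := Subgroup.normal_centralizer
    set Y1 := Wb ⊓ centralizer (Q.map q : Set (G ⧸ C1)) with hY1
    have hWbe : Cfsg.IsElementaryAbelian 2 Wb := Thompson.isEA_map q (Thompson.isEA_le hYe hWY)
    have hY1ne : Y1 ≠ ⊥ := by
      have hne : Wb ≠ ⊥ := fun h => hWQ (h ▸ bot_le)
      obtain ⟨z, hz, hz1⟩ := Large.exists_fixed (hQ2.map q) (Thompson.isPGroup_isEA hWbe) hne
        (by rw [normalizer_eq_top]; exact le_top)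
      exact fun h => hz1 (mem_bot.1 (h ▸ hz))
    have ha : ∃ k : G, Odd (orderOf k) ∧ q k ∉ centralizer (Y1 : Set (G ⧸ C1)) := by
      by_contra hcon
      push Not at hcon
      refine hY1ne ((Subgroup.eq_bot_iff_forall _).2 fun z hz => ?_)
      obtain ⟨w, hw, rfl⟩ := hz.1
      refine (QuotientGroup.eq_one_iff w).2 (mem_inf.2 ⟨hWY hw, ?_⟩)
      have hle : K ≤ centralizer {w} := residual_le' fun k hk => by
        refine mem_centralizer_singleton_iff.2 (commute_of_odd (N := C1) (hQ2.to_le (inf_le_left.trans hYQ)) hk ?_ ?_).eq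
        · refine mem_centralizer_iff.2 fun d hd => ?_
          exact (mem_centralizer_iff.1 hd.2 k (CfsgLib.Fusion.Basic.mem_pResidual_of_coprime
            (Nat.coprime_two_right.2 hk))).symm
        · refine (QuotientGroup.eq_one_iff _).1 ?_
          show q ⁅k, w⁆ = 1
          rw [map_commutatorElement, commutatorElement_eq_one_iff_mul_comm]
          exact (mem_centralizer_iff.1 (hcon k hk) _ hz).symm
      exact mem_centralizer_iff.2 fun k hk => mem_centralizer_singleton_iff.1 (hle hk)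
    haveI : Y1.Normal := inferInstance
    set q2 := QuotientGroup.mk' Y1 with hq2
    have hq2s : Function.Surjective q2 := QuotientGroup.mk'_surjective Y1
    haveI : (Wb.map q2).Normal := Normal.map inferInstance q2 hq2s
    have hb : ∃ k : G, Odd (orderOf k) ∧ q2 (q k) ∉ centralizer (Wb.map q2 : Set _) := by
      by_contra hcon
      push Not at hcon
      have hall : ∀ k : G, Odd (orderOf k) → ∀ z ∈ Y, Commute (q2 (q k)) (q2 (q z)) := fun k hk z hz => by
        refine commute_of_odd (N := Wb.map q2) ((Thompson.isPGroup_isEA hWbe).map q2)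
          (hk.of_dvd_nat ((orderOf_map_dvd q2 _).trans (orderOf_map_dvd q k))) (hcon k hk) ?_
        rw [← map_commutatorElement, ← map_commutatorElement]
        refine ⟨_, ⟨⁅k, z⁆, ?_, rfl⟩, rfl⟩
        rw [hWdef, commutator_comm]
        exact commutator_mem_commutator (CfsgLib.Fusion.Basic.mem_pResidual_of_coprime
          (Nat.coprime_two_right.2 hk)) hz
      have hKle : K ≤ (centralizer ((Y.map q).map q2 : Set _)).comap (q2.comp q) := residual_le' fun k hk => by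
        refine mem_centralizer_iff.2 ?_
        rintro _ ⟨_, ⟨z, hz, rfl⟩, rfl⟩
        exact (hall k hk z hz).symm.eq
      have hW1 : Wb ≤ Y1 := by
        rw [hWb, map_le_iff_le_comap, hWdef, commutator_le]
        intro z hz k hk
        refine (QuotientGroup.eq_one_iff (N := Y1) (q ⁅z, k⁆)).1 ?_
        show q2 (q ⁅z, k⁆) = 1
        rw [map_commutatorElement, map_commutatorElement, commutatorElement_eq_one_iff_mul_comm]
        exact mem_centralizer_iff.1 (hKle hk) _ ⟨_, ⟨z, hz, rfl⟩, rfl⟩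
      exact hWQ (hW1.trans inf_le_right)
    have hA := hlayer q hqs Y1 (Thompson.isEA_le hWbe inf_le_left) ha
    have hB := hlayer (q2.comp q) (hq2s.comp hqs) (Wb.map q2) (Thompson.isEA_map q2 hWbe) hb
    rw [← Subgroup.map_map] at hB
    set cW := Nat.card ↥(Wb ⊓ centralizer (E.map q : Set (G ⧸ C1)))
    set c1 := Nat.card ↥(Y1 ⊓ centralizer (E.map q : Set (G ⧸ C1)))
    set c2 := Nat.card ↥(Wb.map q2 ⊓ centralizer ((E.map q).map q2 : Set ((G ⧸ C1) ⧸ Y1)))
    have hcW : cW ≤ c1 * c2 := by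
      have h := card_map_mul_inf q2 (Wb ⊓ centralizer (E.map q : Set (G ⧸ C1)))
      rw [QuotientGroup.ker_mk'] at h
      rw [show cW = _ from h.symm, mul_comm c1]
      refine Nat.mul_le_mul (Subgroup.card_le_of_le ?_) (Subgroup.card_le_of_le
        (le_inf inf_le_right (inf_le_left.trans inf_le_right)))
      rintro _ ⟨x, hx, rfl⟩
      refine mem_inf.2 ⟨⟨x, hx.1, rfl⟩, mem_centralizer_iff.2 ?_⟩
      rintro _ ⟨a, ha', rfl⟩
      rw [← map_mul, ← map_mul, mem_centralizer_iff.1 hx.2 a ha']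
    have hWc : Nat.card Wb = Nat.card (Wb.map q2) * Nat.card Y1 := by
      have h := card_map_mul_inf q2 Wb
      rw [QuotientGroup.ker_mk', inf_eq_right.2 (inf_le_left : Y1 ≤ Wb)] at h
      exact h.symm
    have hWy : Nat.card Wb * c ≤ y * cW := by
      have h1 : Nat.card W * c ≤ y * Nat.card ↥(W ⊓ centralizer (E : Set G)) :=
        (card_mul_le hYe.1 hWY inf_le_left).trans (Nat.mul_le_mul_left _
          (Subgroup.card_le_of_le (inf_le_inf_left _ inf_le_right)))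
      have h2 := card_map_mul_inf q W
      have h3 := card_map_mul_inf q (W ⊓ centralizer (E : Set G))
      have h4 : Nat.card ↥(W ⊓ centralizer (E : Set G)) ≤ cW * Nat.card ↥(W ⊓ q.ker) := by
        rw [← h3]
        refine Nat.mul_le_mul (Subgroup.card_le_of_le ?_) (Subgroup.card_le_of_le (inf_le_inf_right _ inf_le_left))
        rintro _ ⟨x, hx, rfl⟩
        refine mem_inf.2 ⟨⟨x, hx.1, rfl⟩, mem_centralizer_iff.2 ?_⟩
        rintro _ ⟨a, ha', rfl⟩
        rw [← map_mul, ← map_mul, mem_centralizer_iff.1 hx.2 a ha']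
      refine Nat.le_of_mul_le_mul_right ?_ (Nat.card_pos : 0 < Nat.card ↥(W ⊓ q.ker))
      calc Nat.card Wb * c * Nat.card ↥(W ⊓ q.ker) = (Nat.card Wb * Nat.card ↥(W ⊓ q.ker)) * c := by ring
        _ = Nat.card W * c := by rw [hWb, h2]
        _ ≤ y * (cW * Nat.card ↥(W ⊓ q.ker)) := h1.trans (Nat.mul_le_mul_left _ h4)
        _ = _ := by ring
    refine arith_layers (Subgroup.card_le_of_le inf_le_left) (hpos (Y ⊓ centralizer (E : Set G))) (hpos Y) ?_ hmax hstrong
    refine Nat.le_of_mul_le_mul_right ?_ (Nat.card_pos : 0 < cW)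
    calc e ^ 4 * c * cW ≤ e ^ 4 * c * (c1 * c2) := Nat.mul_le_mul_left _ hcW
      _ = c * ((e ^ 2 * c1) * (e ^ 2 * c2)) := by ring
      _ ≤ c * ((Nat.card Y1 * e0 ^ 2) * (Nat.card (Wb.map q2) * e0 ^ 2)) :=
        Nat.mul_le_mul_left _ (Nat.mul_le_mul hA hB)
      _ = (Nat.card Wb * c) * e0 ^ 4 := by rw [hWc]; ring
      _ ≤ (y * cW) * e0 ^ 4 := Nat.mul_le_mul_right _ hWy
      _ = _ := by ring
  -- the subgroup `D`
  set D := V ⊓ CK with hDdef
  haveI hDn : D.Normal := ⟨fun d hd g => by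
    obtain ⟨w, hw, u, hu, rfl⟩ := hdec g
    have h1 : u * d * u⁻¹ ∈ V ⊓ CK :=
      mem_inf.2 ⟨(mem_normalizer_iff.1 (hSV hu) d).1 hd.1, (inferInstance : CK.Normal).conj_mem d hd.2 u⟩
    rw [show w * u * d * (w * u)⁻¹ = w * (u * d * u⁻¹) * w⁻¹ by group,
      mem_centralizer_iff.1 h1.2 w hw, mul_inv_cancel_right]
    exact h1⟩
  haveI : (centralizer (D : Set G)).Normal := Subgroup.normal_centralizer
  set qD := QuotientGroup.mk' D
  haveI : (Y.map qD).Normal := Normal.map inferInstance qD (QuotientGroup.mk'_surjective D)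
  haveI : (centralizer (Y.map qD : Set (G ⧸ D))).Normal := Subgroup.normal_centralizer
  haveI : ((centralizer (Y.map qD : Set (G ⧸ D))).comap qD).Normal := Normal.comap inferInstance qD
  set N := Q ⊓ (centralizer (Y.map qD : Set (G ⧸ D))).comap qD ⊓ centralizer (D : Set G) with hNdef
  have hNY : ∀ x ∈ N, ∀ z ∈ Y, ⁅x, z⁆ ∈ D := fun x hx z hz => (QuotientGroup.eq_one_iff _).1 (by
    show qD ⁅x, z⁆ = 1
    rw [map_commutatorElement, commutatorElement_eq_one_iff_mul_comm]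
    exact (mem_centralizer_iff.1 hx.1.2 (qD z) ⟨z, hz, rfl⟩).symm)
  have hE0N : E0 ≤ N := by
    intro x hx
    haveI : (Y.map q).Normal := Normal.map inferInstance q hqs
    haveI : (centralizer (Y.map q : Set (G ⧸ C1))).Normal := Subgroup.normal_centralizer
    have hqx : q x ∈ centralizer (Y.map q : Set (G ⧸ C1)) := by
      have hle : Y ≤ (centralizer {q x}).comap q := hgen _ fun g v hv => by
        obtain ⟨w, hw, u, hu, rfl⟩ := hdec g
        set v' := u * v * u⁻¹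
        have hv' : v' ∈ V := (mem_normalizer_iff.1 (hSV hu) v).1 hv
        rw [show w * u * v * (w * u)⁻¹ = ⁅w, v'⁆ * v' by simp only [v', commutatorElement_def]; group]
        refine mul_mem (mem_centralizer_singleton_iff.2 ?_) (mem_centralizer_singleton_iff.2 ?_)
        · refine (mem_centralizer_iff.1 (hWQ ⟨_, ?_, rfl⟩) (q x) ⟨x, hx.2, rfl⟩).symm
          show ⁅w, v'⁆ ∈ W
          rw [hWdef, commutator_comm]
          exact commutator_mem_commutator hw (hVY hv')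
        · rw [← map_mul, ← map_mul, mem_centralizer_iff.1 (hEV hx.1) v' hv']
      refine mem_centralizer_iff.2 ?_
      rintro _ ⟨z, hz, rfl⟩
      exact mem_centralizer_singleton_iff.1 (hle hz)
    have hxD : x ∈ centralizer (D : Set G) := centralizer_le (by exact_mod_cast (inf_le_left : D ≤ V)) (hEV hx.1)
    refine mem_inf.2 ⟨mem_inf.2 ⟨hx.2, ?_⟩, hxD⟩
    show qD x ∈ centralizer (Y.map qD : Set (G ⧸ D))
    have hle : Y ≤ (centralizer {qD x}).comap qD := hgen _ fun g v hv => by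
      refine mem_centralizer_singleton_iff.2 ?_
      set x' := g⁻¹ * x * g
      have hx'Q : x' ∈ Q := by simpa [x', mul_assoc] using hQn.conj_mem x hx.2 g⁻¹
      have hqx' : q x' ∈ centralizer (Y.map q : Set (G ⧸ C1)) := by
        have := (inferInstance : (centralizer (Y.map q : Set (G ⧸ C1))).Normal).conj_mem _ hqx (q g)⁻¹
        rw [inv_inv, ← map_inv, ← map_mul, ← map_mul] at this
        exact this
      have h1 : ⁅v, x'⁆ ∈ D := by
        refine mem_inf.2 ⟨?_, ((QuotientGroup.eq_one_iff _).1 (show q ⁅v, x'⁆ = 1 from ?_)).2⟩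
        · rw [commutatorElement_def, show v * x' * v⁻¹ * x'⁻¹ = v * (x' * v⁻¹ * x'⁻¹) by group]
          exact mul_mem hv ((mem_normalizer_iff.1 (hSV (hQS hx'Q)) _).1 (inv_mem hv))
        · rw [map_commutatorElement, commutatorElement_eq_one_iff_mul_comm]
          exact mem_centralizer_iff.1 hqx' (q v) ⟨v, hVY hv, rfl⟩
      have h2 := hDn.conj_mem _ h1 g
      rw [show g * ⁅v, x'⁆ * g⁻¹ = ⁅g * v * g⁻¹, x⁆ by simp only [x', commutatorElement_def]; group] at h2
      rw [← commutatorElement_eq_one_iff_mul_comm, ← map_commutatorElement]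
      exact (QuotientGroup.eq_one_iff _).2 h2
    refine mem_centralizer_iff.2 ?_
    rintro _ ⟨z, hz, rfl⟩
    exact mem_centralizer_singleton_iff.1 (hle hz)
  have hcommN : ∀ a ∈ N, ∀ b ∈ N, ⁅a, b⁆ ∈ C ∧ a ^ 2 ∈ C := by
    haveI := hV.1
    intro a ha b hb
    have hval : ∀ x ∈ N, ∀ z ∈ Y, ∃ d ∈ D, x * z * x⁻¹ = d * z := fun x hx z hz =>
      ⟨_, hNY x hx z hz, by rw [commutatorElement_def]; group⟩
    have hfix : ∀ x ∈ N, ∀ d ∈ D, x * d * x⁻¹ = d := fun x hx d hd => by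
      rw [← mem_centralizer_iff.1 hx.2 d hd, mul_inv_cancel_right]
    have hswap : ∀ z ∈ Y, (a * b) * z * (a * b)⁻¹ = (b * a) * z * (b * a)⁻¹ := fun z hz => by
      obtain ⟨d, hd, hda⟩ := hval a ha z hz
      obtain ⟨d', hd', hdb⟩ := hval b hb z hz
      calc (a * b) * z * (a * b)⁻¹ = a * (b * z * b⁻¹) * a⁻¹ := by group
        _ = a * (d' * z) * a⁻¹ := by rw [hdb]
        _ = (a * d' * a⁻¹) * (a * z * a⁻¹) := by group
        _ = d' * (d * z) := by rw [hfix a ha d' hd', hda]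
        _ = d * (d' * z) := by rw [← mul_assoc, setLike_mul_comm (s := V) hd'.1 hd.1, mul_assoc]
        _ = (b * d * b⁻¹) * (b * z * b⁻¹) := by rw [hfix b hb d hd, hdb]
        _ = b * (d * z) * b⁻¹ := by group
        _ = b * (a * z * a⁻¹) * b⁻¹ := by rw [hda]
        _ = _ := by group
    refine ⟨mem_centralizer_iff.2 fun z hz => ?_, mem_centralizer_iff.2 fun z hz => ?_⟩
    · refine (mul_inv_eq_iff_eq_mul.1 ?_).symm
      have hz' : (b * a)⁻¹ * z * (b * a) ∈ Y := by simpa [mul_assoc] using hYn.conj_mem z hz (b * a)⁻¹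
      calc ⁅a, b⁆ * z * ⁅a, b⁆⁻¹ = (a * b) * ((b * a)⁻¹ * z * (b * a)) * (a * b)⁻¹ := by
            rw [commutatorElement_def]; group
        _ = (b * a) * ((b * a)⁻¹ * z * (b * a)) * (b * a)⁻¹ := hswap _ hz'
        _ = z := by group
    · obtain ⟨d, hd, hda⟩ := hval a ha z hz
      refine (mul_inv_eq_iff_eq_mul.1 ?_).symm
      calc a ^ 2 * z * (a ^ 2)⁻¹ = a * (a * z * a⁻¹) * a⁻¹ := by rw [pow_two]; group
        _ = a * (d * z) * a⁻¹ := by rw [hda]
        _ = (a * d * a⁻¹) * (a * z * a⁻¹) := by group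
        _ = d ^ 2 * z := by rw [hfix a ha d hd, hda, pow_two, mul_assoc]
        _ = z := by rw [hV.2 d hd.1, one_mul]
  set Z := N ⊓ C with hZ
  set p := QuotientGroup.mk' Z with hp
  have hps : Function.Surjective p := QuotientGroup.mk'_surjective Z
  set Nb := N.map p with hNb
  haveI : Nb.Normal := Normal.map inferInstance p hps
  have hNe : Cfsg.IsElementaryAbelian 2 Nb := by
    refine ⟨⟨⟨?_⟩⟩, ?_⟩
    · rintro ⟨_, a, ha, rfl⟩ ⟨_, b, hb, rfl⟩
      refine Subtype.ext ?_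
      show p a * p b = p b * p a
      rw [← commutatorElement_eq_one_iff_mul_comm, ← map_commutatorElement]
      exact (QuotientGroup.eq_one_iff _).2 (mem_inf.2
        ⟨mul_mem (mul_mem (mul_mem ha hb) (inv_mem ha)) (inv_mem hb), (hcommN a ha b hb).1⟩)
    · rintro _ ⟨a, ha, rfl⟩
      rw [← map_pow]
      exact (QuotientGroup.eq_one_iff _).2 (mem_inf.2 ⟨pow_mem ha 2, (hcommN a ha a ha).2⟩)
  haveI := hNe.1
  set Cn := centralizer (Nb : Set (G ⧸ Z)) with hCn
  haveI : Cn.Normal := Subgroup.normal_centralizer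
  set p3 := QuotientGroup.mk' Cn
  set P3 := Cfsg.pCore 2 ((G ⧸ Z) ⧸ Cn) with hP3
  haveI : P3.Normal := Cores.pCore_normal 2
  set π0 := (QuotientGroup.mk' P3).comp p3 with hπ0
  set π := π0.comp p with hπ
  have hπs : Function.Surjective π :=
    ((QuotientGroup.mk'_surjective P3).comp (QuotientGroup.mk'_surjective Cn)).comp hps
  have hR3S : π.ker ⊔ (S : Subgroup G) ≠ ⊤ := fun htop => by
    haveI : π.ker.Normal := MonoidHom.normal_ker π
    have hK : K ≤ Cn.comap p := residual_le' fun k hk => by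
      have h1 : p3 (p k) ∈ P3 := (QuotientGroup.eq_one_iff _).1
        (residual_le S.2 htop (CfsgLib.Fusion.Basic.mem_pResidual_of_coprime (Nat.coprime_two_right.2 hk)))
      obtain ⟨i, hi⟩ := Cores.isPGroup_pCore 2 ⟨_, h1⟩
      have hi' : p3 ((p k) ^ 2 ^ i) = 1 := by rw [map_pow]; exact congrArg Subtype.val hi
      show p k ∈ Cn
      exact mem_of_pow_two (hk.of_dvd_nat (orderOf_map_dvd p k)) ((QuotientGroup.eq_one_iff _).1 hi')
    refine hE0C' fun x hx => hcentY x fun g v hv => ?_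
    obtain ⟨w, hw, u, hu, rfl⟩ := hdec g
    set v' := u * v * u⁻¹
    have hv' : v' ∈ V := (mem_normalizer_iff.1 (hSV hu) v).1 hv
    have hz : w⁻¹ * x * w * x⁻¹ ∈ Z := by
      refine (QuotientGroup.eq_one_iff _).1 (show p (w⁻¹ * x * w * x⁻¹) = 1 from ?_)
      rw [map_mul, map_mul, map_mul, map_inv, map_inv, mul_assoc (p w)⁻¹,
        mem_centralizer_iff.1 (hK hw) (p x) ⟨x, hE0N hx, rfl⟩, inv_mul_cancel_left, mul_inv_cancel]
    have hc1 : w⁻¹ * x * w ∈ centralizer (V : Set G) := by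
      have := mul_mem (centralizer_le (by exact_mod_cast hVY) hz.2) (hEV hx.1)
      rwa [inv_mul_cancel_right] at this
    show x * _ = _
    rw [show w * u * v * (w * u)⁻¹ = w * v' * w⁻¹ by simp only [v']; group]
    calc x * (w * v' * w⁻¹) = w * ((w⁻¹ * x * w) * v') * w⁻¹ := by group
      _ = w * (v' * (w⁻¹ * x * w)) * w⁻¹ := by rw [mem_centralizer_iff.1 hc1 v' hv']
      _ = _ := by group
  have hER : E ⊓ π.ker ≤ Q := (inf_le_inf_right _ hEJ).trans (hfaith _ (MonoidHom.normal_ker π) hR3S)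
  -- the separating conjugate
  have hfree : ¬ Cfsg.Involves (Equiv.Perm (Fin 3)) (((G ⧸ Z) ⧸ Cn) ⧸ P3) := fun hi =>
    automizer_free (hG.quotient Z) (Thompson.isPGroup_isEA hNe)
      (CfsgLib.Fsys.involves_of_surjective (e := QuotientGroup.mk' P3) (QuotientGroup.mk'_surjective P3) hi)
  obtain ⟨gbar, hg⟩ := twoConj (pCore_quotient_bot _) hfree (((hG.quotient Z).quotient Cn).quotient P3).kg.comp
    (Thompson.isEA_map π hE.2.1)
  obtain ⟨g, rfl⟩ := hπs gbar
  set E' := E.map (MulAut.conj g).toMonoidHom with hE'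
  set H0 := E ⊔ E' with hH0
  set F0 := Y ⊓ centralizer (H0 : Set G) with hF0
  have hH0D : H0 ≤ centralizer (D : Set G) :=
    sup_le (hEV.trans (centralizer_le (by exact_mod_cast (inf_le_left : D ≤ V)))) (by
      rintro _ ⟨a, ha, rfl⟩
      exact (inferInstance : (centralizer (D : Set G)).Normal).conj_mem a
        (centralizer_le (by exact_mod_cast (inf_le_left : D ≤ V)) (hEV ha)) g)
  have hf : c * c ≤ y * Nat.card F0 := by
    have hmap : (Y ⊓ centralizer (E : Set G)).map (MulAut.conj g).toMonoidHom = Y ⊓ centralizer (E' : Set G) := by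
      rw [← centralizer_inf_map (f := (MulAut.conj g).toMonoidHom) (MulAut.conj g).injective,
        show Y.map (MulAut.conj g).toMonoidHom = Y from Subgroup.mem_normalizer_iff_map_conj_eq.1 (by
          rw [normalizer_eq_top]; trivial)]
    calc c * c = c * Nat.card ↥(Y ⊓ centralizer (E' : Set G)) := by
          rw [← hmap, Subgroup.card_map_of_injective (MulAut.conj g).injective]
      _ ≤ y * Nat.card ↥(Y ⊓ centralizer (E : Set G) ⊓ (Y ⊓ centralizer (E' : Set G))) :=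
          card_mul_le hYe.1 inf_le_left inf_le_left
      _ ≤ _ := Nat.mul_le_mul_left _ (Subgroup.card_le_of_le (le_inf (inf_le_left.trans inf_le_left)
          (le_centralizer_iff.1 (sup_le (le_centralizer_iff.1 (inf_le_left.trans inf_le_right))
            (le_centralizer_iff.1 (inf_le_right.trans inf_le_right))))))
  set R0 := ⁅N, H0⁆ ⊔ E0 with hR0
  haveI : N.Normal := inferInstance
  have hR0N : R0 ≤ N := sup_le (commutator_le_left N H0) hE0N
  have hR0F : R0 ≤ centralizer (F0 : Set G) := by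
    refine sup_le ?_ ?_
    · rw [← commutator_eq_bot_iff_le_centralizer]
      refine commutator_commutator_eq_bot_of_rotate ?_ ?_
      · rw [show ⁅H0, F0⁆ = ⊥ from commutator_eq_bot_iff_le_centralizer.2 (le_centralizer_iff.1 inf_le_right),
          commutator_bot_left]
      · rw [eq_bot_iff]
        refine (commutator_mono (H₁ := ⁅F0, N⁆) (K₁ := D) ?_ le_rfl).trans ?_
        · rw [commutator_comm, commutator_le]
          exact fun x hx z hz => hNY x hx z hz.1
        · rw [commutator_eq_bot_iff_le_centralizer.2 (le_centralizer_iff.1 hH0D)]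
    · exact inf_le_left.trans (le_centralizer_iff.1 (inf_le_right.trans (centralizer_le (by
        exact_mod_cast (le_sup_left : E ≤ H0)))))
  set Rb := R0.map p with hRb
  have hRbN : Rb ≤ Nb := map_mono hR0N
  have hH0R0 : H0 ≤ normalizer (R0 : Set G) := by
    refine le_normalizer_iff.2 fun h hh x hx => ?_
    have hle : R0 ≤ R0.comap (MulAut.conj h).toMonoidHom := sup_le
      (fun z hz => mem_sup_left ((mem_normalizer_iff.1 (PReduced.normalizer_commutator
        (show H0 ≤ normalizer (N : Set G) by rw [normalizer_eq_top]; exact le_top) le_normalizer hh) z).1 hz))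
      (fun z hz => by
        show h * z * h⁻¹ ∈ R0
        rw [show h * z * h⁻¹ = ⁅h, z⁆ * z by rw [commutatorElement_def]; group]
        refine mul_mem (mem_sup_left ?_) (mem_sup_right hz)
        rw [commutator_comm]
        exact commutator_mem_commutator hh (hE0N hz))
    exact hle hx
  set X1 := H0.map p ⊔ Rb with hX1
  have hRX : Rb ≤ X1 := le_sup_right
  have hEX : E.map p ≤ X1 := (map_mono le_sup_left).trans le_sup_left
  have hE'X : E'.map p ≤ X1 := (map_mono le_sup_right).trans le_sup_left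
  have hX1n : X1 ≤ normalizer (Rb : Set (G ⧸ Z)) :=
    sup_le ((map_mono hH0R0).trans (le_normalizer_map p)) le_normalizer
  haveI : (Rb.subgroupOf X1).Normal := (normal_subgroupOf_iff_le_normalizer hRX).2 hX1n
  obtain ⟨M, hMn, hM, hMb⟩ := cost _ ((hG.quotient Z).subgroup X1) (Rb.subgroupOf X1) rfl
    (isEA_subgroupOf' (Thompson.isEA_le hNe hRbN) X1) ((E.map p).subgroupOf X1)
    (isEA_subgroupOf' (Thompson.isEA_map p hE.2.1) X1)
  haveI := hMn
  -- modulo `R̄₀` the group `X₁` centralises `N̄`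
  let T : Subgroup (G ⧸ Z) :=
    { carrier := {z | z ∈ normalizer (Rb : Set (G ⧸ Z)) ∧ ∀ n ∈ Nb, z * n * z⁻¹ * n⁻¹ ∈ Rb}
      one_mem' := ⟨one_mem _, fun n _ => by simp⟩
      mul_mem' := fun {a b} ha hb => ⟨mul_mem ha.1 hb.1, fun n hn => by
        rw [show a * b * n * (a * b)⁻¹ * n⁻¹ = a * (b * n * b⁻¹ * n⁻¹) * a⁻¹ * (a * n * a⁻¹ * n⁻¹) by group]
        exact mul_mem ((mem_normalizer_iff.1 ha.1 _).1 (hb.2 n hn)) (ha.2 n hn)⟩
      inv_mem' := fun {a} ha => ⟨inv_mem ha.1, fun n hn => by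
        rw [show a⁻¹ * n * a⁻¹⁻¹ * n⁻¹ = a⁻¹ * (a * n * a⁻¹ * n⁻¹)⁻¹ * a by group]
        exact (mem_normalizer_iff''.1 ha.1 _).1 (inv_mem (ha.2 n hn))⟩ }
  have hX1T : X1 ≤ T := sup_le
    (by
      rintro _ ⟨h, hh, rfl⟩
      refine ⟨hX1n (mem_sup_left ⟨h, hh, rfl⟩), ?_⟩
      rintro _ ⟨n, hn, rfl⟩
      refine ⟨⁅h, n⁆, mem_sup_left ?_, ?_⟩
      · rw [commutator_comm]; exact commutator_mem_commutator hh hn
      · rw [map_commutatorElement, commutatorElement_def])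
    (fun z hz => ⟨le_normalizer hz, fun n hn => by
      rw [setLike_mul_comm (hRbN hz) hn, mul_inv_cancel_right, mul_inv_cancel]; exact one_mem _⟩)
  set Mi := M.map X1.subtype with hMi
  have hX1M : X1 ≤ normalizer (Mi : Set (G ⧸ Z)) := fun z hz =>
    le_normalizer_map X1.subtype ⟨⟨z, hz⟩, by rw [normalizer_eq_top]; trivial, rfl⟩
  have hP : IsPGroup 2 (Mi.map π0) := by
    rintro ⟨_, _, ⟨m, hm, rfl⟩, rfl⟩
    obtain ⟨i, hi⟩ := hM m hm
    refine ⟨i + 1, Subtype.ext ?_⟩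
    rw [Subgroup.coe_pow, Subgroup.coe_one, ← map_pow]
    set z : G ⧸ Z := (m : G ⧸ Z) ^ 2 ^ i with hz
    have hzX : z ∈ X1 := pow_mem m.2 _
    have hzR : ∀ r ∈ Rb, r * z = z * r := fun r hr => by
      have := congrArg Subtype.val (mem_centralizer_iff.1 hi ⟨r, hRX hr⟩ hr)
      simpa [hz] using this
    have hzz : z * z ∈ Cn := by
      refine mem_centralizer_iff.2 fun n hn => ?_
      set r := z * n * z⁻¹ * n⁻¹ with hrdef
      have hr : r ∈ Rb := (hX1T hzX).2 n hn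
      refine (mul_inv_eq_iff_eq_mul.1 ?_).symm
      calc z * z * n * (z * z)⁻¹ = z * (r * n) * z⁻¹ := by rw [hrdef]; group
        _ = (z * r * z⁻¹) * (z * n * z⁻¹) := by group
        _ = r * (r * n) := by rw [← hzR r hr, mul_inv_cancel_right, hrdef]; group
        _ = n := by rw [← mul_assoc, ← pow_two, hNe.2 r (hRbN hr), one_mul]
    show π0 ((m : G ⧸ Z) ^ 2 ^ (i + 1)) = 1
    rw [pow_succ, pow_mul, ← hz, pow_two, hπ0, MonoidHom.comp_apply,
      show p3 (z * z) = 1 from (QuotientGroup.eq_one_iff _).2 hzz, map_one]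
  have hbot := hg (Mi.map π0) hP
    (by
      rintro _ ⟨a, ha, rfl⟩
      exact le_normalizer_map π0 ⟨p a, hX1M (hEX ⟨a, ha, rfl⟩), rfl⟩)
    (by
      rintro _ ⟨_, ⟨a, ha, rfl⟩, rfl⟩
      refine le_normalizer_map π0 ⟨p (g * a * g⁻¹), hX1M (hE'X ⟨_, ⟨a, ha, rfl⟩, rfl⟩), ?_⟩
      show π (g * a * g⁻¹) = π g * π a * (π g)⁻¹
      rw [map_mul, map_mul, map_inv])
  have hEM : E ⊓ Mi.comap p ≤ E0 := by
    intro a ha
    refine mem_inf.2 ⟨ha.1, hER (mem_inf.2 ⟨ha.1, ?_⟩)⟩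
    rw [MonoidHom.mem_ker, ← mem_bot, ← hbot]
    exact mem_inf.2 ⟨⟨a, ha.1, rfl⟩, ⟨p a, ha.2, rfl⟩⟩
  -- the final count
  have hXc : ∀ A : Subgroup (G ⧸ Z), A ≤ X1 → Nat.card (A.subgroupOf X1) = Nat.card A := fun A hA =>
    Nat.card_congr (Subgroup.subgroupOfEquivOfLe hA).toEquiv
  have hk1 := card_map_mul_inf p E
  have hk2 := card_map_mul_inf p (E ⊓ Mi.comap p)
  rw [show (E ⊓ Mi.comap p).map p = E.map p ⊓ Mi by
    ext z
    constructor
    · rintro ⟨x, ⟨hx1, hx2⟩, rfl⟩; exact mem_inf.2 ⟨⟨x, hx1, rfl⟩, hx2⟩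
    · rintro ⟨⟨x, hx, rfl⟩, hz⟩; exact ⟨x, mem_inf.2 ⟨hx, hz⟩, rfl⟩,
    inf_assoc, inf_eq_right.2 (MonoidHom.ker_le_comap _ _)] at hk2
  have hk3 := card_map_mul_inf p E0
  have hk4 := card_map_mul_inf p R0
  rw [QuotientGroup.ker_mk'] at hk1 hk2 hk3 hk4
  set k0 := Nat.card ↥(E ⊓ Z)
  have hk3' : e0 ≤ Nat.card (E0.map p) * e1 := by
    rw [he0def, ← hk3]
    exact Nat.mul_le_mul_left _ (Subgroup.card_le_of_le (le_inf (inf_le_left.trans inf_le_left)
      (inf_le_right.trans inf_le_right)))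
  set r := Nat.card Rb with hrdef
  have hEMc : Nat.card ↥((E.map p).subgroupOf X1 ⊓ M) ≤ Nat.card ↥(E.map p ⊓ Mi) := by
    rw [← Subgroup.card_map_of_injective (f := X1.subtype) X1.subtype_injective]
    refine Subgroup.card_le_of_le ?_
    rintro _ ⟨x, hx, rfl⟩
    exact mem_inf.2 ⟨hx.1, ⟨x, hx.2, rfl⟩⟩
  have hCc : Nat.card (E0.map p) ≤
      Nat.card ↥(Rb.subgroupOf X1 ⊓ centralizer ((E.map p).subgroupOf X1 : Set X1)) := by
    refine le_of_eq_of_le (hXc _ ((map_mono inf_le_left).trans hEX)).symm (Subgroup.card_le_of_le ?_)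
    intro x hx
    obtain ⟨a, ha, hax⟩ := hx
    refine mem_inf.2 ⟨⟨a, mem_sup_right ha, hax⟩, mem_centralizer_iff.2 fun z hz => Subtype.ext ?_⟩
    obtain ⟨b, hb, hbz⟩ := hz
    show (z : G ⧸ Z) * (x : G ⧸ Z) = (x : G ⧸ Z) * (z : G ⧸ Z)
    rw [show (x : G ⧸ Z) = p a from hax.symm, show (z : G ⧸ Z) = p b from hbz.symm, ← map_mul, ← map_mul,
      setLike_mul_comm hb ha.1]
  rw [hXc _ hEX, hXc _ hRX] at hMb
  have hfinal : e ^ 2 ≤ r * e1 * e0 := by
    have h0 : e0 * e ^ 2 ≤ e0 * (r * e1 * e0) := by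
      calc e0 * e ^ 2 ≤ (Nat.card (E0.map p) * e1) * (Nat.card (E.map p) * k0) ^ 2 := by
            rw [hk1]; exact Nat.mul_le_mul_right _ hk3'
        _ = (Nat.card (E.map p) ^ 2 * Nat.card (E0.map p)) * (e1 * k0 ^ 2) := by ring
        _ ≤ (r * Nat.card ↥(E.map p ⊓ Mi) ^ 2) * (e1 * k0 ^ 2) :=
            Nat.mul_le_mul_right _ ((Nat.mul_le_mul_left _ hCc).trans (hMb.trans
              (Nat.mul_le_mul_left _ (Nat.pow_le_pow_left hEMc 2))))
        _ = r * e1 * (Nat.card ↥(E.map p ⊓ Mi) * k0) ^ 2 := by ring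
        _ ≤ r * e1 * e0 ^ 2 := Nat.mul_le_mul_left _ (Nat.pow_le_pow_left (hk2 ▸ Subgroup.card_le_of_le hEM) 2)
        _ = _ := by ring
    exact Nat.le_of_mul_le_mul_left h0 Nat.card_pos
  have hR0C : R0 ⊓ Z = R0 ⊓ C := le_antisymm (inf_le_inf_left _ inf_le_right)
    (le_inf inf_le_left (le_inf (inf_le_left.trans hR0N) inf_le_right))
  have hR0Q : R0 ≤ Q := hR0N.trans (inf_le_left.trans inf_le_left)
  have hact : Acts Y R0 := ⟨commutator_le.2 fun a ha b hb => (hcommN a (hR0N ha) b (hR0N hb)).1,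
    fun a ha => (hcommN a (hR0N ha) a (hR0N ha)).2,
    fun h => hE0C' fun a ha => h (mem_sup_right ha)⟩
  have hS0 := hYs R0 hR0Q hact
  rw [hR0C] at hk4
  have hr : r ^ 3 * Nat.card F0 ^ 2 < y ^ 2 := by
    refine Nat.lt_of_mul_lt_mul_right (a := Nat.card ↥(R0 ⊓ C) ^ 3) ?_
    calc r ^ 3 * Nat.card F0 ^ 2 * Nat.card ↥(R0 ⊓ C) ^ 3 = (r * Nat.card ↥(R0 ⊓ C)) ^ 3 * Nat.card F0 ^ 2 := by ring
      _ = Nat.card R0 ^ 3 * Nat.card F0 ^ 2 := by rw [hrdef, hRb, hk4]
      _ ≤ Nat.card R0 ^ 3 * Nat.card ↥(Y ⊓ centralizer (R0 : Set G)) ^ 2 :=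
          Nat.mul_le_mul_left _ (Nat.pow_le_pow_left (Subgroup.card_le_of_le
            (le_inf inf_le_left (le_centralizer_iff.1 hR0F))) 2)
      _ < _ := hS0
  exact arith_final (hpos E) (hpos Y) (hpos (Y ⊓ centralizer (E : Set G))) (hpos F0) hmax hstrong hf hr hfinal

end CfsgLib.LocalEven.TwoFactor
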