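import Cfsg.Agent.Lib.LocalEven.TwoFactor.Closure

/-!
Sylow subgroups meeting normalisers; nontriviality of `J` and `Ω₁(Z(Ĵ))`.
-/

set_option autoImplicit false
set_option linter.style.haveILetI false
set_option linter.unusedSectionVars false

namespace CfsgLib.LocalEven.TwoFactor

open Subgroup CfsgLib.Solvable

universe u

variable {G : Type u} [Group G] [Finite G]

theorem lt_inf_normalizer {U Q : Subgroup G} (hQ : IsPGroup 2 Q) (h : U < Q) :
    Nat.card U < Nat.card ↥(Q ⊓ normalizer (U : Set G)) := by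
  haveI : Fact (Nat.Prime 2) := ⟨Nat.prime_two⟩
  have h' : U < Q ⊓ normalizer (U : Set G) := by
    haveI := hQ.isNilpotent
    have h1 : U.subgroupOf Q < ⊤ := lt_top_iff_ne_top.2 fun e => h.not_ge (subgroupOf_eq_top.1 e)
    have h2 := Group.normalizerCondition_of_isNilpotent (G := Q) _ h1
    refine lt_of_le_not_ge (le_inf h.le le_normalizer) fun hle => h2.not_ge fun x hx => ?_
    rw [← subgroupOf_normalizer_eq h.le] at hx
    exact hle (mem_inf.2 ⟨x.2, hx⟩)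
  exact lt_of_le_of_ne (Subgroup.card_le_of_le h'.le) fun e =>
    h'.ne (Subgroup.eq_of_le_of_card_ge h'.le e.ge)

theorem card_lt_of_lt {U Q : Subgroup G} (h : U < Q) : Nat.card U < Nat.card Q :=
  lt_of_le_of_ne (Subgroup.card_le_of_le h.le) fun e => h.ne (Subgroup.eq_of_le_of_card_ge h.le e.ge)

theorem exists_order_two {T : Subgroup G} (hT : IsPGroup 2 T) (h : T ≠ ⊥) : ∃ x ∈ T, x ≠ 1 ∧ x ^ 2 = 1 := by
  haveI : Fact (Nat.Prime 2) := ⟨Nat.prime_two⟩
  haveI : Nontrivial T := (Subgroup.nontrivial_iff_ne_bot T).2 h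
  obtain ⟨n, hn, hc⟩ := hT.nontrivial_iff_card.1 inferInstance
  obtain ⟨x, hx⟩ := exists_prime_orderOf_dvd_card' (G := T) 2 (hc ▸ dvd_pow_self 2 hn.ne')
  refine ⟨x, x.2, fun h1 => ?_, by rw [← hx, ← Subgroup.coe_pow, pow_orderOf_eq_one, Subgroup.coe_one]⟩
  rw [show x = 1 from Subtype.ext h1, orderOf_one] at hx
  omega

theorem exists_order_two_center {T : Subgroup G} (hT : IsPGroup 2 T) (h : T ≠ ⊥) :
    ∃ x ∈ T ⊓ centralizer (T : Set G), x ≠ 1 ∧ x ^ 2 = 1 := by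
  haveI : Fact (Nat.Prime 2) := ⟨Nat.prime_two⟩
  refine exists_order_two (hT.to_le inf_le_left) fun hb => ?_
  haveI : Nontrivial T := (Subgroup.nontrivial_iff_ne_bot T).2 h
  haveI := hT.center_nontrivial
  obtain ⟨z, hz⟩ := exists_ne (1 : center T)
  refine hz (Subtype.ext (Subtype.ext ?_))
  have : (((z : T)) : G) ∈ T ⊓ centralizer (T : Set G) := mem_inf.2 ⟨(z : T).2, mem_centralizer_iff.2
    fun t ht => congrArg Subtype.val (mem_center_iff.1 z.2 ⟨t, ht⟩)⟩
  rwa [hb, mem_bot] at this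

theorem je_ne_bot {T : Subgroup G} (hT : IsPGroup 2 T) (h : T ≠ ⊥) : JE T ≠ ⊥ := by
  obtain ⟨x, hxT, hx1, hx2⟩ := exists_order_two hT h
  obtain ⟨E, hE⟩ := exists_maxEA T
  intro hb
  have hx : Cfsg.IsElementaryAbelian 2 (zpowers x) := by
    refine ⟨⟨⟨fun a b => Subtype.ext ?_⟩⟩, fun a ha => ?_⟩
    · obtain ⟨i, hi⟩ := mem_zpowers_iff.1 a.2
      obtain ⟨j, hj⟩ := mem_zpowers_iff.1 b.2
      simp only [Subgroup.coe_mul, ← hi, ← hj, ← zpow_add, add_comm]
    · obtain ⟨i, rfl⟩ := mem_zpowers_iff.1 ha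
      rw [← zpow_natCast, ← zpow_mul, mul_comm, zpow_mul, zpow_natCast, hx2, one_zpow]
  have hle := hE.2.2 _ (zpowers_le.2 hxT) hx
  have hE1 : E = ⊥ := le_bot_iff.1 (hb ▸ (le_sSup hE : E ≤ JE T))
  rw [hE1, Subgroup.card_bot, Nat.card_zpowers] at hle
  rcases Nat.le_one_iff_eq_zero_or_eq_one.1 hle with h0 | h0
  · exact (orderOf_pos x).ne' h0
  · exact hx1 (orderOf_eq_one_iff.1 h0)

theorem bhat_ne_bot {T : Subgroup G} (hT : IsPGroup 2 T) (h : T ≠ ⊥) : BHat T ≠ ⊥ := by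
  have hJ : JHat T ≠ ⊥ := fun hb => je_ne_bot hT h (le_bot_iff.1 (hb ▸ je_le_jhat T))
  obtain ⟨x, hx, hx1, hx2⟩ := exists_order_two_center (hT.to_le (jhat_le T)) hJ
  intro hb
  exact hx1 (mem_bot.1 (hb ▸ (subset_closure ⟨hx, hx2⟩ : x ∈ BHat T)))

theorem zclosure_ne_bot {S : Subgroup G} (hS : IsPGroup 2 S) (h : S ≠ ⊥) : ZClosure S ≠ ⊥ := by
  obtain ⟨x, hx, hx1, hx2⟩ := exists_order_two_center hS h
  intro hb
  exact hx1 (mem_bot.1 (hb ▸ omegaZ_le_zclosure S (subset_closure ⟨hx, hx2⟩ : x ∈ OmegaZ S)))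

theorem le_normalizer_bhat (T : Subgroup G) : normalizer (T : Set G) ≤ normalizer (BHat T : Set G) :=
  (normalizer_le_jhat T).trans (normalizer_jhat_le_bhat T)

theorem omegaZ_map {L : Type u} [Group L] {f : G →* L} (hf : Function.Injective f) (S : Subgroup G) :
    OmegaZ (S.map f) = (OmegaZ S).map f := by
  rw [OmegaZ, OmegaZ, centralizer_inf_map hf, omegaOne_map hf]

theorem zclosure_conj_le (S : Subgroup G) (m : G) :
    (ZClosure S).map (MulAut.conj m).toMonoidHom ≤ ZClosure (S.map (MulAut.conj m).toMonoidHom) := by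
  have hinj : Function.Injective (MulAut.conj m).toMonoidHom := (MulAut.conj m).injective
  rw [map_le_iff_le_comap]
  refine (closure_le _).2 ?_
  rintro _ ⟨n, hn, z, hz, rfl⟩
  refine subset_closure ⟨m * n * m⁻¹, ?_, m * z * m⁻¹, omegaZ_map hinj S ▸ ⟨z, hz, rfl⟩, by simp [mul_assoc]⟩
  rw [je_map hinj]
  exact le_normalizer_map _ ⟨n, hn, rfl⟩

theorem zclosure_conj (S : Subgroup G) (m : G) :
    ZClosure (S.map (MulAut.conj m).toMonoidHom) = (ZClosure S).map (MulAut.conj m).toMonoidHom := by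
  refine le_antisymm ?_ (zclosure_conj_le S m)
  have h := map_mono (f := (MulAut.conj m).toMonoidHom)
    (zclosure_conj_le (S.map (MulAut.conj m).toMonoidHom) m⁻¹)
  rwa [SylowIn.map_conj_conj, mul_inv_cancel, SylowIn.map_conj_one, SylowIn.map_conj_conj, inv_mul_cancel,
    SylowIn.map_conj_one] at h

end CfsgLib.LocalEven.TwoFactor
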