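import Cfsg.Agent.Lib.LocalEven.TwoFactor.Main

/-!
Glauberman's triple factorisation of a constrained `S₄`-free group with known sections.
-/

set_option autoImplicit false
set_option linter.style.haveILetI false
set_option linter.unusedSectionVars false

namespace CfsgLib.LocalEven.TwoFactor

open Subgroup CfsgLib.Solvable
open CfsgLib.Fusion (Thompson.isEA_map Thompson.isEA_le Thompson.isPGroup_isEA)
open scoped commutatorElement

universe u

variable {G : Type u} [Group G] [Finite G]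

/-- An elementary abelian subgroup inside and centralised by `Ĵ` lies in `BHat`. -/
theorem le_bhat {S A : Subgroup G} (hA : Cfsg.IsElementaryAbelian 2 A) (h1 : A ≤ JHat S)
    (h2 : JHat S ≤ centralizer (A : Set G)) : A ≤ BHat S := fun a ha =>
  subset_closure ⟨mem_inf.2 ⟨h1 ha, le_centralizer_iff.1 h2 ha⟩, hA.2 a ha⟩

theorem bhat_le (S : Subgroup G) : BHat S ≤ JHat S :=
  (closure_le _).2 fun _ hx => hx.1.1

theorem jhat_le_centralizer_bhat (S : Subgroup G) : JHat S ≤ centralizer (BHat S : Set G) :=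
  le_centralizer_iff.1 ((closure_le _).2 fun _ hx => hx.1.2)

theorem bhat_elementary (S : Subgroup G) : Cfsg.IsElementaryAbelian 2 (BHat S) := by
  have hc : IsMulCommutative (BHat S) := by
    rw [← Subgroup.commutator_self_eq_bot_iff, Subgroup.commutator_eq_bot_iff_le_centralizer]
    exact (bhat_le S).trans (jhat_le_centralizer_bhat S)
  refine ⟨hc, ?_⟩
  haveI := hc
  let K : Subgroup G :=
    { carrier := {y | y ∈ BHat S ∧ y ^ 2 = 1}
      one_mem' := ⟨one_mem _, one_pow 2⟩
      mul_mem' := fun {a b} ha hb => ⟨mul_mem ha.1 hb.1, by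
        rw [(show Commute a b from setLike_mul_comm ha.1 hb.1).mul_pow, ha.2, hb.2, one_mul]⟩
      inv_mem' := fun {a} ha => ⟨inv_mem ha.1, by rw [inv_pow, ha.2, inv_one]⟩ }
  exact fun x hx => (((closure_le K).2 fun y hy => ⟨subset_closure hy, hy.2⟩) hx).2

/-- A normal subgroup of a constrained group is constrained. -/
theorem constrained_normal (hQC : centralizer (Cfsg.pCore 2 G : Set G) ≤ Cfsg.pCore 2 G) (L : Subgroup G)
    [hL : L.Normal] : centralizer (Cfsg.pCore 2 L : Set L) ≤ Cfsg.pCore 2 L := by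
  haveI : Fact (Nat.Prime 2) := ⟨Nat.prime_two⟩
  set Q := Cfsg.pCore 2 G
  haveI hQn : Q.Normal := Cores.pCore_normal 2
  have hQ2 : IsPGroup 2 Q := Cores.isPGroup_pCore 2
  haveI : (centralizer ((Q ⊓ L : Subgroup G) : Set G)).Normal := Subgroup.normal_centralizer
  set X := L ⊓ centralizer ((Q ⊓ L : Subgroup G) : Set G)
  have hX : IsPGroup 2 X := by
    intro x
    obtain ⟨k, hk⟩ := exists_odd_pow (x : G)
    set y := (x : G) ^ 2 ^ k with hy
    have hyX : y ∈ X := pow_mem x.2 _
    have hyQ : y ∈ centralizer (Q : Set G) := mem_centralizer_iff.2 fun z hz => by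
      refine (commute_of_odd (N := Q ⊓ L) (hQ2.to_le inf_le_left) hk hyX.2 (mem_inf.2 ⟨?_, ?_⟩)).eq.symm
      · exact mul_mem (hQn.conj_mem z hz y) (inv_mem hz)
      · rw [commutatorElement_def, show y * z * y⁻¹ * z⁻¹ = y * (z * y⁻¹ * z⁻¹) by group]
        exact mul_mem hyX.1 (hL.conj_mem _ (inv_mem hyX.1) z)
    obtain ⟨i, hi⟩ := hQ2 ⟨y, hQC hyQ⟩
    refine ⟨k + i, Subtype.ext ?_⟩
    rw [Subgroup.coe_pow, pow_add, pow_mul, ← hy, Subgroup.coe_one]
    exact congrArg Subtype.val hi
  have hXQ : X ≤ Q := Cores.le_pCore hX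
  haveI : (Q.subgroupOf L).Normal := inferInstance
  have hQL : Q.subgroupOf L ≤ Cfsg.pCore 2 L :=
    Cores.le_pCore (hQ2.comap_of_injective _ L.subtype_injective)
  intro x hx
  refine hQL (hXQ (mem_inf.2 ⟨x.2, mem_centralizer_iff.2 fun z hz => ?_⟩))
  exact congrArg Subtype.val (mem_centralizer_iff.1 hx ⟨z, hz.2⟩ (hQL hz.1))

theorem constrained_of_sylow_le (hQC : centralizer (Cfsg.pCore 2 G : Set G) ≤ Cfsg.pCore 2 G) (S : Sylow 2 G)
    {H : Subgroup G} (hSH : (S : Subgroup G) ≤ H) : centralizer (Cfsg.pCore 2 H : Set H) ≤ Cfsg.pCore 2 H := by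
  haveI : Fact (Nat.Prime 2) := ⟨Nat.prime_two⟩
  set Q := Cfsg.pCore 2 G
  haveI : Q.Normal := Cores.pCore_normal 2
  have hQH : Q ≤ H := (Cores.pCore_le_sylow S).trans hSH
  have hQL : Q.subgroupOf H ≤ Cfsg.pCore 2 H :=
    Cores.le_pCore ((Cores.isPGroup_pCore 2).comap_of_injective _ H.subtype_injective)
  intro x hx
  refine hQL (show (x : G) ∈ Q from hQC (mem_centralizer_iff.2 fun z hz => ?_))
  exact congrArg Subtype.val (mem_centralizer_iff.1 hx ⟨z, hQH hz⟩ (hQL hz))

/-- The first two factorisations. -/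
theorem centre_factor (hG : Good G) (hQC : centralizer (Cfsg.pCore 2 G : Set G) ≤ Cfsg.pCore 2 G) (S : Sylow 2 G)
    (g : G) : ∃ c ∈ centralizer ((((S : Subgroup G) ⊓ centralizer ((S : Subgroup G) : Set G)) : Subgroup G) : Set G),
      ∃ n : G, n ∈ normalizer (JE (S : Subgroup G) : Set G) ∧ n ∈ normalizer (JHat (S : Subgroup G) : Set G) ∧
        g = c * n := by
  haveI : Fact (Nat.Prime 2) := ⟨Nat.prime_two⟩
  set Q := Cfsg.pCore 2 G
  haveI hQn : Q.Normal := Cores.pCore_normal 2
  have hQ2 : IsPGroup 2 Q := Cores.isPGroup_pCore 2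
  have hQS : Q ≤ (S : Subgroup G) := Cores.pCore_le_sylow S
  set Z := (S : Subgroup G) ⊓ centralizer ((S : Subgroup G) : Set G) with hZ
  have hZQ : Z ≤ Q ⊓ centralizer (Q : Set G) := fun z hz => by
    have hzc : z ∈ centralizer (Q : Set G) := centralizer_le (by exact_mod_cast hQS) hz.2
    exact mem_inf.2 ⟨hQC hzc, hzc⟩
  haveI : (centralizer (Q : Set G)).Normal := Subgroup.normal_centralizer
  set V1 := normalClosure (Z : Set G) with hV1
  have hV1Q : V1 ≤ Q ⊓ centralizer (Q : Set G) := normalClosure_le_normal hZQ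
  set M := Cfsg.omegaOne 2 V1 with hM
  have hMV : M ≤ V1 := (closure_le _).2 fun _ h => h.1
  have hMe : Cfsg.IsElementaryAbelian 2 M := by
    have hV1c : IsMulCommutative V1 := by
      rw [← Subgroup.commutator_self_eq_bot_iff, Subgroup.commutator_eq_bot_iff_le_centralizer]
      exact (hV1Q.trans inf_le_right).trans (centralizer_le (by exact_mod_cast (hV1Q.trans inf_le_left)))
    haveI := hV1c
    let K : Subgroup G :=
      { carrier := {y | y ∈ V1 ∧ y ^ 2 = 1}
        one_mem' := ⟨one_mem _, one_pow 2⟩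
        mul_mem' := fun {a b} ha hb => ⟨mul_mem ha.1 hb.1, by
          rw [(show Commute a b from setLike_mul_comm ha.1 hb.1).mul_pow, ha.2, hb.2, one_mul]⟩
        inv_mem' := fun {a} ha => ⟨inv_mem ha.1, by rw [inv_pow, ha.2, inv_one]⟩ }
    have hMK : M ≤ K := (closure_le K).2 fun y hy => hy
    exact ⟨⟨⟨fun a b => Subtype.ext (setLike_mul_comm (hMK a.2).1 (hMK b.2).1)⟩⟩, fun x hx => (hMK hx).2⟩
  have hV1comm : ∀ a ∈ V1, ∀ b ∈ V1, a * b = b * a := fun a ha b hb =>
    mem_centralizer_iff.1 (hV1Q hb).2 a (hV1Q ha).1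
  haveI hMn : M.Normal := ⟨fun x hx g => by
    have hle : M ≤ M.comap (MulAut.conj g).toMonoidHom := (closure_le _).2 fun y hy =>
      subset_closure ⟨(inferInstance : V1.Normal).conj_mem y hy.1 g, by rw [MulEquiv.coe_toMonoidHom, ← map_pow, hy.2, map_one]⟩
    exact hle hx⟩
  set C := centralizer (M : Set G) with hC
  haveI : C.Normal := Subgroup.normal_centralizer
  haveI : (centralizer (V1 : Set G)).Normal := Subgroup.normal_centralizer
  -- normal subgroups inducing 2-groups centralise `V₁`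
  have hkey : ∀ R : Subgroup G, R.Normal → TwoOn V1 R → R ≤ centralizer (V1 : Set G) := by
    intro R hR hR2
    haveI := hR
    set q := QuotientGroup.mk' (centralizer (V1 : Set G))
    have hqs : Function.Surjective q := QuotientGroup.mk'_surjective _
    haveI : (R.map q).Normal := Normal.map inferInstance q hqs
    have hp : IsPGroup 2 (R.map q) := by
      rintro ⟨_, x, hx, rfl⟩
      obtain ⟨k, hk⟩ := hR2 x hx
      refine ⟨k, Subtype.ext ?_⟩
      rw [Subgroup.coe_pow, ← map_pow, Subgroup.coe_one]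
      exact (QuotientGroup.eq_one_iff _).2 hk
    have hRS : R.map q ≤ (S : Subgroup G).map q :=
      (Cores.le_pCore hp).trans (Cores.pCore_le_sylow (S.mapSurjective hqs))
    have hRZ : R ≤ centralizer (Z : Set G) := by
      intro x hx
      obtain ⟨s, hs, hsx⟩ := hRS ⟨x, hx, rfl⟩
      have h1 : x * s⁻¹ ∈ centralizer (V1 : Set G) := (QuotientGroup.eq_one_iff _).1 (show q (x * s⁻¹) = 1 by
        rw [map_mul, map_inv, hsx, mul_inv_cancel])
      have h2 : s ∈ centralizer (Z : Set G) := (le_centralizer_iff.1 inf_le_right : (S : Subgroup G) ≤ _) hs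
      have := mul_mem (centralizer_le (by exact_mod_cast (subset_normalClosure : (Z : Set G) ⊆ V1)) h1) h2
      rwa [inv_mul_cancel_right] at this
    haveI : (centralizer (R : Set G)).Normal := Subgroup.normal_centralizer
    exact le_centralizer_iff.1 (normalClosure_le_normal (le_centralizer_iff.1 hRZ))
  have hCV : C ≤ centralizer (V1 : Set G) := by
    refine hkey C inferInstance fun x hx => ?_
    obtain ⟨k, hk⟩ := exists_odd_pow x
    refine ⟨k, mem_centralizer_iff.2 ?_⟩
    set y := x ^ 2 ^ k with hy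
    have hyC : y ∈ C := pow_mem hx _
    suffices h : ∀ i : ℕ, ∀ v ∈ V1, v ^ 2 ^ i = 1 → Commute y v by
      intro v hv
      obtain ⟨i, hi⟩ := hQ2 ⟨v, (hV1Q hv).1⟩
      exact (h i v hv (congrArg Subtype.val hi)).eq.symm
    intro i
    induction i with
    | zero => intro v _ h; rw [pow_zero, pow_one] at h; rw [h]; exact Commute.one_right y
    | succ i ih =>
      intro v hv h
      have h2 : Commute y (v ^ 2) := ih (v ^ 2) (pow_mem hv 2) (by rw [← pow_mul, ← pow_succ']; exact h)
      have hvy : y * v * y⁻¹ ∈ V1 := (inferInstance : V1.Normal).conj_mem v hv y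
      refine commute_of_odd (N := M) (Thompson.isPGroup_isEA hMe) hk hyC (subset_closure ⟨mul_mem hvy (inv_mem hv), ?_⟩)
      rw [show ⁅y, v⁆ = y * v * y⁻¹ * v⁻¹ from rfl,
        (show Commute (y * v * y⁻¹) v⁻¹ from hV1comm _ hvy _ (inv_mem hv)).mul_pow, conj_pow, h2.eq,
        mul_inv_cancel_right, inv_pow, mul_inv_cancel]
  have hCZ : C ≤ centralizer (Z : Set G) :=
    hCV.trans (centralizer_le (by exact_mod_cast (subset_normalClosure : (Z : Set G) ⊆ V1)))
  have hO : Cfsg.pCore 2 (G ⧸ C) = ⊥ := by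
    haveI : ((Cfsg.pCore 2 (G ⧸ C)).comap (QuotientGroup.mk' C)).Normal := Normal.comap inferInstance _
    have hR : (Cfsg.pCore 2 (G ⧸ C)).comap (QuotientGroup.mk' C) ≤ centralizer (V1 : Set G) := by
      refine hkey _ inferInstance fun x hx => ?_
      obtain ⟨k, hk⟩ := Cores.isPGroup_pCore 2 ⟨_, hx⟩
      exact ⟨k, hCV ((QuotientGroup.eq_one_iff _).1 (show QuotientGroup.mk' C (x ^ 2 ^ k) = 1 by
        rw [map_pow]; exact congrArg Subtype.val hk))⟩
    rw [eq_bot_iff]
    intro z hz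
    obtain ⟨x, rfl⟩ := QuotientGroup.mk'_surjective C z
    exact (QuotientGroup.eq_one_iff x).2 (centralizer_le (by exact_mod_cast hMV) (hR hz))
  have hMS : M ≤ (S : Subgroup G) := hMV.trans ((hV1Q.trans inf_le_left).trans hQS)
  have hSM : (S : Subgroup G) ≤ normalizer (M : Set G) := by rw [normalizer_eq_top]; exact le_top
  have hEP : ∀ P : Subgroup G, EProp P M := by
    intro P
    have hb : ∀ R : Subgroup G, Acts M R → Nat.card R ^ 2 * Nat.card ↥(M ⊓ centralizer (R : Set G)) ≤
        Nat.card M * Nat.card ↥(R ⊓ C) ^ 2 ∧ Nat.card R ^ 2 ≤ Nat.card ↥⁅M, R⁆ * Nat.card ↥(R ⊓ C) ^ 2 ∧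
        Nat.card ↥(R ⊓ C) < Nat.card R := by
      intro R hA
      have he : Cfsg.IsElementaryAbelian 2 (R.map (CfsgLib.Fusion.FailureFactor.rho M)) := by
        refine ⟨?_, ?_⟩
        · rw [← Subgroup.commutator_self_eq_bot_iff, ← map_commutator, Subgroup.map_eq_bot_iff,
            CfsgLib.Fusion.FailureFactor.ker_rho]
          exact hA.1
        · rintro _ ⟨r, hr, rfl⟩
          rw [← map_pow]
          exact (CfsgLib.Fusion.FailureFactor.rho_eq_one M).2 (hA.2.1 r hr)
      obtain ⟨h1, h2⟩ := bound_reduced hG hMe hO he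
      exact ⟨h1, h2, lt_of_le_of_ne (Subgroup.card_le_of_le inf_le_left) fun h =>
        hA.2.2 (inf_eq_left.1 (Subgroup.eq_of_le_of_card_ge inf_le_left h.ge))⟩
    refine ⟨fun R _ hA => ?_, fun R _ hA => ?_⟩
    · obtain ⟨h1, -, h3⟩ := hb R hA
      set r := Nat.card R
      set c := Nat.card ↥(M ⊓ centralizer (R : Set G))
      set m := Nat.card M
      set r0 := Nat.card ↥(R ⊓ C)
      refine Nat.lt_of_mul_lt_mul_right (a := r) ?_
      calc r ^ 3 * c ^ 2 * r = (r ^ 2 * c) ^ 2 := by ring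
        _ ≤ (m * r0 ^ 2) ^ 2 := Nat.pow_le_pow_left h1 2
        _ = (m ^ 2 * r0 ^ 3) * r0 := by ring
        _ < _ := Nat.mul_lt_mul_of_pos_left h3 (Nat.mul_pos (pow_pos Nat.card_pos 2) (pow_pos Nat.card_pos 3))
    · obtain ⟨-, h2, h3⟩ := hb R hA
      set r := Nat.card R
      set k := Nat.card ↥⁅M, R⁆
      set r0 := Nat.card ↥(R ⊓ C)
      refine Nat.lt_of_mul_lt_mul_right (a := r) ?_
      calc r * r = r ^ 2 := (pow_two r).symm
        _ ≤ k * r0 ^ 2 := h2
        _ = (k * r0) * r0 := by ring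
        _ < _ := Nat.mul_lt_mul_of_pos_left h3 (Nat.mul_pos Nat.card_pos Nat.card_pos)
  have hJM : ∀ E, MaxEA (S : Subgroup G) E → M ≤ E := fun E hE => (maxEA_le hE hMe hMS (hEP E).1).1
  have hJH : JHat (S : Subgroup G) ≤ C := by
    refine sSup_le ?_
    rintro U ⟨hUS, hUe, hUJ⟩
    obtain ⟨E, hE⟩ := exists_maxEA (S : Subgroup G)
    exact hUe M ((hJM E hE).trans ((le_sSup hE : E ≤ JE (S : Subgroup G)).trans hUJ)) (hUS.trans hSM) hMe (hEP U)
  set T := (S : Subgroup G) ⊓ C
  have hT1 : JE (S : Subgroup G) ≤ T := le_inf (je_le _) ((je_le_jhat _).trans hJH)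
  obtain ⟨c, hc, n, hn, hgn⟩ := frattini_inf S C g
  refine ⟨c, hCZ hc, n, ?_, ?_, hgn⟩
  · rw [← je_of_le hT1 inf_le_left]
    exact normalizer_le_je T hn
  · rw [← (jhat_of_le hT1 inf_le_left).2 (le_inf (jhat_le _) hJH)]
    exact normalizer_le_jhat T hn

/-- The third factorisation. -/
theorem bhat_factor : ∀ (n : ℕ) {G : Type u} [Group G] [Finite G], Nat.card G = n → Good G →
    centralizer (Cfsg.pCore 2 G : Set G) ≤ Cfsg.pCore 2 G → ∀ (S : Sylow 2 G) (g : G),
      ∃ c ∈ centralizer (BHat (S : Subgroup G) : Set G), ∃ n ∈ normalizer (JE (S : Subgroup G) : Set G),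
        g = c * n := by
  intro n
  induction n using Nat.strong_induction_on with
  | _ n IH => ?_
  intro G _ _ hn hG hQC S g
  haveI : Fact (Nat.Prime 2) := ⟨Nat.prime_two⟩
  set Q := Cfsg.pCore 2 G
  haveI hQn : Q.Normal := Cores.pCore_normal 2
  have hQS : Q ≤ (S : Subgroup G) := Cores.pCore_le_sylow S
  set J := JE (S : Subgroup G) with hJ
  set B := BHat (S : Subgroup G) with hB
  have hcard : ∀ H : Subgroup G, H ≠ ⊤ → Nat.card H < n := fun H hH => hn ▸
    lt_of_le_of_ne (card_le_card_group H) fun e => hH (Subgroup.eq_top_of_card_eq H e)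
  -- transport from a subgroup
  have hsub : ∀ (H : Subgroup G), H ≠ ⊤ → centralizer (Cfsg.pCore 2 H : Set H) ≤ Cfsg.pCore 2 H →
      ∀ T : Subgroup G, (hT : SylowIn.IsSylowIn 2 T H) → ∀ h ∈ H,
        ∃ c ∈ centralizer (BHat T : Set G), ∃ n ∈ normalizer (JE T : Set G), h = c * n := by
    intro H hH hHC T hT h hh
    obtain ⟨c, hc, m, hm, hcm⟩ := IH _ (hcard H hH) rfl (hG.subgroup H) hHC hT.toSylow ⟨h, hh⟩
    refine ⟨c, ?_, m, ?_, congrArg Subtype.val hcm⟩
    · rw [← hT.toSylow_map, bhat_map H.subtype_injective]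
      refine mem_centralizer_iff.2 ?_
      rintro _ ⟨b, hb, rfl⟩
      exact congrArg Subtype.val (mem_centralizer_iff.1 hc b hb)
    · rw [← hT.toSylow_map, je_map H.subtype_injective]
      exact le_normalizer_map H.subtype ⟨m, hm, rfl⟩
  have IND : ∀ H : Subgroup G, (S : Subgroup G) ≤ H → H ≠ ⊤ → ∀ h ∈ H, ∃ c ∈ centralizer (B : Set G),
      ∃ n ∈ normalizer (J : Set G), h = c * n := fun H hSH hH =>
    hsub H hH (constrained_of_sylow_le hQC S hSH) S ⟨hSH, S.2, fun U _ hU h => S.3 hU h⟩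
  set L := normalClosure (J : Set G) with hL
  have hJL : J ≤ L := subset_normalClosure
  by_cases hLtop : L ≠ ⊤
  · set T := (S : Subgroup G) ⊓ L
    have hTs : SylowIn.IsSylowIn 2 T L :=
      CfsgLib.Fsys.isSylowIn_inf (N := L) (isSylowIn_top S) le_top (by rw [normalizer_eq_top])
    have hT1 : J ≤ T := le_inf (je_le _) hJL
    have hBJ : B ≤ J := by
      obtain ⟨E, hE⟩ := exists_maxEA (S : Subgroup G)
      have hEJ : E ≤ J := le_sSup hE
      refine le_trans (maxEA_le hE (bhat_elementary _) ((bhat_le _).trans (jhat_le _)) ?_).1 hEJ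
      exact fun R hR hA => absurd
        ((hR.trans hEJ).trans ((je_le_jhat _).trans (jhat_le_centralizer_bhat _))) hA.2.2
    have hBT : B ≤ BHat T := by
      refine le_bhat (bhat_elementary _) ?_ ?_
      · exact hBJ.trans ((je_of_le hT1 inf_le_left).symm.le.trans (je_le_jhat T))
      · exact (jhat_of_le hT1 inf_le_left).1.trans (jhat_le_centralizer_bhat _)
    obtain ⟨l, hl, m, hm, hlm⟩ := frattini_inf S L g
    obtain ⟨c, hc, k, hk, hck⟩ := hsub L hLtop (constrained_normal hQC L) T hTs l hl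
    have hTJ : JE T = J := je_of_le hT1 inf_le_left
    refine ⟨c, centralizer_le (by exact_mod_cast hBT) hc, k * m, mul_mem (hTJ ▸ hk) ?_,
      by rw [hlm, hck, mul_assoc]⟩
    exact hTJ ▸ normalizer_le_je T hm
  · push Not at hLtop
    have hSB : (S : Subgroup G) ≤ normalizer (B : Set G) :=
      (le_normalizer.trans (normalizer_le_jhat _)).trans (normalizer_jhat_le_bhat _)
    have hJB : J ≤ centralizer (B : Set G) := (je_le_jhat _).trans (jhat_le_centralizer_bhat _)
    -- `J` centralises `V` and its conjugates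
    have hfin : ∀ V : Subgroup G, Cfsg.IsElementaryAbelian 2 V → V ≤ Q → (S : Subgroup G) ≤ normalizer (V : Set G) →
        Strong Q V → V ≤ B → ∀ x : G, x ∈ centralizer (V : Set G) := by
      intro V hV hVQ hSV hs hVB x
      have h := main hG hQC S hV hVQ hSV hs hVB (hJB.trans (centralizer_le (by exact_mod_cast hVB))) IND
      haveI : (centralizer (normalClosure (V : Set G) : Set G)).Normal := Subgroup.normal_centralizer
      have hle : L ≤ centralizer (normalClosure (V : Set G) : Set G) := normalClosure_le_normal h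
      rw [hLtop] at hle
      exact centralizer_le subset_normalClosure (hle (mem_top x))
    by_cases hU : EGrp (Q ⊔ JHat (S : Subgroup G))
    · have hQJ : Q ≤ JHat (S : Subgroup G) := le_sup_left.trans
        (le_sSup ⟨sup_le hQS (jhat_le _), hU, (je_le_jhat _).trans le_sup_right⟩)
      have hQB : Q ≤ centralizer (B : Set G) := hQJ.trans (jhat_le_centralizer_bhat _)
      refine ⟨g, hfin B (bhat_elementary _) ((le_centralizer_iff.1 hQB).trans hQC) hSB
        (fun R hR hA => absurd (hR.trans hQB) hA.2.2) le_rfl g, 1, one_mem _, (mul_one g).symm⟩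
    · exfalso
      simp only [EGrp, not_forall] at hU
      obtain ⟨V0, hV0U, hV0n, hV0e, hV0p, hV0c⟩ := hU
      set U := Q ⊔ JHat (S : Subgroup G)
      have hV0J : V0 ≤ J := by
        obtain ⟨E, hE⟩ := exists_maxEA (S : Subgroup G)
        have hEJ : E ≤ J := le_sSup hE
        exact ((maxEA_le hE hV0e (hV0U.trans (sup_le hQS (jhat_le _)))
          (hV0p.1.mono ((hEJ.trans (je_le_jhat _)).trans le_sup_right))).1.trans hEJ)
      have hJV0 : JHat (S : Subgroup G) ≤ centralizer (V0 : Set G) := by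
        refine sSup_le ?_
        rintro W ⟨hWS, hWe, hWJ⟩
        have hWU : W ≤ U := (le_sSup (show W ∈ {U | U ≤ (S : Subgroup G) ∧ EGrp U ∧ JE (S : Subgroup G) ≤ U} from
          ⟨hWS, hWe, hWJ⟩)).trans (le_sup_right : JHat (S : Subgroup G) ≤ U)
        exact hWe V0 (hV0J.trans hWJ) (hWU.trans hV0n) hV0e (hV0p.mono hWU)
      have hV0B : V0 ≤ B := le_bhat hV0e (hV0J.trans (je_le_jhat _)) hJV0
      set s : Set (Subgroup G) := (fun x : G => V0.map (MulAut.conj x).toMonoidHom) '' ((S : Subgroup G) : Set G)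
      have hsB : ∀ W ∈ s, W ≤ B := by
        rintro _ ⟨x, hx, rfl⟩ _ ⟨v, hv, rfl⟩
        exact (mem_normalizer_iff.1 (hSB hx) v).1 (hV0B hv)
      haveI := (bhat_elementary (S : Subgroup G)).1
      obtain ⟨hVe, hVs⟩ := strong_sSup (P := Q) s (by
          rintro _ ⟨x, hx, rfl⟩
          exact ⟨Thompson.isEA_map _ hV0e, (hV0p.1.mono le_sup_left).conj (by rw [normalizer_eq_top]; trivial)⟩)
        fun W hW W' hW' w hw => mem_centralizer_iff.2 fun w' hw' =>
          setLike_mul_comm (hsB W' hW' hw') (hsB W hW hw)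
      have hSV : (S : Subgroup G) ≤ normalizer ((sSup s : Subgroup G) : Set G) := by
        refine le_normalizer_iff.2 fun x hx v hv => ?_
        have hle : sSup s ≤ (sSup s).comap (MulAut.conj x).toMonoidHom := sSup_le (by
          rintro _ ⟨z, hz, rfl⟩ _ ⟨w, hw, rfl⟩
          refine le_sSup (show V0.map (MulAut.conj (x * z)).toMonoidHom ∈ s from ⟨x * z, mul_mem hx hz, rfl⟩) ⟨w, hw, ?_⟩
          simp [mul_assoc])
        exact hle hv
      have hVQ := le_core hG hQC S hVe hSV hVs
      refine hV0c fun x _ => centralizer_le ?_ (hfin _ hVe hVQ hSV hVs (sSup_le hsB) x)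
      exact_mod_cast (le_sSup (show V0 ∈ s from ⟨1, one_mem _, SylowIn.map_conj_one V0⟩) : V0 ≤ sSup s)

end CfsgLib.LocalEven.TwoFactor
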