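import Cfsg.Agent.Lib.LocalEven.TwoFactor.GoodPair
import Cfsg.Agent.Lib.Coprime.Action
import Cfsg.Agent.Lib.Solvable.FrattiniFitting

/-!
An elementary abelian 2-subgroup `A` of an `S₃`-free group with trivial 2-core and known components has a conjugate
`A^g` such that no 2-group normalised by both meets `A`.
-/

set_option autoImplicit false
set_option linter.style.haveILetI false
set_option linter.unusedSectionVars false

namespace CfsgLib.LocalEven.TwoFactor

open Subgroup CfsgLib.Components CfsgLib.LocalEven.SFreeOffender CfsgLib.Solvable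
open scoped commutatorElement

universe u

variable {G : Type u} [Group G] [Finite G]

/-- An element of an abelian group of odd order having the smallest possible stabiliser. -/
theorem exists_regular {A : Subgroup G} (hA : Cfsg.IsElementaryAbelian 2 A) :
    ∀ M : Subgroup G, IsMulCommutative M → Odd (Nat.card M) → A ≤ normalizer (M : Set G) →
      ∃ f ∈ M, ∀ a ∈ A, a * f = f * a → a ∈ centralizer (M : Set G) := by
  haveI := hA.1
  intro M
  induction hn : Nat.card M using Nat.strong_induction_on generalizing M with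
  | _ n IH => ?_
  subst hn
  intro hMc hodd hAM
  haveI := hMc
  have hconj : ∀ a ∈ A, ∀ m ∈ M, a * m * a⁻¹ ∈ M := fun a ha m hm => (mem_normalizer_iff.1 (hAM ha) m).1 hm
  have hmc : ∀ x ∈ M, ∀ y ∈ M, x * y = y * x := fun x hx y hy => setLike_mul_comm hx hy
  by_cases hex : ∃ a ∈ A, a ∉ centralizer (M : Set G) ∧ ∃ m ∈ M, m ≠ 1 ∧ a * m = m * a
  · obtain ⟨a, ha, hanc, m₀, hm₀, hm₀1, hm₀a⟩ := hex
    let C : Subgroup G := M ⊓ centralizer {a}
    let I : Subgroup G :=
      { carrier := {m | m ∈ M ∧ a * m * a⁻¹ = m⁻¹}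
        one_mem' := ⟨one_mem M, by simp⟩
        mul_mem' := fun {x y} hx hy => ⟨mul_mem hx.1 hy.1, by
          rw [show a * (x * y) * a⁻¹ = (a * x * a⁻¹) * (a * y * a⁻¹) by group, hx.2, hy.2, mul_inv_rev,
            hmc _ (inv_mem hx.1) _ (inv_mem hy.1)]⟩
        inv_mem' := fun {x} hx => ⟨inv_mem hx.1, by
          rw [show a * x⁻¹ * a⁻¹ = (a * x * a⁻¹)⁻¹ by group, hx.2]⟩ }
    have hCM : C ≤ M := inf_le_left
    have hIM : I ≤ M := fun x hx => hx.1
    have hCI : ∀ x ∈ C, x ∈ I → x = 1 := by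
      intro x hx hxI
      have h1 : a * x * a⁻¹ = x := by
        rw [← mem_centralizer_singleton_iff.1 hx.2, mul_inv_cancel_right]
      have h2 : x ^ 2 = 1 := by rw [pow_two, mul_eq_one_iff_eq_inv, ← hxI.2, h1]
      exact orderOf_eq_one_iff.1 (Nat.eq_one_of_dvd_coprimes (Nat.coprime_two_left.2 hodd)
        (orderOf_dvd_of_pow_eq_one h2) (Subgroup.orderOf_dvd_natCard M hx.1))
    have ha2 : a * a = 1 := by rw [← pow_two]; exact hA.2 a ha
    have hai : a⁻¹ = a := inv_eq_of_mul_eq_one_right ha2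
    have hdec : ∀ x ∈ M, ∃ c ∈ C, ∃ i ∈ I, x = c * i := by
      intro x hx
      obtain ⟨k, hk⟩ := hodd
      have hxy : x * (a * x * a⁻¹) = (a * x * a⁻¹) * x := hmc _ hx _ (hconj a ha x hx)
      have hxx : a * (a * x * a⁻¹) * a⁻¹ = x := by
        rw [show a * (a * x * a⁻¹) * a⁻¹ = (a * a) * x * (a * a)⁻¹ by group, ha2]; group
      refine ⟨(x * (a * x * a⁻¹)) ^ (k + 1), pow_mem (mem_inf.2 ⟨mul_mem hx (hconj a ha x hx),
        mem_centralizer_singleton_iff.2 ?_⟩) _,
        (x * (a * x * a⁻¹)⁻¹) ^ (k + 1),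
        pow_mem (show x * (a * x * a⁻¹)⁻¹ ∈ I from ⟨mul_mem hx (inv_mem (hconj a ha x hx)), ?_⟩) _, ?_⟩
      · refine (mul_inv_eq_iff_eq_mul.1 ?_).symm
        rw [show a * (x * (a * x * a⁻¹)) * a⁻¹ = (a * x * a⁻¹) * (a * (a * x * a⁻¹) * a⁻¹) by group, hxx,
          ← hxy]
      · rw [show a * (x * (a * x * a⁻¹)⁻¹) * a⁻¹ = (a * x * a⁻¹) * (a * (a * x * a⁻¹) * a⁻¹)⁻¹ by group, hxx]
        group
      · have hc : Commute (x * (a * x * a⁻¹)) (x * (a * x * a⁻¹)⁻¹) :=
          hmc _ (mul_mem hx (hconj a ha x hx)) _ (mul_mem hx (inv_mem (hconj a ha x hx)))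
        rw [← hc.mul_pow, show x * (a * x * a⁻¹) * (x * (a * x * a⁻¹)⁻¹) = x ^ 2 by
          rw [pow_two, show x * (a * x * a⁻¹) * (x * (a * x * a⁻¹)⁻¹) =
            x * ((a * x * a⁻¹) * x) * (a * x * a⁻¹)⁻¹ by group, ← hxy]
          group]
        rw [← pow_mul, show 2 * (k + 1) = Nat.card M + 1 by omega, pow_succ,
          show x ^ Nat.card M = 1 from orderOf_dvd_iff_pow_eq_one.1 (Subgroup.orderOf_dvd_natCard M hx), one_mul]
    have hC' : A ≤ normalizer (C : Set G) := by
      refine le_normalizer_iff.2 fun b hb x hx => ?_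
      refine mem_inf.2 ⟨hconj b hb x hx.1, mem_centralizer_singleton_iff.2 ?_⟩
      have hab : a * b = b * a := setLike_mul_comm ha hb
      have hxa := mem_centralizer_singleton_iff.1 hx.2
      calc b * x * b⁻¹ * a = b * x * (b⁻¹ * a) := by group
        _ = b * x * (a * b⁻¹) := by rw [setLike_mul_comm (inv_mem hb) ha]
        _ = b * (x * a) * b⁻¹ := by group
        _ = b * (a * x) * b⁻¹ := by rw [hxa]
        _ = (b * a) * x * b⁻¹ := by group
        _ = _ := by rw [← hab]; group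
    have hI' : A ≤ normalizer (I : Set G) := by
      refine le_normalizer_iff.2 fun b hb x hx => ⟨hconj b hb x hx.1, ?_⟩
      have hab : a * b = b * a := setLike_mul_comm ha hb
      calc a * (b * x * b⁻¹) * a⁻¹ = (a * b) * x * (a * b)⁻¹ := by group
        _ = b * (a * x * a⁻¹) * b⁻¹ := by rw [hab]; group
        _ = _ := by rw [hx.2]; group
    have hClt : Nat.card C < Nat.card M := by
      refine lt_of_le_of_ne (Subgroup.card_le_of_le hCM) fun h => hanc (mem_centralizer_iff.2 fun x hx => ?_)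
      have hx' : x ∈ C := (Subgroup.eq_of_le_of_card_ge hCM h.ge).symm ▸ hx
      exact mem_centralizer_singleton_iff.1 hx'.2
    have hIlt : Nat.card I < Nat.card M := by
      refine lt_of_le_of_ne (Subgroup.card_le_of_le hIM) fun h => hm₀1 ?_
      have hm' : m₀ ∈ I := (Subgroup.eq_of_le_of_card_ge hIM h.ge).symm ▸ hm₀
      exact hCI m₀ (mem_inf.2 ⟨hm₀, mem_centralizer_singleton_iff.2 hm₀a.symm⟩) hm'
    have hsub : ∀ H : Subgroup G, H ≤ M → IsMulCommutative H ∧ Odd (Nat.card H) := fun H h =>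
      ⟨⟨⟨fun p q => Subtype.ext (hmc _ (h p.2) _ (h q.2))⟩⟩, hodd.of_dvd_nat (Subgroup.card_dvd_of_le h)⟩
    obtain ⟨c, hc, hcf⟩ := IH _ hClt C rfl (hsub C hCM).1 (hsub C hCM).2 hC'
    obtain ⟨i, hi, hif⟩ := IH _ hIlt I rfl (hsub I hIM).1 (hsub I hIM).2 hI'
    refine ⟨c * i, mul_mem (hCM hc) (hIM hi), fun b hb hfix => ?_⟩
    have h1 : (b * c * b⁻¹) * (b * i * b⁻¹) = c * i := by
      rw [show b * c * b⁻¹ * (b * i * b⁻¹) = b * (c * i) * b⁻¹ by group, hfix, mul_inv_cancel_right]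
    have h2 : c⁻¹ * (b * c * b⁻¹) = i * (b * i * b⁻¹)⁻¹ := by
      rw [eq_mul_inv_iff_mul_eq, mul_assoc, h1, inv_mul_cancel_left]
    have h3 : c⁻¹ * (b * c * b⁻¹) = 1 := hCI _ (mul_mem (inv_mem hc) ((mem_normalizer_iff.1 (hC' hb) c).1 hc))
      (h2 ▸ mul_mem hi (inv_mem ((mem_normalizer_iff.1 (hI' hb) i).1 hi)))
    rw [h3] at h2
    have hbc := hcf b hb (mul_inv_eq_iff_eq_mul.1 (inv_mul_eq_one.1 h3).symm)
    have hbi := hif b hb (mul_inv_eq_iff_eq_mul.1 (mul_inv_eq_one.1 h2.symm).symm)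
    refine mem_centralizer_iff.2 fun x hx => ?_
    obtain ⟨p, hp, q, hq, rfl⟩ := hdec x hx
    exact ((show Commute p b from mem_centralizer_iff.1 hbc p hp).mul_left
      (mem_centralizer_iff.1 hbi q hq)).eq
  · push Not at hex
    rcases eq_or_ne M ⊥ with rfl | hM1
    · exact ⟨1, one_mem _, fun a _ _ => mem_centralizer_iff.2 fun x hx => by
        rw [mem_bot.1 hx, one_mul, mul_one]⟩
    obtain ⟨f, hf, hf1⟩ := M.bot_or_exists_ne_one.resolve_left hM1
    exact ⟨f, hf, fun a ha hfix => by_contra fun h => hex a ha h f hf hf1 hfix⟩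

/-- An element of the Fitting subgroup whose centraliser in `A` centralises the Fitting subgroup. -/
theorem exists_regular_fitting (h2 : Cfsg.pCore 2 G = ⊥) {A : Subgroup G} (hA : Cfsg.IsElementaryAbelian 2 A) :
    ∃ f ∈ Cfsg.fittingSubgroup G, ∀ a ∈ A, a * f = f * a → a ∈ centralizer (Cfsg.fittingSubgroup G : Set G) := by
  haveI := hA.1
  set F := Cfsg.fittingSubgroup G with hF
  haveI : F.Normal := Cores.fittingSubgroup_normal
  haveI : Group.IsNilpotent F := Cores.fittingSubgroup_isNilpotent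
  set Φ := (frattini F).map F.subtype with hΦ
  haveI : Φ.Normal := normalizer_eq_top_iff.1 (eq_top_iff.2 fun g _ =>
    map_subtype_normal_of_characteristic (by rw [normalizer_eq_top]; trivial))
  set q := QuotientGroup.mk' Φ
  have hFc : IsMulCommutative (F.map q) := ⟨⟨by
    rintro ⟨_, x, hx, rfl⟩ ⟨_, y, hy, rfl⟩
    refine Subtype.ext ?_
    show q x * q y = q y * q x
    rw [← commutatorElement_eq_one_iff_mul_comm, ← map_commutatorElement]
    refine (QuotientGroup.eq_one_iff _).2 ⟨⁅(⟨x, hx⟩ : F), ⟨y, hy⟩⁆,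
      FrattiniFitting.commutator_le_frattini (commutator_mem_commutator (mem_top _) (mem_top _)), rfl⟩⟩⟩
  have hA' : Cfsg.IsElementaryAbelian 2 (A.map q) := by
    refine ⟨⟨⟨?_⟩⟩, ?_⟩
    · rintro ⟨_, x, hx, rfl⟩ ⟨_, y, hy, rfl⟩
      exact Subtype.ext (by simp only [Subgroup.coe_mul, ← map_mul, setLike_mul_comm hx hy])
    · rintro _ ⟨x, hx, rfl⟩
      rw [← map_pow, hA.2 x hx, map_one]
  have hodd : Odd (Nat.card (F.map q)) := (odd_card_fitting h2).of_dvd_nat (Subgroup.card_map_dvd _ _)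
  have hAF : A ≤ normalizer (F : Set G) := by rw [normalizer_eq_top]; exact le_top
  obtain ⟨_, ⟨f, hf, rfl⟩, hff⟩ := exists_regular hA' (F.map q) hFc hodd
    ((map_mono hAF).trans (le_normalizer_map q))
  refine ⟨f, hf, fun a ha haf => ?_⟩
  have hz := hff (q a) ⟨a, ha, rfl⟩ (by rw [← map_mul, haf, map_mul])
  have hle : zpowers a ≤ centralizer (F : Set G) := by
    refine CfsgLib.Coprime.le_centralizer_of_frattini (zpowers_le.2 (hAF ha)) ?_ fun b hb k hk => ?_
    · rw [Nat.card_zpowers]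
      refine Nat.Coprime.coprime_dvd_left (orderOf_dvd_of_pow_eq_one (hA.2 a ha)) ?_
      exact Nat.coprime_two_left.2 ((odd_card_fitting h2).of_dvd_nat (Subgroup.card_subgroup_dvd_card _))
    · have hb' : q b ∈ centralizer (F.map q : Set (G ⧸ Φ)) := by
        obtain ⟨i, rfl⟩ := mem_zpowers_iff.1 hb
        rw [map_zpow]; exact zpow_mem hz i
      rw [← QuotientGroup.eq_one_iff]
      show q ⁅b, k⁆ = 1
      rw [map_commutatorElement, commutatorElement_eq_one_iff_mul_comm]
      exact (mem_centralizer_iff.1 hb' (q k) ⟨k, hk, rfl⟩).symm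
  exact hle (mem_zpowers a)

/-- The local element for one component. -/
theorem exists_component_element (hS : ¬ Cfsg.Involves (Equiv.Perm (Fin 3)) G) (hc : CG G)
    {A : Subgroup G} (hA : Cfsg.IsElementaryAbelian 2 A) {K : Subgroup G} (hK : Cfsg.IsComponent K) :
    ∃ v ∈ K, (∀ k : ℕ, v ^ 2 ^ k ∉ centralizer (K : Set G)) ∧
      ∀ g : G, v⁻¹ * g ∈ centralizer (K : Set G) → ∀ P : Subgroup G, IsPGroup 2 P → A ≤ normalizer (P : Set G) →
        A.map (MulAut.conj g).toMonoidHom ≤ normalizer (P : Set G) →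
          ∀ a ∈ A, a ∈ P → a ∈ normalizer (K : Set G) → a ∈ centralizer (K : Set G) := by
  haveI := hA.1
  haveI := hK.2.2
  haveI := hK.2.1
  have hnc : ¬ IsMulCommutative (K ⧸ center K) := fun hcm => by
    have hle : commutator K ≤ center K := by
      rw [← Subgroup.Normal.quotient_commutative_iff_commutator_le]
      exact ⟨hcm.is_comm⟩
    have htop : center K = ⊤ := top_le_iff.1 ((Group.isPerfect_def.1 hK.2.1).symm.le.trans hle)
    have hss : Subsingleton (K ⧸ center K) := by rw [htop]; exact QuotientGroup.subsingleton_quotient_top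
    exact false_of_nontrivial_of_subsingleton (K ⧸ center K)
  have hgood := goodPair_of_known hnc (hc K hK.1 (center K) inferInstance hnc)
  set π := QuotientGroup.mk' (center K) with hπ
  set AK := A ⊓ normalizer (K : Set G) with hAKdef
  set AK' := AK.subgroupOf (normalizer (K : Set G)) with hAK'
  set B := AK'.map (quotAct K) with hB
  have hA2 : ∀ g ∈ A, g * g = 1 := fun g hg => by rw [← pow_two]; exact hA.2 g hg
  have hBe : Cfsg.IsElementaryAbelian 2 B := by
    refine ⟨⟨⟨?_⟩⟩, ?_⟩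
    · rintro ⟨_, a, ha, rfl⟩ ⟨_, b, hb, rfl⟩
      refine Subtype.ext ?_
      simp only [Subgroup.coe_mul, ← map_mul]
      congr 1
      exact Subtype.ext (setLike_mul_comm (mem_inf.1 ha).1 (mem_inf.1 hb).1)
    · rintro _ ⟨a, ha, rfl⟩
      rw [← map_pow, show a ^ 2 = 1 from Subtype.ext (hA.2 a (mem_inf.1 ha).1), map_one]
  have hnob : ∀ b ∈ B, ∀ y : K ⧸ center K, orderOf y = 3 → b y ≠ y⁻¹ := by
    rintro _ ⟨⟨a, haN⟩, ha, rfl⟩ y hy hbad
    have ha2 := hA2 a (mem_inf.1 ha).1
    obtain ⟨w, rfl⟩ := QuotientGroup.mk'_surjective (center K) y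
    set e : K →* K := (normalizerMonoidHom K ⟨a, haN⟩).toMonoidHom
    have hee : ∀ x, e (e x) = x := fun x => Subtype.ext (by
      show a * (a * x * a⁻¹) * a⁻¹ = x
      calc _ = (a * a) * x * (a * a)⁻¹ := by group
        _ = _ := by rw [ha2]; group)
    set u := w⁻¹ * e w
    have hπe : π (e w) = (π w)⁻¹ := hbad
    have hu : orderOf (π u) = 3 := by
      rw [map_mul, map_inv, hπe, ← pow_two, inv_pow, orderOf_inv]
      rw [orderOf_pow' _ two_ne_zero, hy]
      rfl
    obtain ⟨j, hj, hj1⟩ := exists_ppart (G := K) π u Nat.prime_three hu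
    have heu : e u = u⁻¹ := by simp only [u, map_mul, map_inv, hee, mul_inv_rev, inv_inv]
    have h3 : a * ((u ^ j : K) : G) * a⁻¹ = ((u ^ j : K) : G)⁻¹ := by
      show ((e (u ^ j) : K) : G) = _
      rw [map_pow, heu, inv_pow, Subgroup.coe_inv]
    refine hj1 ?_
    rw [show u ^ j = 1 from Subtype.ext (not_inverted_three hS ha2
      (by rw [orderOf_coe]; exact hj) h3), map_one]
  obtain ⟨gbar, hg1, hgo, hgP⟩ := hgood B hBe hnob
  obtain ⟨v, hv⟩ := QuotientGroup.mk'_surjective (center K) gbar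
  refine ⟨v, v.2, fun k hk => ?_, ?_⟩
  · have h1 : gbar ^ 2 ^ k = 1 := by
      rw [← hv, ← map_pow]
      exact (QuotientGroup.eq_one_iff _).2 (mem_center_iff.2 fun z => Subtype.ext
        (mem_centralizer_iff.1 hk z z.2))
    exact hg1 (orderOf_eq_one_iff.1 (Nat.eq_one_of_dvd_coprimes
      ((Nat.coprime_two_left.2 hgo).pow_left k) (orderOf_dvd_of_pow_eq_one h1) dvd_rfl))
  intro g hg P hP hAP hAgP a haA haP haN
  have hgN : g ∈ normalizer (K : Set G) := by
    have := mul_mem (le_normalizer v.2) (centralizer_le_normalizer _ hg)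
    rwa [mul_inv_cancel_left] at this
  have hgact : quotAct K ⟨g, hgN⟩ = MulAut.conj gbar := MulEquiv.ext fun x => by
    obtain ⟨x, rfl⟩ := QuotientGroup.mk'_surjective (center K) x
    rw [MulAut.conj_apply, ← hv, ← map_inv, ← map_mul, ← map_mul]
    refine (quotAct_apply K _ x).trans (congrArg π (Subtype.ext ?_))
    show g * x * g⁻¹ = (v : G) * x * (v : G)⁻¹
    have h := mem_centralizer_iff.1 hg x x.2
    calc g * x * g⁻¹ = (v : G) * (((v : G)⁻¹ * g) * x) * ((v : G)⁻¹ * g)⁻¹ * (v : G)⁻¹ := by group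
      _ = _ := by rw [← h]; group
  set P' := P.subgroupOf (normalizer (K : Set G))
  have hP' : IsPGroup 2 P' := hP.comap_of_injective _ (subtype_injective _)
  have hn1 : AK' ≤ normalizer (P' : Set _) := fun x hx => mem_normalizer_iff.2 fun n => by
    simp only [P', mem_subgroupOf, Subgroup.coe_mul, Subgroup.coe_inv]
    exact mem_normalizer_iff.1 (hAP (mem_inf.1 (show (x : G) ∈ AK from hx)).1) n
  have hn2 : AK'.map (MulAut.conj (⟨g, hgN⟩ : normalizer (K : Set G))).toMonoidHom ≤ normalizer (P' : Set _) := by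
    rintro _ ⟨x, hx, rfl⟩
    refine mem_normalizer_iff.2 fun n => ?_
    simp only [P', mem_subgroupOf, Subgroup.coe_mul, Subgroup.coe_inv]
    exact mem_normalizer_iff.1 (hAgP ⟨x, (mem_inf.1 (show (x : G) ∈ AK from hx)).1, rfl⟩) n
  have hbot := hgP (P'.map (quotAct K)) (hP'.map _)
    ((map_mono hn1).trans (le_normalizer_map _)) (by
      refine le_trans (le_of_eq ?_) ((map_mono hn2).trans (le_normalizer_map _))
      rw [hB, map_map, map_map]
      congr 1
      ext x : 1
      show MulAut.conj (MulAut.conj gbar) (quotAct K x) = quotAct K (MulAut.conj ⟨g, hgN⟩ x)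
      simp only [MulAut.conj_apply, map_mul, map_inv, hgact])
  have htriv : quotAct K ⟨a, haN⟩ = 1 := mem_bot.1 (hbot ▸ mem_inf.2
    ⟨⟨⟨a, haN⟩, mem_inf.2 ⟨haA, haN⟩, rfl⟩, ⟨⟨a, haN⟩, haP, rfl⟩⟩)
  -- an automorphism of the perfect group `K` trivial modulo the centre is trivial
  set e : K →* K := (normalizerMonoidHom K ⟨a, haN⟩).toMonoidHom
  have hec : ∀ x, x⁻¹ * e x ∈ center K := fun x => by
    rw [← QuotientGroup.eq]
    exact (DFunLike.congr_fun htriv (π x)).symm
  let φ : K →* center K := MonoidHom.mk' (fun x => ⟨x⁻¹ * e x, hec x⟩) fun x y => Subtype.ext (by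
    show (x * y)⁻¹ * e (x * y) = x⁻¹ * e x * (y⁻¹ * e y)
    rw [map_mul, mul_inv_rev, show y⁻¹ * x⁻¹ * (e x * e y) = y⁻¹ * (x⁻¹ * e x) * e y by group,
      mem_center_iff.1 (hec x) y⁻¹]
    group)
  have hφ : commutator K ≤ φ.ker := by
    rw [commutator_def, Subgroup.commutator_le]
    intro x _ y _
    rw [MonoidHom.mem_ker, map_commutatorElement, commutatorElement_eq_one_iff_mul_comm]
    exact Subtype.ext (mem_center_iff.1 (φ y).2 (φ x).1)
  refine mem_centralizer_iff.2 fun x hx => ?_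
  have h1 : φ ⟨x, hx⟩ = 1 := hφ (((Group.isPerfect_def.1 hK.2.1) : commutator K = ⊤) ▸ mem_top _)
  have h2 : (x : G) = a * x * a⁻¹ := congrArg Subtype.val (inv_mul_eq_one.1 (congrArg Subtype.val h1))
  calc x * a = (a * x * a⁻¹) * a := by rw [← h2]
    _ = a * x := by group

/-- The separating conjugate. -/
theorem twoConj (h2 : Cfsg.pCore 2 G = ⊥) (hS : ¬ Cfsg.Involves (Equiv.Perm (Fin 3)) G) (hc : CG G)
    {A : Subgroup G} (hA : Cfsg.IsElementaryAbelian 2 A) :
    ∃ g : G, ∀ P : Subgroup G, IsPGroup 2 P → A ≤ normalizer (P : Set G) →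
      A.map (MulAut.conj g).toMonoidHom ≤ normalizer (P : Set G) → A ⊓ P = ⊥ := by
  classical
  haveI := hA.1
  haveI : Fact (Nat.Prime 2) := ⟨Nat.prime_two⟩
  let O : Subgroup G → Set (Subgroup G) := fun K => {L | ∃ a ∈ A, K.map (MulAut.conj a).toMonoidHom = L}
  let rep : Subgroup G → Subgroup G := fun K => Classical.epsilon (· ∈ O K)
  have hrep : ∀ K, rep K ∈ O K := fun K =>
    Classical.epsilon_spec (p := (· ∈ O K)) ⟨K, 1, one_mem A, by rw [map_one]; exact map_id K⟩
  have hO : ∀ (K : Subgroup G), ∀ a ∈ A, O (K.map (MulAut.conj a).toMonoidHom) = O K := by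
    intro K a ha
    have hcomp : ∀ x y : G, (K.map (MulAut.conj x).toMonoidHom).map (MulAut.conj y).toMonoidHom =
        K.map (MulAut.conj (y * x)).toMonoidHom := fun x y => by rw [map_map, map_mul]; rfl
    ext L
    constructor
    · rintro ⟨b, hb, rfl⟩; exact ⟨b * a, mul_mem hb ha, (hcomp a b).symm⟩
    · rintro ⟨b, hb, rfl⟩
      exact ⟨b * a⁻¹, mul_mem hb (inv_mem ha), (hcomp a _).trans (by rw [inv_mul_cancel_right])⟩
  have hrepc : ∀ (K : Subgroup G), ∀ a ∈ A, rep (K.map (MulAut.conj a).toMonoidHom) = rep K := fun K a ha => by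
    simp only [rep, hO K a ha]
  choose v hvK hv1 hvP using fun (K : {K : Subgroup G // Cfsg.IsComponent K}) =>
    exists_component_element hS hc hA K.2
  obtain ⟨c, hcL, hc'⟩ : ∃ c : G, c ∈ Cfsg.layer G ∧ ∀ K : {K : Subgroup G // Cfsg.IsComponent K},
      (rep K.1 = K.1 → (v K)⁻¹ * c ∈ centralizer (K.1 : Set G)) ∧
      (rep K.1 ≠ K.1 → c ∈ centralizer (K.1 : Set G)) := by
    haveI : Fintype {K : Subgroup G // Cfsg.IsComponent K} := Fintype.ofFinite _
    suffices h : ∀ s : Finset {K : Subgroup G // Cfsg.IsComponent K}, ∃ c : G, c ∈ Cfsg.layer G ∧ ∀ K,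
        (K ∈ s → (v K)⁻¹ * c ∈ centralizer (K.1 : Set G)) ∧ (K ∉ s → c ∈ centralizer (K.1 : Set G)) by
      obtain ⟨c, h1, h2⟩ := h (Finset.univ.filter fun K => rep K.1 = K.1)
      exact ⟨c, h1, fun K => ⟨fun h => (h2 K).1 (by simp [h]), fun h => (h2 K).2 (by simp [h])⟩⟩
    intro s
    induction s using Finset.induction_on with
    | empty => exact ⟨1, one_mem _, fun K => ⟨fun h => by simp at h, fun _ => one_mem _⟩⟩
    | @insert K0 s hK0 ih =>
      obtain ⟨c, hcL, hc'⟩ := ih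
      refine ⟨v K0 * c, mul_mem (IsComponent.le_layer K0.2 (hvK K0)) hcL, fun K => ⟨fun hK => ?_, fun hK => ?_⟩⟩
      · rcases Finset.mem_insert.1 hK with rfl | hK
        · rw [inv_mul_cancel_left]; exact (hc' K).2 hK0
        · have hne : K0 ≠ K := fun e => hK0 (e ▸ hK)
          have hle := IsComponent.le_centralizer_of_ne K0.2 K.2 fun e => hne (Subtype.ext e)
          rw [← mul_assoc, show (v K)⁻¹ * v K0 = v K0 * (v K)⁻¹ from
            mem_centralizer_iff.1 (hle (hvK K0)) _ (inv_mem (hvK K)), mul_assoc]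
          exact mul_mem (hle (hvK K0)) ((hc' K).1 hK)
      · rw [Finset.mem_insert, not_or] at hK
        exact mul_mem (IsComponent.le_centralizer_of_ne K0.2 K.2 (fun e => hK.1 (Subtype.ext e.symm)) (hvK K0))
          ((hc' K).2 hK.2)
  obtain ⟨f, hf, hff⟩ := exists_regular_fitting h2 hA
  have hLF := layer_le_centralizer_fitting (G := G)
  have hfK : ∀ K : Subgroup G, Cfsg.IsComponent K → f ∈ centralizer (K : Set G) := fun K hK =>
    mem_centralizer_iff.2 fun x hx => (mem_centralizer_iff.1 (hLF (IsComponent.le_layer hK hx)) f hf).symm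
  refine ⟨f * c, fun P hP hAP hAgP => ?_⟩
  rw [Subgroup.eq_bot_iff_forall]
  intro a ha
  obtain ⟨haA, haP⟩ := mem_inf.1 ha
  have ha2 : a * a = 1 := by rw [← pow_two]; exact hA.2 a haA
  have hai : a⁻¹ = a := inv_eq_of_mul_eq_one_right ha2
  -- the product with the conjugate is a `2`-element
  obtain ⟨k, hk⟩ : ∃ k, (a * ((f * c) * a * (f * c)⁻¹)) ^ 2 ^ k = 1 := by
    have hQ : IsPGroup 2 (P ⊔ A.map (MulAut.conj (f * c)).toMonoidHom : Subgroup G) :=
      hP.to_sup_of_normal_left' (IsPGroup.map (fun x => ⟨1, Subtype.ext (by simpa using hA.2 x x.2)⟩) _) hAgP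
    obtain ⟨k, hk⟩ := hQ ⟨_, mul_mem (mem_sup_left haP) (mem_sup_right ⟨a, haA, rfl⟩)⟩
    exact ⟨k, congrArg Subtype.val hk⟩
  have hlayer : ∀ K : Subgroup G, Cfsg.IsComponent K → a ∈ centralizer (K : Set G) := by
    intro K0 hK0
    by_contra hnot
    obtain ⟨d, hd, hdK⟩ := hrep K0
    set K := rep K0 with hKdef
    have hKc : Cfsg.IsComponent K := hdK ▸ IsComponent.conj hK0 d
    have hrK : rep K = K := by rw [← hdK, hrepc K0 d hd, hdK]
    have hnotK : a ∉ centralizer (K : Set G) := by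
      intro h
      refine hnot (mem_centralizer_iff.2 fun x hx => ?_)
      have h' := mem_centralizer_iff.1 h (d * x * d⁻¹) (hdK ▸ ⟨x, hx, rfl⟩)
      have hda : d * a = a * d := setLike_mul_comm hd haA
      calc x * a = d⁻¹ * ((d * x * d⁻¹) * (d * a)) := by group
        _ = d⁻¹ * (((d * x * d⁻¹) * a) * d) := by rw [hda]; group
        _ = d⁻¹ * ((a * (d * x * d⁻¹)) * d) := by rw [h']
        _ = d⁻¹ * (a * d) * x := by group
        _ = a * x := by rw [← hda]; group
    set Kc : {K : Subgroup G // Cfsg.IsComponent K} := ⟨K, hKc⟩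
    have hvc : (v Kc)⁻¹ * c ∈ centralizer (K : Set G) := (hc' Kc).1 hrK
    have hgK : (v Kc)⁻¹ * (f * c) ∈ centralizer (K : Set G) := by
      rw [← mul_assoc, show (v Kc)⁻¹ * f = f * (v Kc)⁻¹ from
        mem_centralizer_iff.1 (hfK K hKc) _ (inv_mem (hvK Kc)), mul_assoc]
      exact mul_mem (hfK K hKc) hvc
    by_cases haN : a ∈ normalizer (K : Set G)
    · exact hnotK (hvP Kc (f * c) hgK P hP hAP hAgP a haA haP haN)
    · set K' := K.map (MulAut.conj a).toMonoidHom with hK'
      have hne : K' ≠ K := fun h => haN (Subgroup.mem_normalizer_iff_map_conj_eq.mpr h)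
      have hK'c : Cfsg.IsComponent K' := IsComponent.conj hKc a
      have hrK' : rep K' ≠ K' := by rw [hK', hrepc K a haA, hrK]; exact hne.symm
      have hgK' : f * c ∈ centralizer (K' : Set G) := mul_mem (hfK K' hK'c) ((hc' ⟨K', hK'c⟩).2 hrK')
      set g := f * c
      set u := a * (g * a * g⁻¹) with hu
      set w := v Kc
      have hz : w * u ∈ centralizer (K : Set G) := by
        refine mem_centralizer_iff.2 fun x hx => ?_
        set x1 := g⁻¹ * (u⁻¹ * 1) with hx1
        have h1 : g⁻¹ * x * g = w⁻¹ * x * w := by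
          have h := mem_centralizer_iff.1 hgK (w⁻¹ * x * w) (mul_mem (mul_mem (inv_mem (hvK Kc)) hx) (hvK Kc))
          calc g⁻¹ * x * g = (w⁻¹ * g)⁻¹ * ((w⁻¹ * x * w) * (w⁻¹ * g)) := by group
            _ = (w⁻¹ * g)⁻¹ * ((w⁻¹ * g) * (w⁻¹ * x * w)) := by rw [h]
            _ = _ := by group
        have h2 : g * (a * (w⁻¹ * x * w) * a⁻¹) * g⁻¹ = a * (w⁻¹ * x * w) * a⁻¹ := by
          rw [← mem_centralizer_iff.1 hgK' (a * (w⁻¹ * x * w) * a⁻¹)
            ⟨_, mul_mem (mul_mem (inv_mem (hvK Kc)) hx) (hvK Kc), rfl⟩, mul_inv_cancel_right]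
        have h3 : u * x * u⁻¹ = w⁻¹ * x * w := by
          calc u * x * u⁻¹ = a * (g * (a * (g⁻¹ * x * g) * a⁻¹) * g⁻¹) * a⁻¹ := by rw [hu]; group
            _ = a * (a * (w⁻¹ * x * w) * a⁻¹) * a⁻¹ := by rw [h1, h2]
            _ = (a * a) * (w⁻¹ * x * w) * (a * a)⁻¹ := by group
            _ = _ := by rw [ha2]; group
        calc x * (w * u) = w * (w⁻¹ * x * w) * u := by group
          _ = w * (u * x * u⁻¹) * u := by rw [h3]
          _ = _ := by group
      have hcom : Commute w⁻¹ (w * u) := mem_centralizer_iff.1 hz _ (inv_mem (hvK Kc))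
      refine hv1 Kc k ?_
      have h4 : u = w⁻¹ * (w * u) := (inv_mul_cancel_left _ _).symm
      rw [h4, hcom.mul_pow, inv_pow, inv_mul_eq_one] at hk
      show w ^ 2 ^ k ∈ centralizer (K : Set G)
      rw [hk]
      exact pow_mem hz _
  have hac : a * c = c * a := by
    have hle : Cfsg.layer G ≤ centralizer {a} := layer_le_iff.2 fun K hK x hx =>
      mem_centralizer_singleton_iff.2 (mem_centralizer_iff.1 (hlayer K hK) x hx)
    exact (mem_centralizer_singleton_iff.1 (hle hcL)).symm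
  have hu : a * ((f * c) * a * (f * c)⁻¹) = (a * f * a⁻¹) * f⁻¹ := by
    rw [hai]
    calc a * ((f * c) * a * (f * c)⁻¹) = a * f * (c * a * c⁻¹) * f⁻¹ := by group
      _ = a * f * a * f⁻¹ := by rw [← hac, mul_inv_cancel_right]
  haveI : (Cfsg.fittingSubgroup G).Normal := Cores.fittingSubgroup_normal
  have huF : (a * f * a⁻¹) * f⁻¹ ∈ Cfsg.fittingSubgroup G :=
    mul_mem ((inferInstance : (Cfsg.fittingSubgroup G).Normal).conj_mem f hf a) (inv_mem hf)
  rw [hu] at hk
  have hu1 : (a * f * a⁻¹) * f⁻¹ = 1 := orderOf_eq_one_iff.1 (Nat.eq_one_of_dvd_coprimes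
    ((Nat.coprime_two_left.2 (odd_card_fitting h2)).pow_left k) (orderOf_dvd_of_pow_eq_one hk)
    (Subgroup.orderOf_dvd_natCard _ huF))
  have haF := hff a haA (mul_inv_eq_iff_eq_mul.1 (mul_inv_eq_one.1 hu1))
  have haC : a ∈ centralizer (Cfsg.generalizedFittingSubgroup G : Set G) := by
    refine mem_centralizer_iff.2 fun x hx => ?_
    have hle : Cfsg.generalizedFittingSubgroup G ≤ centralizer {a} := sup_le
      (layer_le_iff.2 fun K hK y hy =>
        mem_centralizer_singleton_iff.2 (mem_centralizer_iff.1 (hlayer K hK) y hy))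
      (fun y hy => mem_centralizer_singleton_iff.2 (mem_centralizer_iff.1 haF y hy))
    exact mem_centralizer_singleton_iff.1 (hle hx)
  exact orderOf_eq_one_iff.1 (Nat.eq_one_of_dvd_coprimes (Nat.coprime_two_left.2 (odd_card_fitting h2))
    (orderOf_dvd_of_pow_eq_one (hA.2 a haA)) (Subgroup.orderOf_dvd_natCard _ (centralizer_generalizedFitting_le_fitting haC)))

end CfsgLib.LocalEven.TwoFactor
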